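import Groth.Agent.CMOpen5.Open
import Groth.Agent.CMOpen5.Affine
import Groth.Agent.FibDim.LocDim
import Groth.Agent.FibDim.AffineSpaceFibre

/-!
# The fibre dimension is constant near a Cohen-Macaulay point
-/

set_option autoImplicit false
set_option linter.style.haveILetI false
set_option backward.isDefEq.respectTransparency false
set_option backward.isDefEq.respectTransparency.types false
universe u

open CategoryTheory CategoryTheory.Limits AlgebraicGeometry Topology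

namespace Groth.Agent.Ega43Prop

variable {X Y : Scheme.{u}}

/-- Dimension of fibres of affine space over a ring. -/
theorem fibreDimAt_poly (R : CommRingCat.{u}) (n : ℕ)
    (y : Spec (CommRingCat.of (MvPolynomial (Fin n) R))) :
    FlatMor.fibreDimAt (Spec.map (CommRingCat.ofHom (algebraMap R (MvPolynomial (Fin n) R)))) y =
      ((n : ℕ∞) : WithBot ℕ∞) := by
  let g := 𝔸(ULift.{u} (Fin n); Spec R) ↘ Spec R
  have he : CMOpen5.chartA (𝟙 (Spec R)) n ≫ g =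
      Spec.map (CommRingCat.ofHom (algebraMap R (MvPolynomial (Fin n) R))) := by
    rw [CMOpen5.chartA_over]; exact Category.comp_id _
  rw [← he, FibDim.fibreDimAt_openImmersion_comp]
  obtain ⟨z, -, -, hz, h⟩ := FibDim.exists_fibMax_generization g (CMOpen5.chartA (𝟙 (Spec R)) n y)
  rw [h, FibDim.rd_affineSpace_fibMax (e := n) hz]

/-- At a quasi-finite point the fibre has dimension zero. -/
theorem fibreDimAt_eq_zero (f : X ⟶ Y) [LocallyOfFiniteType f] (x : X) (h : f.QuasiFiniteAt x) :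
    FlatMor.fibreDimAt f x = (((0 : ℕ) : ℕ∞) : WithBot ℕ∞) := by
  obtain ⟨z, -, -, -, hz⟩ := FibDim.exists_fibMax_generization f x
  refine le_antisymm ?_ (by rw [hz]; exact_mod_cast Nat.zero_le _)
  let U : TopologicalSpace.Opens ↥(f.fiber (f x)) :=
    ⟨{f.asFiber x}, Scheme.Hom.quasiFiniteAt_iff_isOpen_singleton_asFiber.1 h⟩
  refine iInf_le_of_le ⟨U, rfl⟩ ?_
  haveI : Subsingleton ↥(U : Set ↥(f.fiber (f x))) :=
    inferInstanceAs (Subsingleton ↥({f.asFiber x} : Set ↥(f.fiber (f x))))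
  haveI : Subsingleton (TopologicalSpace.IrreducibleCloseds ↥(U : Set ↥(f.fiber (f x)))) :=
    ⟨fun a b => TopologicalSpace.IrreducibleCloseds.ext (Set.ext fun w => by
      obtain ⟨v, hv⟩ := a.isIrreducible.nonempty
      obtain ⟨v', hv'⟩ := b.isIrreducible.nonempty
      exact iff_of_true (Subsingleton.elim v w ▸ hv) (Subsingleton.elim v' w ▸ hv'))⟩
  exact Order.krullDim_nonpos_of_subsingleton

/-- The fibre dimension near a Cohen-Macaulay point closed in its fibre is constant. -/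
theorem exists_nhd_fibreDimAt_of_closed (f : X ⟶ Y) [LocallyOfFinitePresentation f] (x₁ : X)
    (hx₁ : MoreMor.IsCMAt f x₁) (hcl : ∀ w, x₁ ⤳ w → f w = f x₁ → w = x₁) :
    ∃ (n : ℕ) (W : X.Opens), x₁ ∈ W ∧
      ∀ z ∈ W, (f.stalkMap z).hom.Flat ∧ FlatMor.fibreDimAt f z = ((n : ℕ∞) : WithBot ℕ∞) := by
  obtain ⟨V, hV, hxV, -⟩ := exists_isAffineOpen_mem_and_subset (U := (⊤ : Y.Opens)) (x := f x₁) trivial
  let F : X.Opens := ⟨{z | (f.stalkMap z).hom.Flat}, FlatLocus.isOpen_flat_locus f⟩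
  obtain ⟨U, hU, hxU, hUW⟩ := exists_isAffineOpen_mem_and_subset (U := F ⊓ f ⁻¹ᵁ V) (x := x₁) ⟨hx₁.1, hxV⟩
  have hUV : U ≤ f ⁻¹ᵁ V := fun z hz => (hUW hz).2
  letI : Algebra Γ(Y, V) Γ(X, U) := (f.appLE V U hUV).hom.toAlgebra
  haveI : Algebra.FinitePresentation Γ(Y, V) Γ(X, U) := f.finitePresentation_appLE hV hU hUV
  have hsq : hU.fromSpec ≫ f = Spec.map (CommRingCat.ofHom (algebraMap Γ(Y, V) Γ(X, U))) ≫ hV.fromSpec :=
    (hV.SpecMap_appLE_fromSpec f hU hUV).symm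
  haveI : Module.Flat Γ(Y, V) Γ(X, U) :=
    CMOpen5.flat_of_flat_stalks f hV hU hsq fun z hz => (hUW hz).1
  obtain ⟨q, rfl⟩ : x₁ ∈ Set.range hU.fromSpec := by rw [hU.range_fromSpec]; exact hxU
  obtain ⟨n, φ, hφflat, hφqf⟩ := CMOpen5.exists_flat_quasiFinite (R := Γ(Y, V)) (P := Γ(X, U)) q
    ((CMOpen5.isCMAt_chart f _ _ _ hsq q).1 hx₁) fun w hw hfw => by
      refine hU.fromSpec.isOpenEmbedding.injective (hcl _ (hw.map hU.fromSpec.continuous) ?_)
      rw [← Scheme.Hom.comp_apply, ← Scheme.Hom.comp_apply, hsq, Scheme.Hom.comp_apply, Scheme.Hom.comp_apply]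
      exact congrArg _ hfw
  haveI := CMOpen5.lfp_chart φ
  let φS := Spec.map (CommRingCat.ofHom φ.toRingHom)
  let W : (Spec Γ(X, U)).Opens := ⟨_, FlatLocus.isOpen_flat_locus φS⟩ ⊓ φS.quasiFiniteLocus
  refine ⟨n, ⟨hU.fromSpec '' W, hU.fromSpec.isOpenEmbedding.isOpenMap _ W.2⟩,
    ⟨q, ⟨hφflat, hφqf⟩, rfl⟩, ?_⟩
  rintro _ ⟨z, ⟨hz1, hz2⟩, rfl⟩
  refine ⟨(hUW (hU.range_fromSpec ▸ ⟨z, rfl⟩ : hU.fromSpec z ∈ (U : Set X))).1, ?_⟩
  have hcomp : φS ≫ Spec.map (CommRingCat.ofHom (algebraMap Γ(Y, V) (MvPolynomial (Fin n) Γ(Y, V)))) =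
      Spec.map (CommRingCat.ofHom (algebraMap Γ(Y, V) Γ(X, U))) :=
    (Spec.map_comp _ _).symm.trans (congrArg Spec.map (CommRingCat.hom_ext φ.comp_algebraMap))
  haveI : LocallyOfFiniteType
      (Spec.map (CommRingCat.ofHom (algebraMap Γ(Y, V) (MvPolynomial (Fin n) Γ(Y, V))))) :=
    HasRingHomProperty.Spec_iff.2 (RingHom.finiteType_algebraMap.2 inferInstance)
  haveI : LocallyOfFiniteType (Spec.map (CommRingCat.ofHom (algebraMap Γ(Y, V) Γ(X, U)))) :=
    HasRingHomProperty.Spec_iff.2 (RingHom.finiteType_algebraMap.2 inferInstance)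
  rw [← FibDim.fibreDimAt_openImmersion_comp hU.fromSpec f, hsq, FibDim.fibreDimAt_comp_mono,
    ← hcomp, FibDim.fibreDimAt_comp_of_flat φS _ z hz1, fibreDimAt_poly,
    fibreDimAt_eq_zero φS z hz2]
  simp

/-- The fibre dimension near a Cohen-Macaulay point is constant. -/
theorem exists_nhd_fibreDimAt (f : X ⟶ Y) [LocallyOfFinitePresentation f] (x : X)
    (hx : MoreMor.IsCMAt f x) :
    ∃ (n : ℕ) (W : X.Opens), x ∈ W ∧
      ∀ z ∈ W, (f.stalkMap z).hom.Flat ∧ FlatMor.fibreDimAt f z = ((n : ℕ∞) : WithBot ℕ∞) := by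
  obtain ⟨x₁, hxx₁, -, hx₁, hcl⟩ := CMOpen5.exists_closed_specialization f x hx
  obtain ⟨n, W, h1, h2⟩ := exists_nhd_fibreDimAt_of_closed f x₁ hx₁ hcl
  exact ⟨n, W, hxx₁.mem_open W.2 h1, h2⟩

end Groth.Agent.Ega43Prop
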