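import Groth.Agent.Ega43Prop.QFCount
import Groth.Agent.AlgSpVal.DvrThrough
import Groth.Agent.MeroX.DivDim
import Groth.Agent.S2363

/-!
# Geometric numbers of points along a discrete valuation ring (EGA IV 15.5.2)
-/

set_option autoImplicit false
set_option maxHeartbeats 600000
set_option linter.style.haveILetI false
set_option backward.isDefEq.respectTransparency false
set_option backward.isDefEq.respectTransparency.types false

universe u

open AlgebraicGeometry CategoryTheory Limits Topology IsLocalRing
open Groth.Agent.MorLib.GF (pt pt_comp)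
open Groth.Agent.MorLib.WT (Lifts)

namespace Groth.Agent.Ega43Prop

variable {X Y : Scheme.{u}}

theorem card_fiber_le_nGeom (f : X ⟶ Y) [LocallyQuasiFinite f] (y : Y) :
    ENat.card ↥(f.fiber y) ≤ MoreMor.nGeomConnComp f y :=
  (ENat.card_congr (f.fiberHomeo y).toEquiv).trans_le (card_preimage_le_nGeom f y)

/-- Over an algebraically closed residue field every point of the fibre is a geometric one. -/
theorem nGeom_eq_card_fiber (p : X ⟶ Y) [LocallyQuasiFinite p] (c : Y) [IsAlgClosed (Y.residueField c)] :
    MoreMor.nGeomConnComp p c = ENat.card ↥(p.fiber c) := by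
  rw [MoreMor.nGeomConnComp]
  haveI := MorLib.GP.discreteTopology_geomFiber p c
  rw [MorLib.GP.card_connectedComponents_of_discrete]
  let a := algebraMap (Y.residueField c) (SeparableClosure (Y.residueField c))
  have ha : Function.Bijective a := ⟨a.injective, fun x =>
    Triage.GeomCount.range_of_sepClosed _ _ x (Algebra.IsSeparable.isSeparable _ x)⟩
  haveI : IsIso (CommRingCat.ofHom a) := by
    rw [ConcreteCategory.isIso_iff_bijective]
    exact ha
  let e1 : MoreMor.geomFiber p c ≅ p.fiber c :=
    asIso (pullback.fst (p.fiberToSpecResidueField c) (Spec.map (CommRingCat.ofHom a)))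
  exact ENat.card_congr (Scheme.homeoOfIso e1).toEquiv

/-- A discrete valuation ring has an extension with algebraically closed residue field. -/
theorem exists_dvr_algClosed (A₀ : Type u) [CommRing A₀] [IsDomain A₀] [IsDiscreteValuationRing A₀] :
    ∃ (A : Type u) (_ : CommRing A) (_ : IsDomain A) (_ : IsDiscreteValuationRing A) (φ : A₀ →+* A),
      IsLocalHom φ ∧ Function.Injective φ ∧ IsAlgClosed (ResidueField A) := by
  obtain ⟨B, _, _, hN, hL, hloc, hflat, e, -⟩ :=
    S2363.result (A := A₀) (AlgebraicClosure (ResidueField A₀))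
  haveI : Module.FaithfullyFlat A₀ B := Module.FaithfullyFlat.of_flat_of_isLocalHom
  have hinj : Function.Injective (algebraMap A₀ B) := FaithfulSMul.algebraMap_injective A₀ B
  obtain ⟨π, hπ⟩ := IsDiscreteValuationRing.exists_irreducible A₀
  have hmap : (maximalIdeal A₀).map (algebraMap A₀ B) = maximalIdeal B := by
    refine IsLocalRing.eq_maximalIdeal (Ideal.Quotient.maximal_of_isField _ ?_)
    exact e.toMulEquiv.isField (Field.toIsField _)
  have hm : maximalIdeal B = Ideal.span {algebraMap A₀ B π} := by
    rw [← hmap, hπ.maximalIdeal_eq, Ideal.map_span, Set.image_singleton]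
  have hreg : algebraMap A₀ B π ∈ nonZeroDivisors B := by
    rw [mem_nonZeroDivisors_iff_right]
    intro b hb
    exact (smul_eq_zero.1 (show π • b = 0 by rw [Algebra.smul_def, mul_comm, hb])).resolve_left hπ.ne_zero
  obtain ⟨_, hdvr⟩ := MeroX.isDomain_dvr_of_maximalIdeal _ hreg hm
  refine ⟨B, inferInstance, inferInstance, hdvr, algebraMap A₀ B, hloc, hinj, ?_⟩
  exact IsAlgClosed.of_ringEquiv _ _ (((Ideal.quotEquivOfEq hmap).symm.trans e :
    ResidueField B ≃+* AlgebraicClosure (ResidueField A₀))).symm

theorem exists_dvr_count [IsLocallyNoetherian Y] (f : X ⟶ Y) [IsSeparated f] [LocallyQuasiFinite f]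
    [LocallyOfFiniteType f] [QuasiCompact f] (y y' : Y) (hgen : y' ⤳ y) :
    ∃ (A : Type u) (_ : CommRing A) (_ : IsDomain A) (_ : IsDiscreteValuationRing A) (g : Spec (CommRingCat.of A) ⟶ Y),
      g.base (closedPoint A) = y ∧ g.base (genericPoint (Spec (CommRingCat.of A))) = y' ∧
      MoreMor.nGeomConnComp f y = ENat.card ↥((pullback.snd f g).fiber (closedPoint A)) ∧
      MoreMor.nGeomConnComp f y' = ENat.card ↥((pullback.snd f g).fiber (genericPoint (Spec (CommRingCat.of A)))) := by
  obtain ⟨Ω, _, _, sb, rfl⟩ := MorLib.GF.exists_geomPoint y'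
  haveI := MorLib.GF.finite_lifts f sb (f.finite_preimage_singleton _)
  let m := Nat.card (Lifts f sb)
  have hn : MoreMor.nGeomConnComp f (pt sb) = (m : ℕ∞) := by
    rw [nGeom_eq_card_lifts, ENat.card_eq_coe_natCard]
  let eι := (Finite.equivFin (Lifts f sb)).symm
  obtain ⟨T, V, k, π, e, vb, W, δ, hc, he, hvb, hp⟩ :=
    MorLib.WT.exists_decomp f sb (ι := ULift.{u} (Fin m)) fun a => eι a.down
  haveI : LocallyOfFiniteType π := MorphismProperty.of_isPullback hc inferInstance
  haveI : LocallyQuasiFinite π := MorphismProperty.of_isPullback hc inferInstance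
  have hev : e (pt vb) = pt sb := by rw [← pt_comp, hvb]
  have htδ : ∀ a, π (pt (δ a)) = pt vb := fun a => by rw [← pt_comp, (hp a).1.over]
  have hδ : Function.Injective fun a : ULift.{u} (Fin m) => pt (δ a) := by
    intro a b h
    have h' : δ b = δ a := (hp a).1.uniq (δ b) (hp b).1.over (by
      show pt (δ b) ∈ W a
      rw [← show pt (δ a) = pt (δ b) from h]; exact (hp a).1.mem)
    exact ULift.down_injective (eι.injective (Subtype.ext
      ((hp a).2.symm.trans ((congrArg (· ≫ k) h'.symm).trans (hp b).2))))
  obtain ⟨A₀, _, _, _, i, κ, hi, hκ, hκi⟩ := AlgSpVal.exists_dvr_path_field e (pt vb) y (hev.symm ▸ hgen)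
  obtain ⟨A, _, _, _, φ, hφ, hφi, hacl⟩ := exists_dvr_algClosed A₀
  let S := Spec (CommRingCat.of A)
  let g : S ⟶ Y := Spec.map (CommRingCat.ofHom φ) ≫ i
  let η : S := genericPoint S
  let q := pullback.snd f g
  haveI : LocallyQuasiFinite q := MorphismProperty.pullback_snd _ _ inferInstance
  haveI := hφ
  have hgc : g.base (closedPoint A) = y := by
    show (Spec.map (CommRingCat.ofHom φ) ≫ i) (closedPoint A) = y
    rw [Scheme.Hom.comp_apply, ← hi]
    exact congrArg i (IsLocalRing.comap_closedPoint φ)
  -- a point of `Spec (Frac A)` over the generic point, mapping to `V`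
  let L := FractionRing A
  obtain ⟨ψ, hψ⟩ : ∃ ψ : FractionRing A₀ →+* L, ψ.comp (algebraMap A₀ (FractionRing A₀)) = (algebraMap A L).comp φ :=
    ⟨IsLocalization.map L φ (nonZeroDivisors_le_comap_nonZeroDivisors_of_injective φ hφi), IsLocalization.map_comp _⟩
  let j : Spec (CommRingCat.of L) ⟶ S := Spec.map (CommRingCat.ofHom (algebraMap A L))
  let l : Spec (CommRingCat.of L) ⟶ V := Spec.map (CommRingCat.ofHom ψ) ≫ κ
  have hjη : j (closedPoint L) = η := by
    show _ = genericPoint (Spec (CommRingCat.of A))
    rw [genericPoint_eq_bot_of_affine]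
    refine PrimeSpectrum.ext ?_
    show Ideal.comap (algebraMap A L) (maximalIdeal L) = ⊥
    rw [IsLocalRing.maximalIdeal_eq_bot, ← RingHom.ker_eq_comap_bot,
      (RingHom.injective_iff_ker_eq_bot _).1 (IsFractionRing.injective A L)]
  have hlj : l ≫ e = j ≫ g := by
    show (Spec.map _ ≫ κ) ≫ e = Spec.map _ ≫ Spec.map _ ≫ i
    rw [Category.assoc, hκi, ← Category.assoc, ← Category.assoc, ← Spec.map_comp, ← Spec.map_comp,
      ← CommRingCat.ofHom_comp, ← CommRingCat.ofHom_comp]
    rw [hψ]
  have hlv : l (closedPoint L) = pt vb := by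
    show (Spec.map (CommRingCat.ofHom ψ) ≫ κ) _ = _
    rw [Scheme.Hom.comp_apply, ← hκ]
    exact congrArg κ (Subsingleton.elim (α := PrimeSpectrum (FractionRing A₀)) _ _)
  have hgη : g.base η = pt sb := by
    show g η = _
    rw [← hjη, ← Scheme.Hom.comp_apply, ← hlj, Scheme.Hom.comp_apply, hlv, hev]
  refine ⟨A, inferInstance, inferInstance, inferInstance, g, hgc, hgη, ?_, ?_⟩
  · haveI : IsAlgClosed (S.residueField (closedPoint A)) := by
      have e' := (Scheme.Spec.residueFieldIso (CommRingCat.of A) (closedPoint A)).commRingCatIsoToRingEquiv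
      haveI : IsAlgClosed (maximalIdeal A).ResidueField :=
        IsAlgClosed.of_ringEquiv (ResidueField A) _ (RingEquiv.ofBijective (algebraMap (A ⧸ maximalIdeal A) _)
          (Ideal.bijective_algebraMap_quotient_residueField _))
      haveI : IsAlgClosed ↑(CommRingCat.of (PrimeSpectrum.asIdeal (closedPoint A)).ResidueField) :=
        ‹IsAlgClosed (maximalIdeal A).ResidueField›
      exact IsAlgClosed.of_ringEquiv _ _ e'.symm
    rw [← nGeom_eq_card_fiber q (closedPoint A),
      (Triage.GeomCount.nGeom_baseChange f q _ g (IsPullback.of_hasPullback f g) _).2]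
    exact congrArg _ hgc.symm
  · refine le_antisymm ?_ ((card_fiber_le_nGeom q η).trans (le_of_eq
      ((Triage.GeomCount.nGeom_baseChange f q _ g (IsPullback.of_hasPullback f g) η).2.trans (congrArg _ hgη))))
    rw [hn, show (m : ℕ∞) = ENat.card (ULift.{u} (Fin m)) from by simp,
      ENat.card_congr (q.fiberHomeo η).toEquiv]
    have hex : ∀ a, ∃ z : ↥(pullback π l), pullback.fst π l z = pt (δ a) := fun a =>
      let ⟨z, h1, _⟩ := Scheme.Pullback.exists_preimage_pullback (f := π) (g := l) (pt (δ a)) (closedPoint L)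
        ((htδ a).trans hlv.symm)
      ⟨z, h1⟩
    choose z hz using hex
    let μ : pullback π l ⟶ pullback f g := pullback.lift (pullback.fst π l ≫ k) (pullback.snd π l ≫ j) (by
      rw [Category.assoc, Category.assoc, hc.w, ← hlj, ← Category.assoc, pullback.condition, Category.assoc])
    have hw : ∀ a, q.base (μ (z a)) = η := fun a => by
      show q (μ (z a)) = η
      rw [← Scheme.Hom.comp_apply, pullback.lift_snd, Scheme.Hom.comp_apply, ← hjη]
      exact congrArg j (Subsingleton.elim (α := PrimeSpectrum L) _ _)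
    refine ENat.card_le_card_of_injective (f := fun a => (⟨μ (z a), hw a⟩ : ↥(q ⁻¹' {η}))) fun a b hab => hδ ?_
    have h : μ (z a) = μ (z b) := congrArg Subtype.val hab
    -- the base change along the monomorphism `j` separates the points
    have hsq : IsPullback μ (pullback.snd π l) q j := by
      refine IsPullback.of_right ?_ (pullback.lift_snd _ _ _) (IsPullback.of_hasPullback f g)
      rw [pullback.lift_fst, ← hlj]
      exact (IsPullback.of_hasPullback π l).paste_horiz hc
    haveI : IsPreimmersion j := IsPreimmersion.of_isLocalization (nonZeroDivisors A)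
    haveI : IsPreimmersion μ := MorphismProperty.of_isPullback hsq.flip inferInstance
    have hμ : Function.Injective μ := μ.isEmbedding.injective
    show pt (δ a) = pt (δ b)
    rw [← hz a, ← hz b, hμ h]

end Groth.Agent.Ega43Prop
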