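import Groth.Agent.MorLib.DenseValuative3
import Groth.Agent.Proj16.DVRCrit

/-!
# The valuative criterion centred at one point of the base

Lifts over discrete valuation rings centred at a point `y` of a locally Noetherian base give lifts
over all valuation rings centred at `y`, and then at all generizations of `y`.
-/

set_option autoImplicit false
set_option linter.style.haveILetI false
set_option backward.isDefEq.respectTransparency false
set_option backward.isDefEq.respectTransparency.types false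
universe u

open CategoryTheory CategoryTheory.Limits AlgebraicGeometry IsLocalRing TopologicalSpace
open Groth.Agent.MorLib.DenseValuative

namespace Groth.Agent.Ega43Prop

variable {X S : Scheme.{u}}

/-- Existence in the valuative criterion for discrete valuation rings centred at `s`. -/
def DVRExistenceAt (f : X ⟶ S) (s : S) : Prop :=
  ∀ (A : Type u) [CommRing A] [IsDomain A] [IsDiscreteValuationRing A]
    (x : Spec (CommRingCat.of (FractionRing A)) ⟶ X) (y : Spec (CommRingCat.of A) ⟶ S),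
    y (closedPoint A) = s →
    x ≫ f = Spec.map (CommRingCat.ofHom (algebraMap A (FractionRing A))) ≫ y →
    ∃ l : Spec (CommRingCat.of A) ⟶ X, l ≫ f = y ∧
      Spec.map (CommRingCat.ofHom (algebraMap A (FractionRing A))) ≫ l = x

/-- Discrete valuation rings of the residue field of `u` centred at `s` lift. -/
def DVRLiftsAtPt (f : X ⟶ S) (u : X) (s : S) : Prop :=
  ∀ (V : ValuationSubring (X.residueField u)) (y : Spec (.of V) ⟶ S), IsDiscreteValuationRing V →
    y (closedPoint V) = s →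
    Spec.map (CommRingCat.ofHom V.subtype) ≫ y = X.fromSpecResidueField u ≫ f →
    ∃ l : Spec (.of V) ⟶ X, l ≫ f = y ∧
      Spec.map (CommRingCat.ofHom V.subtype) ≫ l = X.fromSpecResidueField u

/-- Valuation rings of the residue field of `u` centred at `s` lift. -/
def LiftsAtPt (f : X ⟶ S) (u : X) (s : S) : Prop :=
  ∀ (V₀ : ValuationSubring (X.residueField u)) (y : Spec (.of V₀) ⟶ S),
    y (closedPoint V₀) = s →
    Spec.map (CommRingCat.ofHom V₀.subtype) ≫ y = X.fromSpecResidueField u ≫ f →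
    ∃ l : Spec (.of V₀) ⟶ X, l ≫ f = y ∧
      Spec.map (CommRingCat.ofHom V₀.subtype) ≫ l = X.fromSpecResidueField u

/-- Valuation rings of residue fields centred at `s` lift. -/
def LiftsAt (f : X ⟶ S) (s : S) : Prop := ∀ u : X, LiftsAtPt f u s

theorem DVRExistenceAt.dvrLiftsAtPt {f : X ⟶ S} {s : S} (H : DVRExistenceAt f s) (u : X) :
    DVRLiftsAtPt f u s := by
  intro V y hV hys hy
  haveI := hV
  obtain ⟨e, he, he'⟩ := Groth.Agent.Proj16.exists_fractionRing_spec V
  obtain ⟨l, hlf, hl0⟩ := H V (e ≫ X.fromSpecResidueField u) y hys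
    (by rw [Category.assoc, ← hy, ← Category.assoc, he'])
  refine ⟨l, hlf, ?_⟩
  rw [← he', Category.assoc, cancel_epi] at hl0
  exact hl0

theorem DVRLiftsAtPt.liftsAtPt [IsLocallyNoetherian S] {f : X ⟶ S} [LocallyOfFiniteType f]
    [QuasiCompact f] {u : X} {s₀ : S} (H₀ : DVRLiftsAtPt f u s₀) : LiftsAtPt f u s₀ := by
  classical
  intro V₀ y hys hy
  subst hys
  let s : S := y (closedPoint V₀)
  obtain ⟨W, hW, hsW, -⟩ := exists_isAffineOpen_mem_and_subset (x := s) (U := ⊤) trivial
  obtain ⟨η, hη⟩ := exists_factor_affine y hW (range_subset_of_closedPoint y hsW)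
  obtain ⟨φ, hφl, hφ⟩ := exists_stalkMap_eq y (s := s) rfl
  let x₀ : X := u
  have hsp : f u ⤳ s := by
    have h1 := congrArg (fun k : Spec (.of (X.residueField u)) ⟶ S => k (closedPoint _)) hy
    simp only [Scheme.Hom.comp_apply] at h1
    have h2 : X.fromSpecResidueField u (closedPoint (X.residueField u)) = u :=
      Scheme.fromSpecResidueField_apply _ _
    rw [← congrArg (fun v => f v) h2]
    refine (specializes_of_eq h1.symm).trans ?_
    exact (IsLocalRing.specializes_closedPoint _).map y.continuous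
  have hx₀W : x₀ ∈ f ⁻¹ᵁ W := hsp.mem_open W.2 hsW
  -- the charts
  obtain ⟨t, ht, hcov⟩ := (isCompact_iff_finite_and_eq_biUnion_affineOpens (U := f ⁻¹ᵁ W)).mp
    (QuasiCompact.isCompact_preimage (f := f) _ W.2 hW.isCompact)
  let χr := X.fromSpecResidueField u
  have hχ : ∀ (O : X.affineOpens), x₀ ∈ O.1 → ∃ χ : Γ(X, O.1) ⟶ X.residueField u,
      Spec.map χ ≫ O.2.fromSpec = χr := fun O hO =>
    exists_factor_affine χr O.2 (by
      rintro _ ⟨p, rfl⟩
      show (X.fromSpecResidueField u) p ∈ O.1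
      rw [Scheme.fromSpecResidueField_apply]
      exact hO)
  choose χ hχ using hχ
  by_cases hex : ∃ (O : X.affineOpens) (hO : x₀ ∈ O.1), O.1 ≤ f ⁻¹ᵁ W ∧ ∀ a, (χ O hO).hom a ∈ V₀
  · obtain ⟨O, hO, hOW, hmem⟩ := hex
    let ζ : Γ(X, O.1) ⟶ .of V₀ := CommRingCat.ofHom ((χ O hO).hom.codRestrict V₀.toSubring hmem)
    have hgen : Spec.map (CommRingCat.ofHom V₀.subtype) ≫ Spec.map ζ ≫ O.2.fromSpec = χr := by
      rw [← Spec.map_comp_assoc, ← hχ O hO]; rfl
    refine ⟨Spec.map ζ ≫ O.2.fromSpec, ?_, hgen⟩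
    refine hom_ext_into_affine (j := V₀.subtype) Subtype.coe_injective _ y hW ?_ hsW ?_
    · rw [Scheme.Hom.comp_apply]
      refine hOW ?_
      show _ ∈ (O.1 : Set X)
      rw [← O.2.range_fromSpec]
      exact ⟨_, rfl⟩
    · rw [← Category.assoc, hgen, hy]
  · exfalso
    push Not at hex
    have hbad : ∀ O : X.affineOpens, O.1 ≤ f ⁻¹ᵁ W → ∀ hO : x₀ ∈ O.1,
        ∃ a, (χ O hO).hom a ∉ V₀ := fun O hOW hO => hex O hO hOW
    choose a ha using hbad
    have hOW : ∀ O ∈ t, O.1 ≤ f ⁻¹ᵁ W := fun O hO => by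
      rw [hcov]; exact le_iSup₂ (f := fun (i : X.affineOpens) _ => i.1) O hO
    let T : Finset (X.residueField u) := ht.toFinset.attach.image fun O =>
      if hO : x₀ ∈ O.1.1 then ((χ O.1 hO).hom (a O.1 (hOW _ (ht.mem_toFinset.mp O.2)) hO))⁻¹ else 0
    let σ := Groth.Agent.Proj16.specMapResidue (p := f) hsp
    have hσ : ∀ b, σ.hom b = (φ.hom b : X.residueField u) := by
      have h1 : Spec.map σ ≫ S.fromSpecStalk s =
          Spec.map (CommRingCat.ofHom V₀.subtype) ≫ Spec.map φ ≫ S.fromSpecStalk s := by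
        rw [Groth.Agent.Proj16.specMapResidue_fromSpecStalk, hφ, hy]
      rw [← Spec.map_comp_assoc, cancel_mono] at h1
      intro b
      exact congrArg (fun k => k.hom b) (Spec.map_injective h1)
    let : Algebra (S.presheaf.stalk s) (X.residueField u) := σ.hom.toAlgebra
    have : Algebra.EssFiniteType (S.presheaf.stalk s) (X.residueField u) :=
      RingHom.essFiniteType_algebraMap.mp (Groth.Agent.Proj16.essFiniteType_specMapResidue hsp)
    obtain ⟨O₀, hO₀⟩ : ∃ O ∈ t, x₀ ∈ O.1 := by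
      rw [hcov] at hx₀W
      obtain ⟨O, h1⟩ := TopologicalSpace.Opens.mem_iSup.mp hx₀W
      obtain ⟨h2, h3⟩ := TopologicalSpace.Opens.mem_iSup.mp h1
      exact ⟨O, h2, h3⟩
    have hTV : ∀ z ∈ T, z ∈ V₀ ∧ (z ≠ 0 → z ∈ V₀.nonunits) := by
      intro z hz
      obtain ⟨O, -, rfl⟩ := Finset.mem_image.mp hz
      split_ifs with hO
      · have := ha O.1 (hOW _ (ht.mem_toFinset.mp O.2)) hO
        exact ⟨(V₀.mem_or_inv_mem _).resolve_left this, fun _ =>
          V₀.inv_mem_nonunits_iff.2 (Or.inr this)⟩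
      · exact ⟨V₀.zero_mem, fun e => absurd rfl e⟩
    have hne : ∃ z ∈ T, z ≠ 0 ∧ z ∈ V₀.nonunits := by
      have hz : ((χ O₀ hO₀.2).hom (a O₀ (hOW _ hO₀.1) hO₀.2))⁻¹ ∈ T :=
        Finset.mem_image.mpr ⟨⟨O₀, ht.mem_toFinset.mpr hO₀.1⟩, Finset.mem_attach _ _, dif_pos hO₀.2⟩
      have h0 : ((χ O₀ hO₀.2).hom (a O₀ (hOW _ hO₀.1) hO₀.2))⁻¹ ≠ 0 := inv_ne_zero fun e =>
        ha O₀ (hOW _ hO₀.1) hO₀.2 (by rw [e]; exact V₀.zero_mem)
      exact ⟨_, hz, h0, (hTV _ hz).2 h0⟩
    obtain ⟨V, hV, hVA, hVT⟩ := Groth.Agent.Proj16.exists_dvr_of_valuationSubring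
      (A := S.presheaf.stalk s) V₀
      (fun b => by show σ.hom b ∈ V₀; rw [hσ]; exact (φ.hom b).2) T (fun z hz => (hTV z hz).1) hne
    have hloc : IsLocalHom (σ.hom.codRestrict V.toSubring fun b => (hVA b).1) := by
      refine ⟨fun b hb => ?_⟩
      by_contra hn
      have h1 : σ.hom b ∈ V₀.nonunits := by
        rw [hσ b, ValuationSubring.coe_mem_nonunits_iff]
        exact fun hu' => hn (hφl.map_nonunit b hu')
      have h2 := (hVA b).2.mpr h1
      rw [show algebraMap (S.presheaf.stalk s) (X.residueField u) b =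
        ((⟨_, (hVA b).1⟩ : V) : X.residueField u) from rfl,
        ValuationSubring.coe_mem_nonunits_iff] at h2
      exact h2 hb
    obtain ⟨y', hy'1, hy'2⟩ := Groth.Agent.Proj16.exists_path hsp V (fun b => (hVA b).1) hloc
    obtain ⟨l, hlf, hl⟩ := H₀ V y' hV hy'1 hy'2
    have hlW : l (closedPoint V) ∈ f ⁻¹ᵁ W := by
      show f (l (closedPoint V)) ∈ W
      rw [← Scheme.Hom.comp_apply, hlf, hy'1]; exact hsW
    rw [hcov] at hlW
    obtain ⟨O, h1⟩ := TopologicalSpace.Opens.mem_iSup.mp hlW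
    obtain ⟨hOt, hlO⟩ := TopologicalSpace.Opens.mem_iSup.mp h1
    have hO : x₀ ∈ O.1 := by
      have h3 := congrArg (fun k : Spec (.of (X.residueField u)) ⟶ X => k (closedPoint _)) hl
      simp only [Scheme.Hom.comp_apply] at h3
      have h4 : X.fromSpecResidueField u (closedPoint (X.residueField u)) = u :=
        Scheme.fromSpecResidueField_apply _ _
      show u ∈ O.1
      rw [show u = _ from h4.symm.trans h3.symm]
      exact range_subset_of_closedPoint l hlO ⟨_, rfl⟩
    obtain ⟨ζ, hζ⟩ := exists_factor_affine l O.2 (range_subset_of_closedPoint l hlO)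
    have hζχ : ζ ≫ CommRingCat.ofHom V.subtype = χ O hO := by
      refine ringHom_eq_of_fromSpec (R := X.residueField u) O.2 ?_
      rw [Spec.map_comp, Category.assoc, hζ, hl, hχ]
    let z := (χ O hO).hom (a O (hOW _ hOt) hO)
    have hzT : z⁻¹ ∈ T :=
      Finset.mem_image.mpr ⟨⟨O, ht.mem_toFinset.mpr hOt⟩, Finset.mem_attach _ _, dif_pos hO⟩
    have hz0 : z ≠ 0 := fun e => ha O (hOW _ hOt) hO (by
      show z ∈ V₀
      rw [e]; exact V₀.zero_mem)
    have hzV : z ∈ V := by
      show (χ O hO).hom _ ∈ V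
      rw [← hζχ]
      exact (ζ.hom _).2
    exact ((V.mem_nonunits_iff_or).1 ((hVT _ hzT).2.mpr ((hTV _ hzT).2 (inv_ne_zero hz0)))).resolve_left
      (inv_ne_zero hz0) (by simpa using hzV)

theorem DVRExistenceAt.liftsAt [IsLocallyNoetherian S] {f : X ⟶ S} [LocallyOfFiniteType f]
    [QuasiCompact f] {s : S} (H : DVRExistenceAt f s) : LiftsAt f s :=
  fun u => (H.dvrLiftsAtPt u).liftsAtPt

/-- Lifts at a point give lifts at all its generizations, by composing valuations. -/
theorem LiftsAt.of_specializes {f : X ⟶ S} {s s' : S} (H : LiftsAt f s) (hs : s' ⤳ s) :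
    LiftsAt f s' := by
  intro u V y hys hy
  obtain ⟨φ, hφl, hφ⟩ := exists_stalkMap_eq y (s := s') hys
  haveI := hφl
  let a : S.presheaf.stalk s →+* V := φ.hom.comp (S.presheaf.stalkSpecializes hs).hom
  obtain ⟨R', hR', hR'l⟩ := exists_factor_valuationRing ((residue V).comp a)
  let Csub : Subring (X.residueField u) := (R'.toSubring.comap (residue V)).map V.subtype
  have hC : ∀ l : X.residueField u, l ∈ Csub ∨ l⁻¹ ∈ Csub := by
    intro l
    rcases V.mem_or_inv_mem l with hl | hl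
    · by_cases hbu : IsUnit (⟨l, hl⟩ : V)
      · obtain ⟨v, hv⟩ := hbu
        have hvi : ((↑v⁻¹ : V) : X.residueField u) = l⁻¹ := eq_inv_of_mul_eq_one_left (by
          have h1 := congrArg V.subtype v.inv_mul
          rw [map_mul, map_one, hv] at h1
          exact h1)
        rcases R'.mem_or_inv_mem (residue V ⟨l, hl⟩) with hr | hr
        · exact Or.inl ⟨⟨l, hl⟩, hr, rfl⟩
        · refine Or.inr ⟨↑v⁻¹, ?_, hvi⟩
          show residue V ↑v⁻¹ ∈ R'
          rw [show residue V (↑v⁻¹ : V) = (residue V ⟨l, hl⟩)⁻¹ by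
            rw [← hv]; exact eq_inv_of_mul_eq_one_left (by rw [← map_mul, v.inv_mul, map_one])]
          exact hr
      · refine Or.inl ⟨⟨l, hl⟩, ?_, rfl⟩
        show residue V _ ∈ R'
        rw [(residue_eq_zero_iff _).mpr ((mem_maximalIdeal _).mpr hbu)]
        exact R'.zero_mem
    · by_cases hbu : IsUnit (⟨l⁻¹, hl⟩ : V)
      · obtain ⟨v, hv⟩ := hbu
        have hvi : ((↑v⁻¹ : V) : X.residueField u) = l := by
          rw [← inv_inv l]
          refine eq_inv_of_mul_eq_one_left ?_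
          have h1 := congrArg V.subtype v.inv_mul
          rw [map_mul, map_one, hv] at h1
          exact h1
        rcases R'.mem_or_inv_mem (residue V ⟨l⁻¹, hl⟩) with hr | hr
        · exact Or.inr ⟨⟨l⁻¹, hl⟩, hr, rfl⟩
        · refine Or.inl ⟨↑v⁻¹, ?_, hvi⟩
          show residue V ↑v⁻¹ ∈ R'
          rw [show residue V (↑v⁻¹ : V) = (residue V ⟨l⁻¹, hl⟩)⁻¹ by
            rw [← hv]; exact eq_inv_of_mul_eq_one_left (by rw [← map_mul, v.inv_mul, map_one])]
          exact hr
      · refine Or.inr ⟨⟨l⁻¹, hl⟩, ?_, rfl⟩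
        show residue V _ ∈ R'
        rw [(residue_eq_zero_iff _).mpr ((mem_maximalIdeal _).mpr hbu)]
        exact R'.zero_mem
  let C : ValuationSubring (X.residueField u) := ValuationSubring.ofSubring Csub hC
  have hCV : ∀ l, l ∈ C → l ∈ V := by rintro _ ⟨b, -, rfl⟩; exact b.2
  have hgC : ∀ b, ((a b : V) : X.residueField u) ∈ C := fun b => ⟨a b, hR' b, rfl⟩
  let g : S.presheaf.stalk s ⟶ .of C :=
    CommRingCat.ofHom ((V.subtype.comp a).codRestrict C.toSubring hgC)
  haveI hgl : IsLocalHom g.hom := by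
    refine ⟨fun b hb => hR'l.map_nonunit b ?_⟩
    obtain ⟨c, hc⟩ := isUnit_iff_exists_inv.mp hb
    obtain ⟨c', hc', hcc'⟩ : ∃ c' : V, residue V c' ∈ R' ∧ (c' : X.residueField u) = c := c.2
    have h1 : a b * c' = 1 := Subtype.ext (by
      show (a b : X.residueField u) * (c' : X.residueField u) = 1
      rw [hcc']
      exact congrArg Subtype.val hc)
    exact IsUnit.of_mul_eq_one ⟨residue V c', hc'⟩ (Subtype.ext (by
      show residue V (a b) * residue V c' = 1
      rw [← map_mul, h1, map_one]))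
  let incl : CommRingCat.of C ⟶ .of V :=
    CommRingCat.ofHom (C.subtype.codRestrict V.toSubring fun c => hCV _ c.2)
  have hincl : Spec.map incl ≫ Spec.map g ≫ S.fromSpecStalk s = y := by
    rw [← Spec.map_comp_assoc, ← hφ, ← Scheme.SpecMap_stalkSpecializes_fromSpecStalk hs,
      ← Spec.map_comp_assoc]
    rfl
  have hsub : Spec.map (CommRingCat.ofHom V.subtype) ≫ Spec.map incl =
      Spec.map (CommRingCat.ofHom C.subtype) := by
    rw [← Spec.map_comp]; rfl
  obtain ⟨l, hlf, hl⟩ := H u C (Spec.map g ≫ S.fromSpecStalk s) (apply_closedPoint g)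
    (by rw [← hsub, Category.assoc, hincl, hy])
  refine ⟨Spec.map incl ≫ l, by rw [Category.assoc, hlf, hincl], ?_⟩
  rw [reassoc_of% hsub, hl]

/-- Lifts at a point give lifts for all commutative squares centred there. -/
theorem LiftsAt.hasLift {f : X ⟶ S} {s : S} (H : LiftsAt f s) {R K : Type u} [CommRing R]
    [IsDomain R] [ValuationRing R] [Field K] [Algebra R K] [IsFractionRing R K]
    (i₁ : Spec (.of K) ⟶ X) (i₂ : Spec (.of R) ⟶ S) (hs : i₂ (closedPoint R) = s)
    (w : i₁ ≫ f = Spec.map (CommRingCat.ofHom (algebraMap R K)) ≫ i₂) :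
    ∃ l : Spec (.of R) ⟶ X, l ≫ f = i₂ ∧
      Spec.map (CommRingCat.ofHom (algebraMap R K)) ≫ l = i₁ := by
  let jK : R →+* K := algebraMap R K
  have hjK : Function.Injective jK := IsFractionRing.injective R K
  let x : X := i₁ (closedPoint K)
  let ι : X.residueField x ⟶ .of K := Scheme.descResidueField (Scheme.stalkClosedPointTo i₁)
  have hι : Spec.map ι ≫ X.fromSpecResidueField x = i₁ :=
    Scheme.descResidueField_stalkClosedPointTo_fromSpecResidueField K X i₁
  obtain ⟨φ, hφl, hφ⟩ := exists_stalkMap_eq i₂ (s := s) hs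
  haveI := hφl
  have hfx : f x ⤳ s := by
    have h1 := congrArg (fun k : Spec (.of K) ⟶ S => k (closedPoint K)) w
    simp only [Scheme.Hom.comp_apply] at h1
    show f (i₁ (closedPoint K)) ⤳ s
    rw [h1, ← hs]
    exact (IsLocalRing.specializes_closedPoint _).map i₂.continuous
  let σ := Groth.Agent.Proj16.specMapResidue hfx
  have hσι : ∀ a, ι.hom (σ.hom a) = jK (φ.hom a) := by
    have h1 : Spec.map ι ≫ Spec.map σ ≫ S.fromSpecStalk s =
        Spec.map (CommRingCat.ofHom jK) ≫ Spec.map φ ≫ S.fromSpecStalk s := by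
      rw [Groth.Agent.Proj16.specMapResidue_fromSpecStalk, reassoc_of% hι, hφ]
      exact w
    rw [← Spec.map_comp_assoc, ← Spec.map_comp_assoc, cancel_mono] at h1
    intro a
    exact congrArg (fun k => k.hom a) (Spec.map_injective h1)
  let R₀ : ValuationSubring (X.residueField x) :=
    ValuationSubring.ofSubring (jK.range.comap ι.hom) fun a => by
      rcases ValuationRing.isInteger_or_isInteger R (ι.hom a) with ⟨r, hr⟩ | ⟨r, hr⟩
      · exact Or.inl ⟨r, hr⟩
      · exact Or.inr ⟨r, hr.trans (map_inv₀ ι.hom a).symm⟩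
  have hσR : ∀ a, σ.hom a ∈ R₀ := fun a => ⟨φ.hom a, (hσι a).symm⟩
  have hR₀ : ∀ r : R₀, ∃ v, jK v = ι.hom r.1 := fun r => r.2
  choose ρ hρ using hR₀
  let ρR : CommRingCat.of R₀ ⟶ .of R := CommRingCat.ofHom
    { toFun := ρ
      map_one' := hjK ((hρ 1).trans (ι.hom.map_one.trans jK.map_one.symm))
      map_mul' := fun a b => hjK ((hρ _).trans ((ι.hom.map_mul a.1 b.1).trans
        ((congrArg₂ (· * ·) (hρ a).symm (hρ b).symm).trans (jK.map_mul _ _).symm)))
      map_zero' := hjK ((hρ 0).trans (ι.hom.map_zero.trans jK.map_zero.symm))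
      map_add' := fun a b => hjK ((hρ _).trans ((ι.hom.map_add a.1 b.1).trans
        ((congrArg₂ (· + ·) (hρ a).symm (hρ b).symm).trans (jK.map_add _ _).symm))) }
  let g : S.presheaf.stalk s ⟶ .of R₀ := CommRingCat.ofHom (σ.hom.codRestrict R₀.toSubring hσR)
  have hgρ : g ≫ ρR = φ := CommRingCat.hom_ext (RingHom.ext fun a => hjK ((hρ _).trans (hσι a)))
  haveI : IsLocalHom g.hom := ⟨fun a ha => hφl.map_nonunit a (by
    rw [← hgρ]; exact ha.map ρR.hom)⟩
  have hgen : Spec.map (CommRingCat.ofHom R₀.subtype) ≫ Spec.map g ≫ S.fromSpecStalk s =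
      X.fromSpecResidueField x ≫ f := by
    rw [← Groth.Agent.Proj16.specMapResidue_fromSpecStalk hfx, ← Spec.map_comp_assoc]
    rfl
  obtain ⟨l, hlf, hl⟩ := H x R₀ (Spec.map g ≫ S.fromSpecStalk s) (apply_closedPoint g) hgen
  refine ⟨Spec.map ρR ≫ l, ?_, ?_⟩
  · rw [Category.assoc, hlf, ← Spec.map_comp_assoc, hgρ, hφ]
  · rw [← Spec.map_comp_assoc, ← hι, ← hl, ← Spec.map_comp_assoc]
    exact congrArg (fun k => Spec.map k ≫ l) (CommRingCat.hom_ext (RingHom.ext hρ))

/-- It suffices to lift valuation rings of the residue fields at a generization of each point. -/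
theorem liftsAt_of_generizations {f : X ⟶ S} [IsSeparated f] {s₀ : S}
    (H : ∀ x : X, ∃ u, u ⤳ x ∧ LiftsAtPt f u s₀) : LiftsAt f s₀ := by
  suffices key : ∀ (R K : Type u) [CommRing R] [IsDomain R] [ValuationRing R] [Field K] [Algebra R K]
      [IsFractionRing R K] (i₁ : Spec (.of K) ⟶ X) (i₂ : Spec (.of R) ⟶ S)
      (_ : i₂ (closedPoint R) = s₀)
      (_ : i₁ ≫ f = Spec.map (CommRingCat.ofHom (algebraMap R K)) ≫ i₂),
      ∃ l : Spec (.of R) ⟶ X, l ≫ f = i₂ ∧
        Spec.map (CommRingCat.ofHom (algebraMap R K)) ≫ l = i₁ by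
    intro u V y hys hy
    exact key V (X.residueField u) (X.fromSpecResidueField u) y hys hy.symm
  intro R K _ _ _ _ _ _ i₁ i₂ hs w
  have hU : ∀ {u : X} (B : ValuationSubring (X.residueField u)) (l₁ l₂ : Spec (.of B) ⟶ X),
      l₁ ≫ f = l₂ ≫ f →
      Spec.map (CommRingCat.ofHom B.subtype) ≫ l₁ = X.fromSpecResidueField u →
      Spec.map (CommRingCat.ofHom B.subtype) ≫ l₂ = X.fromSpecResidueField u → l₁ = l₂ := by
    intro u B l₁ l₂ he h₁ h₂
    have hV : ValuativeCriterion.Uniqueness f :=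
      (IsSeparated.eq_valuativeCriterion.le _ _ f ‹_›).1
    exact congrArg CommSq.LiftStruct.l
      ((hV ⟨B, X.residueField u, X.fromSpecResidueField u, l₁ ≫ f,
        ⟨by rw [← h₁, Category.assoc]; rfl⟩⟩).elim ⟨l₁, h₁, rfl⟩ ⟨l₂, h₂, he.symm⟩)
  let jK : R →+* K := algebraMap R K
  have hjK : Function.Injective jK := IsFractionRing.injective R K
  -- the point and the residue field map
  let x : X := i₁ (closedPoint K)
  let ι : X.residueField x ⟶ .of K := Scheme.descResidueField (Scheme.stalkClosedPointTo i₁)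
  have hι : Spec.map ι ≫ X.fromSpecResidueField x = i₁ :=
    Scheme.descResidueField_stalkClosedPointTo_fromSpecResidueField K X i₁
  subst hs
  let s : S := i₂ (closedPoint R)
  obtain ⟨φ, hφl, hφ⟩ := exists_stalkMap_eq i₂ (s := s) rfl
  have hfx : f x ⤳ s := by
    have h1 := congrArg (fun k : Spec (.of K) ⟶ S => k (closedPoint K)) w
    simp only [Scheme.Hom.comp_apply] at h1
    show f (i₁ (closedPoint K)) ⤳ i₂ (closedPoint R)
    rw [h1]
    exact (IsLocalRing.specializes_closedPoint _).map i₂.continuous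
  let σ := Groth.Agent.Proj16.specMapResidue hfx
  have hσι : ∀ a, ι.hom (σ.hom a) = jK (φ.hom a) := by
    have h1 : Spec.map ι ≫ Spec.map σ ≫ S.fromSpecStalk s =
        Spec.map (CommRingCat.ofHom jK) ≫ Spec.map φ ≫ S.fromSpecStalk s := by
      rw [Groth.Agent.Proj16.specMapResidue_fromSpecStalk, reassoc_of% hι, hφ]
      exact w
    rw [← Spec.map_comp_assoc, ← Spec.map_comp_assoc, cancel_mono] at h1
    intro a
    exact congrArg (fun k => k.hom a) (Spec.map_injective h1)
  -- the valuation ring of `κ(x)`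
  let R₀ : ValuationSubring (X.residueField x) :=
    ValuationSubring.ofSubring (jK.range.comap ι.hom) fun a => by
      rcases ValuationRing.isInteger_or_isInteger R (ι.hom a) with ⟨r, hr⟩ | ⟨r, hr⟩
      · exact Or.inl ⟨r, hr⟩
      · exact Or.inr ⟨r, hr.trans (map_inv₀ ι.hom a).symm⟩
  have hσR : ∀ a, σ.hom a ∈ R₀ := fun a => ⟨φ.hom a, (hσι a).symm⟩
  have hR₀unit : ∀ a, σ.hom a ≠ 0 → (σ.hom a)⁻¹ ∈ R₀ → IsUnit a := by
    intro a h0 hinv
    obtain ⟨r, hr⟩ := hinv
    refine hφl.map_nonunit a (IsUnit.of_mul_eq_one r (hjK ?_))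
    rw [map_mul, map_one, hr, ← hσι, map_inv₀]
    exact mul_inv_cancel₀ (fun e => h0 (ι.hom.injective (e.trans (map_zero _).symm)))
  -- a valuation ring at a point of `U` dominating `x`
  obtain ⟨u, hu, HE⟩ := H x
  let τ := Groth.Agent.Proj16.specMapResidue (p := 𝟙 X) hu
  have hτ : Spec.map τ ≫ X.fromSpecStalk x = X.fromSpecResidueField u :=
    (Groth.Agent.Proj16.specMapResidue_fromSpecStalk (p := 𝟙 X) hu).trans (Category.comp_id _)
  obtain ⟨B, hτB, hτl⟩ := exists_factor_valuationRing τ.hom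
  let τB : X.presheaf.stalk x ⟶ .of B := CommRingCat.ofHom (τ.hom.codRestrict B.toSubring hτB)
  haveI : IsLocalHom τB.hom := hτl
  let j : X.residueField x →+* ResidueField B := ResidueField.map τB.hom
  have hj : ∀ a, j (X.residue x a) = residue B (τB.hom a) := fun a => rfl
  obtain ⟨R', hR', hR'l⟩ := exists_factor_valuationRing (j.comp R₀.subtype)
  have hR₀ : ∀ a, j a ∈ R' → a ∈ R₀ := by
    intro a ha
    by_contra hn
    have hinv : a⁻¹ ∈ R₀ := (R₀.mem_or_inv_mem a).resolve_left hn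
    have h0 : a ≠ 0 := fun e => hn (e ▸ R₀.zero_mem)
    have hu' : IsUnit (((j.comp R₀.subtype).codRestrict R'.toSubring hR') ⟨a⁻¹, hinv⟩) :=
      IsUnit.of_mul_eq_one ⟨j a, ha⟩ (Subtype.ext (by
        show j a⁻¹ * j a = 1
        rw [← map_mul, inv_mul_cancel₀ h0, map_one]))
    obtain ⟨c, hc⟩ := isUnit_iff_exists_inv.mp (hR'l.map_nonunit _ hu')
    have h2 : a⁻¹ * (c : X.residueField x) = 1 := congrArg Subtype.val hc
    rw [inv_mul_eq_one₀ h0] at h2
    exact hn (h2 ▸ c.2)
  -- the composite valuation ring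
  let C : ValuationSubring (X.residueField u) :=
    ValuationSubring.ofSubring ((R'.toSubring.comap (residue B)).map B.subtype) fun l => by
      rcases B.mem_or_inv_mem l with hl | hl
      · rcases R'.mem_or_inv_mem (residue B ⟨l, hl⟩) with hr | hr
        · exact Or.inl ⟨⟨l, hl⟩, hr, rfl⟩
        · by_cases hbu : IsUnit (⟨l, hl⟩ : B)
          · obtain ⟨v, hv⟩ := hbu
            refine Or.inr ⟨↑v⁻¹, ?_, ?_⟩
            · show residue B ↑v⁻¹ ∈ R'
              rw [show residue B (↑v⁻¹ : B) = (residue B ⟨l, hl⟩)⁻¹ by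
                rw [← hv]; exact eq_inv_of_mul_eq_one_left (by rw [← map_mul, v.inv_mul, map_one])]
              exact hr
            · refine eq_inv_of_mul_eq_one_left ?_
              have h1 := congrArg B.subtype v.inv_mul
              rw [map_mul, map_one, hv] at h1
              exact h1
          · exact Or.inl ⟨⟨l, hl⟩, by
              show residue B _ ∈ R'
              rw [(residue_eq_zero_iff _).mpr ((mem_maximalIdeal _).mpr hbu)]
              exact R'.zero_mem, rfl⟩
      · by_cases hbu : IsUnit (⟨l⁻¹, hl⟩ : B)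
        · obtain ⟨v, hv⟩ := hbu
          rcases R'.mem_or_inv_mem (residue B ⟨l⁻¹, hl⟩) with hr | hr
          · exact Or.inr ⟨⟨l⁻¹, hl⟩, hr, rfl⟩
          · refine Or.inl ⟨↑v⁻¹, ?_, ?_⟩
            · show residue B ↑v⁻¹ ∈ R'
              rw [show residue B (↑v⁻¹ : B) = (residue B ⟨l⁻¹, hl⟩)⁻¹ by
                rw [← hv]; exact eq_inv_of_mul_eq_one_left (by rw [← map_mul, v.inv_mul, map_one])]
              exact hr
            · rw [← inv_inv l]
              refine eq_inv_of_mul_eq_one_left ?_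
              have h1 := congrArg B.subtype v.inv_mul
              rw [map_mul, map_one, hv] at h1
              exact h1
        · exact Or.inr ⟨⟨l⁻¹, hl⟩, by
            show residue B _ ∈ R'
            rw [(residue_eq_zero_iff _).mpr ((mem_maximalIdeal _).mpr hbu)]
            exact R'.zero_mem, rfl⟩
  have hCB : ∀ l, l ∈ C → l ∈ B := by rintro _ ⟨b, -, rfl⟩; exact b.2
  have hCR : ∀ (b : B), (b : X.residueField u) ∈ C → residue B b ∈ R' := by
    rintro b ⟨b', hb', e⟩
    obtain rfl : b' = b := Subtype.ext e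
    exact hb'
  let a₀ := S.presheaf.stalkSpecializes hfx ≫ f.stalkMap x
  have hres : ∀ a, residue B (τB.hom (a₀.hom a)) = j (σ.hom a) := fun a => rfl
  have hgC : ∀ a, τ.hom (a₀.hom a) ∈ C := fun a =>
    ⟨τB.hom (a₀.hom a), by
      show residue B _ ∈ R'
      rw [hres]; exact hR' ⟨_, hσR a⟩, rfl⟩
  let g : S.presheaf.stalk s ⟶ .of C :=
    CommRingCat.ofHom ((τ.hom.comp a₀.hom).codRestrict C.toSubring hgC)
  haveI hgl : IsLocalHom g.hom := by
    refine ⟨fun a ha => ?_⟩
    obtain ⟨c, hc⟩ := isUnit_iff_exists_inv.mp ha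
    have hcB : (c : X.residueField u) ∈ B := hCB _ c.2
    have h1 : τ.hom (a₀.hom a) * c = 1 := congrArg Subtype.val hc
    have h2 : residue B (τB.hom (a₀.hom a)) * residue B ⟨c, hcB⟩ = 1 := by
      rw [← map_mul, ← map_one (residue B)]
      exact congrArg _ (Subtype.ext h1)
    rw [hres] at h2
    have h3 : residue B ⟨c, hcB⟩ = (j (σ.hom a))⁻¹ := eq_inv_of_mul_eq_one_right h2
    have h4 : (σ.hom a)⁻¹ ∈ R₀ := hR₀ _ (by rw [map_inv₀, ← h3]; exact hCR _ c.2)
    exact hR₀unit a (fun e => by rw [e, map_zero, zero_mul] at h2; exact zero_ne_one h2) h4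
  have hgen : Spec.map (CommRingCat.ofHom C.subtype) ≫ Spec.map g ≫ S.fromSpecStalk s =
      X.fromSpecResidueField u ≫ f := by
    rw [← reassoc_of% hτ, ← Scheme.SpecMap_stalkMap_fromSpecStalk,
      ← Scheme.SpecMap_stalkSpecializes_fromSpecStalk hfx]
    simp only [← Spec.map_comp_assoc]
    rfl
  obtain ⟨l, hlf, hl⟩ := HE C (Spec.map g ≫ S.fromSpecStalk s)
    (apply_closedPoint g) hgen
  -- restriction to `B`
  let incl : CommRingCat.of C ⟶ .of B :=
    CommRingCat.ofHom (C.subtype.codRestrict B.toSubring fun c => hCB _ c.2)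
  have hinclB : Spec.map (CommRingCat.ofHom B.subtype) ≫ Spec.map incl =
      Spec.map (CommRingCat.ofHom C.subtype) := by
    rw [← Spec.map_comp]; rfl
  have hβ : Spec.map incl ≫ l = Spec.map τB ≫ X.fromSpecStalk x := by
    refine hU B _ _ ?_ ?_ ?_
    · rw [Category.assoc, hlf, Category.assoc, ← Scheme.SpecMap_stalkMap_fromSpecStalk,
        ← Scheme.SpecMap_stalkSpecializes_fromSpecStalk hfx]
      simp only [← Spec.map_comp_assoc]
      rfl
    · rw [reassoc_of% hinclB, hl]
    · rw [← Spec.map_comp_assoc, ← hτ]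
      rfl
  let x'' : X := l (closedPoint C)
  obtain ⟨ξ, hξl, hξ⟩ := exists_stalkMap_eq l (s := x'') rfl
  have hx : x ⤳ x'' := by
    have h1 := congrArg (fun k : Spec (.of B) ⟶ X => k (closedPoint B)) hβ
    rw [apply_closedPoint, Scheme.Hom.comp_apply] at h1
    rw [← h1]
    exact (IsLocalRing.specializes_closedPoint _).map l.continuous
  have hξB : ∀ a, (incl.hom (ξ.hom a)) = τB.hom ((X.presheaf.stalkSpecializes hx).hom a) := by
    have h1 : Spec.map incl ≫ Spec.map ξ ≫ X.fromSpecStalk x'' =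
        Spec.map τB ≫ Spec.map (X.presheaf.stalkSpecializes hx) ≫ X.fromSpecStalk x'' := by
      rw [hξ, hβ, Scheme.SpecMap_stalkSpecializes_fromSpecStalk]
    rw [← Spec.map_comp_assoc, ← Spec.map_comp_assoc, cancel_mono] at h1
    intro a
    exact congrArg (fun k => k.hom a) (Spec.map_injective h1)
  let μ := X.presheaf.stalkSpecializes hx ≫ X.residue x
  have hμ : ∀ a, μ.hom a ∈ R₀ := fun a => hR₀ _ (by
    have h1 := hCR (incl.hom (ξ.hom a)) (ξ.hom a).2
    rw [hξB] at h1
    exact h1)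
  let ψ : X.presheaf.stalk x'' →+* K := ι.hom.comp μ.hom
  have hψ : ∀ a, ∃ r, jK r = ψ a := hμ
  choose r hr using hψ
  let μR : X.presheaf.stalk x'' ⟶ .of R := CommRingCat.ofHom
    { toFun := r
      map_one' := hjK ((hr 1).trans (ψ.map_one.trans jK.map_one.symm))
      map_mul' := fun a b => hjK ((hr _).trans ((ψ.map_mul a b).trans
        ((congrArg₂ (· * ·) (hr a).symm (hr b).symm).trans (jK.map_mul _ _).symm)))
      map_zero' := hjK ((hr 0).trans (ψ.map_zero.trans jK.map_zero.symm))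
      map_add' := fun a b => hjK ((hr _).trans ((ψ.map_add a b).trans
        ((congrArg₂ (· + ·) (hr a).symm (hr b).symm).trans (jK.map_add _ _).symm))) }
  have hgenR : Spec.map (CommRingCat.ofHom jK) ≫ Spec.map μR ≫ X.fromSpecStalk x'' = i₁ := by
    rw [← hι, Scheme.fromSpecResidueField, ← Scheme.SpecMap_stalkSpecializes_fromSpecStalk hx]
    simp only [← Spec.map_comp_assoc]
    congr 2
    exact CommRingCat.hom_ext (RingHom.ext hr)
  refine ⟨Spec.map μR ≫ X.fromSpecStalk x'', ?_, hgenR⟩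
  have hs : f x'' = s := by
    show f (l (closedPoint C)) = s
    rw [← Scheme.Hom.comp_apply, hlf, apply_closedPoint]
  obtain ⟨φ', -, hφ'⟩ := exists_stalkMap_eq i₂ (s := f x'') hs.symm
  rw [Category.assoc, ← Scheme.SpecMap_stalkMap_fromSpecStalk, ← Spec.map_comp_assoc]
  refine Eq.trans ?_ hφ'
  refine congrArg (fun k => Spec.map k ≫ S.fromSpecStalk (f x''))
    (ringHom_ext_of_generic hjK _ _ ?_)
  rw [hφ', Spec.map_comp, Category.assoc, Scheme.SpecMap_stalkMap_fromSpecStalk, reassoc_of% hgenR]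
  exact w


end Groth.Agent.Ega43Prop
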