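import Groth.Agent.Ega43Prop.FibreDichotomy
import Groth.Agent.FibDim.Comp

/-!
# The points where the fibre is equidimensional form a locally constructible set (EGA IV 9.9.1)
-/

set_option autoImplicit false
set_option linter.style.haveILetI false
set_option backward.isDefEq.respectTransparency false
set_option backward.isDefEq.respectTransparency.types false

universe u

open CategoryTheory CategoryTheory.Limits AlgebraicGeometry Topology

namespace Groth.Agent.Ega43Prop

open FibDim (rd FibMax)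

/-- The maximal generizations of a point in its fibre have the same relative degree. -/
def EqPt ⦃X Y : Scheme.{u}⦄ (f : X ⟶ Y) (x : X) : Prop :=
  ∀ z z' : X, z ⤳ x → f z = f x → FibMax f z → z' ⤳ x → f z' = f x → FibMax f z' → rd f z = rd f z'

theorem eqPt_baseChange {X Y X' Y' : Scheme.{u}} {p : X' ⟶ X} {q : X' ⟶ Y'} {f : X ⟶ Y} {g : Y' ⟶ Y}
    [LocallyOfFiniteType f] (h : IsPullback p q f g) (w : X') : EqPt q w ↔ EqPt f (p w) := by
  haveI : LocallyOfFiniteType q := MorphismProperty.of_isPullback (P := @LocallyOfFiniteType) h ‹_›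
  have hw : ∀ v, f (p v) = g (q v) := fun v => by
    show (p ≫ f) v = (q ≫ g) v
    rw [h.w]
  constructor
  · intro hq z z' hz hfz hm hz' hfz' hm'
    have lift : ∀ z : X, z ⤳ p w → f z = f (p w) → FibMax f z →
        ∃ u, u ⤳ w ∧ q u = q w ∧ FibMax q u ∧ rd q u = rd f z := fun z hz hfz hm => by
      obtain ⟨u, huw, hqu, rfl, hrd⟩ := exists_lift_eq_rd h hz hfz
      refine ⟨u, huw, hqu, fun η hη hqη => ?_, hrd⟩
      by_contra hne
      have hlt := FibDim.rd_lt q hη hne hqη
      have hle := FibDim.rd_baseChange_le h η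
      rw [hm (p η) (hη.map p.continuous) (by rw [hw, hw, hqη])] at hle
      omega
    obtain ⟨u, h1, h2, h3, h4⟩ := lift z hz hfz hm
    obtain ⟨u', h1', h2', h3', h4'⟩ := lift z' hz' hfz' hm'
    rw [← h4, ← h4']
    exact hq u u' h1 h2 h3 h1' h2' h3'
  · intro hf u u' hu hqu hm hu' hqu' hm'
    rw [FibDim.rd_baseChange_eq_of_minimal h u fun v hv _ hqv => hm v hv hqv,
      FibDim.rd_baseChange_eq_of_minimal h u' fun v hv _ hqv => hm' v hv hqv]
    exact hf _ _ (hu.map p.continuous) (by rw [hw, hw, hqu]) (FibDim.fibMax_of_baseChange h hm)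
      (hu'.map p.continuous) (by rw [hw, hw, hqu']) (FibDim.fibMax_of_baseChange h hm')

theorem eqPt_source {X Y : Scheme.{u}} (f : X ⟶ Y) [LocallyOfFiniteType f] (U : X.Opens) (x : (U : Scheme.{u})) :
    EqPt (U.ι ≫ f) x ↔ EqPt f (U.ι x) := by
  have hmem : ∀ {z : X}, z ⤳ U.ι x → ∃ v, U.ι v = z := fun {z} hz =>
    (show z ∈ Set.range U.ι by rw [Scheme.Opens.range_ι]; exact hz.mem_open U.isOpen x.2)
  constructor
  · intro h z z' hz hfz hm hz' hfz' hm'
    obtain ⟨v, rfl⟩ := hmem hz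
    obtain ⟨v', rfl⟩ := hmem hz'
    rw [← FibDim.rd_opens, ← FibDim.rd_opens]
    exact h v v' (U.ι.isEmbedding.isInducing.specializes_iff.1 hz) hfz ((FibDim.fibMax_opens_iff f U v).2 hm)
      (U.ι.isEmbedding.isInducing.specializes_iff.1 hz') hfz' ((FibDim.fibMax_opens_iff f U v').2 hm')
  · intro h v v' hv hfv hm hv' hfv' hm'
    rw [FibDim.rd_opens, FibDim.rd_opens]
    exact h _ _ (hv.map U.ι.continuous) hfv ((FibDim.fibMax_opens_iff f U v).1 hm)
      (hv'.map U.ι.continuous) hfv' ((FibDim.fibMax_opens_iff f U v').1 hm')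

theorem exists_nhd_eqPt {X Y : Scheme.{u}} [IsNoetherian X] [IsIntegral Y] (f : X ⟶ Y) [LocallyOfFiniteType f]
    (t : X) (ht : f t = genericPoint Y) :
    ∃ W : Set X, IsOpen W ∧ t ∈ W ∧ ∀ x ∈ W, t ⤳ x → (EqPt f x ↔ EqPt f t) := by
  classical
  obtain ⟨S, hS, hScl, hSirr, hSU⟩ :=
    TopologicalSpace.NoetherianSpace.exists_finite_set_isClosed_irreducible (isClosed_univ (X := X))
  haveI := hS.to_subtype
  have hgen : ∀ z, z ⤳ t → f z = f t := fun z hz =>
    ((hz.map f.continuous).antisymm (ht ▸ genericPoint_specializes _)).eq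
  -- components through `t` and their generic points
  choose c hc using fun C : S => QuasiSober.sober (hSirr C.1 C.2) (hScl C.1 C.2)
  let W₁ : Set X := ⋂ C : S, if t ∈ C.1 then {x | ∀ w ∈ C.1, w ⤳ x → f w = f x → rd f w ≤ rd f (c C)} else C.1ᶜ
  have hW₁ : IsOpen W₁ := isOpen_iInter_of_finite fun C => by
    split
    · exact isOpen_rd_le_closed f (hScl C.1 C.2) _
    · exact (hScl C.1 C.2).isOpen_compl
  have htW₁ : t ∈ W₁ := Set.mem_iInter.2 fun C => by
    split
    next h =>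
      intro w hw hwt hfw
      exact FibDim.rd_le_of_specializes f ((hc C).specializes hw) ((hgen _ ((hc C).specializes h)).trans hfw.symm)
    next h => exact h
  have hW₁mem : ∀ x ∈ W₁, ∀ w, w ⤳ x → f w = f x → ∃ C : S, t ∈ C.1 ∧ w ∈ C.1 ∧ c C ⤳ t ∧ rd f w ≤ rd f (c C) := by
    intro x hx w hwx hfw
    obtain ⟨C, hC, hwC⟩ := Set.mem_sUnion.1 (hSU ▸ Set.mem_univ w : w ∈ ⋃₀ S)
    have := Set.mem_iInter.1 hx ⟨C, hC⟩
    split at this
    next h => exact ⟨⟨C, hC⟩, h, hwC, (hc ⟨C, hC⟩).specializes h, this w hwC hwx hfw⟩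
    next h => exact absurd (hwx.mem_closed (hScl C hC) hwC) this
  by_cases hgood : EqPt f t
  · refine ⟨W₁, hW₁, htW₁, fun x hx htx => iff_of_true (fun z z' hz hfz hm hz' hfz' hm' => ?_) hgood⟩
    obtain ⟨d, hd⟩ : ∃ d, ∀ η, η ⤳ t → FibMax f η → rd f η = d := by
      by_cases hex : ∃ η, η ⤳ t ∧ FibMax f η
      · obtain ⟨η, hη, hηm⟩ := hex
        exact ⟨rd f η, fun ξ hξ hξm => hgood ξ η hξ (hgen ξ hξ) hξm hη (hgen η hη) hηm⟩
      · exact ⟨0, fun η hη hηm => absurd ⟨η, hη, hηm⟩ hex⟩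
    have key : ∀ z, z ⤳ x → f z = f x → FibMax f z → rd f z = d := by
      intro z hz hfz hm
      obtain ⟨C, -, hzC, hct, hle⟩ := hW₁mem x hx z hz hfz
      obtain ⟨ξ, hξ, hfξ, hξm, hξe⟩ := FibDim.exists_fibMax_generization f (c C)
      have hξd := hd ξ (hξ.trans hct) hξm
      have h1 := FibDim.rd_le_of_specializes f hξ hfξ
      obtain ⟨w, -, hwz, hfw, hle'⟩ := FibDim.exists_rd_ge f (hξ.trans ((hc C).specializes hzC))
      rw [hm w hwz hfw] at hle'
      omega
    rw [key z hz hfz hm, key z' hz' hfz' hm']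
  · simp only [EqPt, not_forall] at hgood
    obtain ⟨z₁, z₂, hz₁, -, hm₁, hz₂, -, hm₂, hne⟩ := hgood
    -- the components through `t` with generic points `z₁`, `z₂`
    have hsep : ∀ z, z ⤳ t → FibMax f z → ∃ O : Set X, IsOpen O ∧ t ∈ O ∧
        ∀ x ∈ O, t ⤳ x → ∃ w, w ⤳ x ∧ f w = f x ∧ FibMax f w ∧ rd f w = rd f z := by
      intro z hz hm
      let B : S → Set X := fun C => closure {z} ∩ (if z ∈ C.1 then ∅ else C.1)
      have hB : ∀ C, IsClosed (B C) := fun C => isClosed_closure.inter (by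
        split
        · exact isClosed_empty
        · exact hScl C.1 C.2)
      refine ⟨{x | ∀ w ∈ closure {z}, w ⤳ x → f w = f x → rd f w ≤ rd f z} ∩
          ⋂ C : S, {x | ∀ w ∈ B C, w ⤳ x → f w = f x → rd f w + 1 ≤ rd f z},
        (isOpen_rd_le_closed f isClosed_closure _).inter
          (isOpen_iInter_of_finite fun C => isOpen_rd_add_le_closed f (hB C) 1 _),
        ⟨fun w hw hwt hfw => FibDim.rd_le_of_specializes f (specializes_iff_mem_closure.2 hw)
          ((hgen z hz).trans hfw.symm),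
        Set.mem_iInter.2 fun C w hw hwt hfw => FibDim.rd_lt f (specializes_iff_mem_closure.2 hw.1) ?_
          ((hgen z hz).trans hfw.symm)⟩, fun x hx htx => ?_⟩
      · rintro rfl
        have := hw.2
        split at this
        · exact this
        · contradiction
      · obtain ⟨w, hzw, hwx, hfw, hle⟩ := FibDim.exists_rd_ge f (hz.trans htx)
        have hwle := hx.1 w (specializes_iff_mem_closure.1 hzw) hwx hfw
        refine ⟨w, hwx, hfw, fun η hη hfη => ?_, by omega⟩
        by_contra hne'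
        have hlt := FibDim.rd_lt f hη hne' hfη
        obtain ⟨C, hC, hηC⟩ := Set.mem_sUnion.1 (hSU ▸ Set.mem_univ η : η ∈ ⋃₀ S)
        by_cases hzC : z ∈ C
        · -- then `closure {z}` contains `C`
          have hcz : c ⟨C, hC⟩ = z := hm _ ((hc ⟨C, hC⟩).specializes hzC)
            ((hgen _ (((hc ⟨C, hC⟩).specializes hzC).trans hz)).trans (hgen z hz).symm)
          have hzη : η ∈ closure {z} := by
            rw [← hcz]
            exact specializes_iff_mem_closure.1 ((hc ⟨C, hC⟩).specializes hηC)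
          have := hx.1 η hzη (hη.trans hwx) (hfη.trans hfw)
          omega
        · have := Set.mem_iInter.1 hx.2 ⟨C, hC⟩ w
            ⟨specializes_iff_mem_closure.1 hzw, by rw [if_neg hzC]; exact hη.mem_closed (hScl C hC) hηC⟩ hwx hfw
          omega
    obtain ⟨O₁, hO₁, htO₁, h₁⟩ := hsep z₁ hz₁ hm₁
    obtain ⟨O₂, hO₂, htO₂, h₂⟩ := hsep z₂ hz₂ hm₂
    refine ⟨O₁ ∩ O₂, hO₁.inter hO₂, ⟨htO₁, htO₂⟩, fun x hx htx => iff_of_false (fun h => ?_) ?_⟩
    · obtain ⟨w₁, a1, b1, c1, d1⟩ := h₁ x hx.1 htx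
      obtain ⟨w₂, a2, b2, c2, d2⟩ := h₂ x hx.2 htx
      exact hne (d1 ▸ d2 ▸ h w₁ w₂ a1 b1 c1 a2 b2 c2)
    · exact fun h => hne (h z₁ z₂ hz₁ (hgen z₁ hz₁) hm₁ hz₂ (hgen z₂ hz₂) hm₂)

theorem genGood_eqPt : GenGood.{u} EqPt where
  baseChange _ _ _ _ _ _ _ _ h _ z := eqPt_baseChange h z
  source _ _ f U _ u := eqPt_source f U u
  generic _ _ f _ _ _ _ t ht := exists_nhd_eqPt f t ht

theorem equidim_components_iff {X Y : Scheme.{u}} (f : X ⟶ Y) [LocallyOfFiniteType f] (x : X) :
    (∃ e : ℕ, ∀ Z ∈ irreducibleComponents (↥(f.fiber (f.base x)) : Type u), f.asFiber x ∈ Z →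
        topologicalKrullDim (↥Z : Type u) = e) ↔ EqPt f x := by
  have hdim : ∀ w : ↥(f.fiber (f x)), topologicalKrullDim ↥(closure ({w} : Set ↥(f.fiber (f x)))) =
      ((rd f (f.fiberι (f x) w) : ℕ∞) : WithBot ℕ∞) := fun w => by
    rw [VarDim.topologicalKrullDim_closure_singleton (k := Y.residueField (f x))
      (f.fiberToSpecResidueField (f x)), FibDim.deg_fiber]
  constructor
  · rintro ⟨e, he⟩
    have key : ∀ z, z ⤳ x → f z = f x → FibMax f z → rd f z = e := by
      intro z hz hfz hm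
      obtain ⟨w, rfl⟩ : z ∈ Set.range (f.fiberι (f x)) := by rw [Scheme.Hom.range_fiberι]; exact hfz
      have := he _ (FDescent.closure_mem_irreducibleComponents ((FibDim.fibMax_fiberι_iff f w).1 hm))
        (specializes_iff_mem_closure.1
          ((FibDim.fiberι_specializes_iff f _ _).1 (hz.trans (specializes_of_eq (f.fiberι_asFiber x).symm))))
      rw [hdim] at this
      exact_mod_cast this
    intro z z' hz hfz hm hz' hfz' hm'
    rw [key z hz hfz hm, key z' hz' hfz' hm']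
  · intro h
    obtain ⟨z₀, hz₀, hfz₀, hm₀, -⟩ := FibDim.exists_fibMax_generization f x
    refine ⟨rd f z₀, fun Z hZ hxZ => ?_⟩
    obtain ⟨w, rfl, hw⟩ := FDescent.exists_maximal_of_mem_irreducibleComponents hZ
    rw [hdim, h _ z₀ (((FibDim.fiberι_specializes_iff f _ _).2 (specializes_iff_mem_closure.2 hxZ)).trans
        (specializes_of_eq (f.fiberι_asFiber x))) (FibDim.fiber_apply_fiberι f w)
      ((FibDim.fibMax_fiberι_iff f w).2 hw) hz₀ hfz₀ hm₀]
    norm_cast

end Groth.Agent.Ega43Prop
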