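import Groth.Agent.AssLib.Basic
import Groth.Agent.Alg6.LocLoc
import Groth.Agent.Codepth5.Module
import Groth.Agent.VarDim.Catenary
import Groth.Agent.VarDim.Scheme

/-!
# Primes of a stalk and generizations; Serre's conditions and equidimensionality of stalks
-/

set_option autoImplicit false
set_option linter.style.haveILetI false
set_option backward.isDefEq.respectTransparency false
set_option backward.isDefEq.respectTransparency.types false

universe u

open AlgebraicGeometry CategoryTheory IsLocalRing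

namespace Groth.Agent.Ega43Prop

open Codepth5 (dd)

section Ring

theorem isLocalizedModule_comp_atPrime {A C : Type u} [CommRing A] [CommRing C] [Algebra A C] (S : Submonoid A)
    [IsLocalization S C] {M N : Type u} [AddCommGroup M] [Module A M] [AddCommGroup N] [Module A N] [Module C N]
    [IsScalarTower A C N] (g : M →ₗ[A] N) [IsLocalizedModule S g] (Q : Ideal C) [Q.IsPrime] :
    IsLocalizedModule (Q.comap (algebraMap A C)).primeCompl
      (((LocalizedModule.mkLinearMap Q.primeCompl N).restrictScalars A).comp g) := by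
  haveI := IsLocalization.isLocalization_isLocalization_atPrime_isLocalization S (Localization.AtPrime Q) Q
  rw [isLocalizedModule_iff_isBaseChange _ (Localization.AtPrime Q)]
  exact (IsLocalizedModule.isBaseChange S C g).comp
    (IsLocalizedModule.isBaseChange Q.primeCompl (Localization.AtPrime Q) (LocalizedModule.mkLinearMap Q.primeCompl N))

/-- Two models of the localization of a module at a prime have the same invariants. -/
theorem dd_model_eq {A : Type u} [CommRing A] (q : Ideal A) [q.IsPrime] {M : Type u} [AddCommGroup M] [Module A M]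
    {L L' : Type u} [CommRing L] [IsLocalRing L] [Algebra A L] [IsLocalization.AtPrime L q]
    [CommRing L'] [IsLocalRing L'] [Algebra A L'] [IsLocalization.AtPrime L' q]
    {N N' : Type u} [AddCommGroup N] [Module A N] [Module L N] [IsScalarTower A L N]
    [AddCommGroup N'] [Module A N'] [Module L' N'] [IsScalarTower A L' N']
    (g : M →ₗ[A] N) [IsLocalizedModule q.primeCompl g] (g' : M →ₗ[A] N') [IsLocalizedModule q.primeCompl g'] :
    dd L N = dd L' N' :=
  Prod.ext ((Alg6.supportDim_localized_eq q L g).trans (Alg6.supportDim_localized_eq q L' g').symm)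
    ((Alg6.depth_localized_eq q L g).trans (Alg6.depth_localized_eq q L' g').symm)

open Order in
/-- The dimension formula for primes of a local ring of a finitely generated algebra over a field. -/
theorem coheight_localization {k : Type u} [Field k] {A : Type u} [CommRing A] [Algebra k A]
    [Algebra.FiniteType k A] (q : PrimeSpectrum A) (L : Type u) [CommRing L] [Algebra A L]
    [IsLocalization.AtPrime L q.asIdeal] (p : PrimeSpectrum L) :
    coheight p + coheight q = coheight (PrimeSpectrum.comap (algebraMap A L) p) := by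
  let ι : PrimeSpectrum L → PrimeSpectrum A := PrimeSpectrum.comap (algebraMap A L)
  have hemb : Topology.IsEmbedding ι := PrimeSpectrum.localization_comap_isEmbedding L q.asIdeal.primeCompl
  have hle : ∀ a b, ι a ≤ ι b ↔ a ≤ b := fun a b => by
    rw [PrimeSpectrum.le_iff_specializes, PrimeSpectrum.le_iff_specializes]
    exact hemb.isInducing.specializes_iff
  have hmono : StrictMono ι := fun a b h =>
    lt_of_le_not_ge ((hle _ _).2 h.le) fun h' => h.not_ge ((hle _ _).1 h')
  have hrange : ∀ r, r ≤ q → ∃ a, ι a = r := fun r hr => by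
    have : r ∈ Set.range ι := by
      rw [PrimeSpectrum.localization_comap_range L q.asIdeal.primeCompl]
      exact Set.disjoint_left.mpr fun x hx hxr => hx (hr hxr)
    exact this
  haveI : IsLocalRing L := IsLocalization.AtPrime.isLocalRing L q.asIdeal
  have hcl : ι (closedPoint L) = q := PrimeSpectrum.ext (IsLocalization.AtPrime.comap_maximalIdeal L q.asIdeal)
  have hbelow : ∀ a, ι a ≤ q := fun a => hcl ▸ (hle _ _).2 (IsLocalRing.le_maximalIdeal a.2.ne_top)
  obtain ⟨cq, hcq⟩ := ENat.ne_top_iff_exists.1 (VarDim.coheight_ne_top k q)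
  suffices ∀ n : ℕ, ∀ p, coheight (ι p) = n → coheight p + coheight q = coheight (ι p) by
    obtain ⟨n, hn⟩ := ENat.ne_top_iff_exists.1 (VarDim.coheight_ne_top k (ι p))
    exact this n p hn.symm
  intro n
  induction n using Nat.strong_induction_on with
  | h n ih =>
    intro p hn
    refine le_antisymm ?_ ?_
    · have hcn : cq ≤ n := by
        have := coheight_anti (hbelow p)
        rw [hn, ← hcq] at this
        exact_mod_cast this
      have hbound : coheight p ≤ ((n - cq : ℕ) : ℕ∞) := by
        refine coheight_le fun l hl => ?_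
        have hchain : ∀ j : ℕ, ∀ hj : j < l.length + 1, coheight (ι (l ⟨j, hj⟩)) + j ≤ coheight (ι l.head) := by
          intro j
          induction j with
          | zero => intro hj; rw [Nat.cast_zero, add_zero]; rfl
          | succ j ihj =>
            intro hj
            refine le_trans ?_ (ihj (by omega))
            rw [Nat.cast_succ, ← add_assoc, add_right_comm]
            exact add_le_add_left (coheight_add_one_le (hmono (l.strictMono
              (show (⟨j, _⟩ : Fin _) < ⟨j + 1, hj⟩ from Nat.lt_succ_self j)))) _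
        have h1 := le_trans (add_le_add_left (coheight_anti (hbelow (l ⟨l.length, by omega⟩))) _)
          (hchain l.length (by omega))
        rw [hl, hn, ← hcq] at h1
        have : cq + l.length ≤ n := by exact_mod_cast h1
        exact_mod_cast (show l.length ≤ n - cq by omega)
      rw [hn, ← hcq]
      refine (add_le_add_left hbound _).trans ?_
      exact_mod_cast (show n - cq + cq ≤ n by omega)
    · rcases (hbelow p).eq_or_lt with he | hlt
      · rw [he]
        exact le_add_self
      obtain ⟨r, hr, hrq⟩ := VarDim.exists_covBy k hlt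
      obtain ⟨p', rfl⟩ := hrange r hrq
      have hc := VarDim.coheight_of_covBy k hr
      obtain ⟨m, hm⟩ := ENat.ne_top_iff_exists.1 (VarDim.coheight_ne_top k (ι p'))
      have hmn : m + 1 = n := by
        rw [hn, ← hm] at hc
        exact_mod_cast hc.symm
      have hlt' : p < p' := lt_of_le_not_ge ((hle _ _).1 hr.le) fun h' => hr.lt.not_ge ((hle _ _).2 h')
      rw [hc, ← ih m (by omega) p' hm.symm, add_right_comm]
      exact add_le_add_left (coheight_add_one_le hlt') _

end Ring

section Scheme

variable {Z : Scheme.{u}} (G : Z.Modules) (hG : Coh.IsQCoh G)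

include hG

/-- A prime of the stalk gives a generization with the same invariants. -/
theorem exists_point_of_prime {w : Z} {W : Z.Opens} (hW : IsAffineOpen W) (hw : w ∈ W)
    (p : PrimeSpectrum (Z.presheaf.stalk w)) :
    ∃ (v : Z) (hv : v ∈ W), v ⤳ w ∧
      (hW.primeIdealOf ⟨v, hv⟩).asIdeal = p.asIdeal.comap (Z.presheaf.germ W w hw).hom ∧
      dd (Localization.AtPrime p.asIdeal) (LocalizedModule p.asIdeal.primeCompl (G.presheaf.stalk w)) =
        dd (Z.presheaf.stalk v) (G.presheaf.stalk v) := by
  letI := QCoh.stalkAlg (X := Z) hw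
  letI := QCoh.stalkModule G hw
  haveI := QCoh.isScalarTower_stalk G hw
  haveI := QCoh.isLocalization_stalk' hW hw
  haveI := QCoh.isLocalizedModule_germLin hG hW hw
  obtain ⟨v, hv, he⟩ := QCoh.exists_point hW (PrimeSpectrum.comap (Z.presheaf.germ W w hw).hom p)
  have he' : (hW.primeIdealOf ⟨v, hv⟩).asIdeal = p.asIdeal.comap (Z.presheaf.germ W w hw).hom := by rw [he]; rfl
  refine ⟨v, hv, (AssLib.primeIdealOf_le_iff hW hw hv).1 ?_, he', ?_⟩
  · rw [he']
    exact le_of_le_of_eq (Ideal.comap_mono (le_maximalIdeal p.2.ne_top)) (AssLib.comap_maximalIdeal_stalk hW hw)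
  letI := QCoh.stalkAlg (X := Z) hv
  letI := QCoh.stalkModule G hv
  haveI := QCoh.isScalarTower_stalk G hv
  haveI hlv := QCoh.isLocalization_stalk' hW hv
  haveI hmv := QCoh.isLocalizedModule_germLin hG hW hv
  have key : ∀ (t : Ideal Γ(Z, W)) [t.IsPrime], t = p.asIdeal.comap (algebraMap Γ(Z, W) (Z.presheaf.stalk w)) →
      IsLocalization.AtPrime (Z.presheaf.stalk v) t → IsLocalizedModule t.primeCompl (QCoh.germLin G hv) →
      dd (Localization.AtPrime p.asIdeal) (LocalizedModule p.asIdeal.primeCompl (G.presheaf.stalk w)) =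
        dd (Z.presheaf.stalk v) (G.presheaf.stalk v) := by
    intro t _ ht h1 h2
    subst ht
    haveI := h1
    haveI := h2
    haveI := IsLocalization.isLocalization_isLocalization_atPrime_isLocalization
      (hW.primeIdealOf ⟨w, hw⟩).asIdeal.primeCompl (Localization.AtPrime p.asIdeal) p.asIdeal
    haveI := isLocalizedModule_comp_atPrime (hW.primeIdealOf ⟨w, hw⟩).asIdeal.primeCompl
      (QCoh.germLin G hw) p.asIdeal
    exact dd_model_eq (p.asIdeal.comap (algebraMap Γ(Z, W) (Z.presheaf.stalk w))) (((LocalizedModule.mkLinearMap p.asIdeal.primeCompl (G.presheaf.stalk w)).restrictScalars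
      Γ(Z, W)).comp (QCoh.germLin G hw)) (QCoh.germLin G hv)
  exact key _ he' hlv hmv

omit hG in
/-- Every generization comes from a prime of the stalk. -/
theorem exists_prime_of_point {w v : Z} {W : Z.Opens} (hW : IsAffineOpen W) (hw : w ∈ W) (hvw : v ⤳ w) :
    ∃ p : PrimeSpectrum (Z.presheaf.stalk w),
      p.asIdeal.comap (Z.presheaf.germ W w hw).hom = (hW.primeIdealOf ⟨v, hvw.mem_open W.isOpen hw⟩).asIdeal := by
  letI := QCoh.stalkAlg (X := Z) hw
  haveI := QCoh.isLocalization_stalk' hW hw
  have hle := (AssLib.primeIdealOf_le_iff hW hw (hvw.mem_open W.isOpen hw)).2 hvw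
  have : hW.primeIdealOf ⟨v, hvw.mem_open W.isOpen hw⟩ ∈
      Set.range (PrimeSpectrum.comap (algebraMap Γ(Z, W) (Z.presheaf.stalk w))) := by
    rw [PrimeSpectrum.localization_comap_range (Z.presheaf.stalk w) (hW.primeIdealOf ⟨w, hw⟩).asIdeal.primeCompl]
    exact Set.disjoint_left.mpr fun x hx hxr => hx (hle hxr)
  obtain ⟨p, hp⟩ := this
  exact ⟨p, congrArg PrimeSpectrum.asIdeal hp⟩

/-- Serre's condition for a stalk, pointwise. -/
theorem hasSk_stalk_iff (w : Z) (k : ℕ) :
    LocCoh.HasSk k (Z.presheaf.stalk w) (G.presheaf.stalk w) ↔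
      ∀ v : Z, v ⤳ w → min (k : WithBot ℕ∞) (dd (Z.presheaf.stalk v) (G.presheaf.stalk v)).1 ≤
        (((dd (Z.presheaf.stalk v) (G.presheaf.stalk v)).2 : ℕ∞) : WithBot ℕ∞) := by
  obtain ⟨W, hW, hw, -⟩ := exists_isAffineOpen_mem_and_subset (x := w) (U := (⊤ : Z.Opens)) trivial
  refine ⟨fun h v hvw => ?_, fun h p _ => ?_⟩
  · obtain ⟨p, hp⟩ := exists_prime_of_point hW hw hvw
    obtain ⟨v', hv', -, he, hdd⟩ := exists_point_of_prime G hG hW hw p
    obtain rfl : v' = v := AssLib.eq_of_primeIdealOf_eq hW (hvw.mem_open W.isOpen hw) hv' (he.trans hp)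
    rw [← hdd]
    exact h p.asIdeal
  · obtain ⟨v, -, hvw, -, hdd⟩ := exists_point_of_prime G hG hW hw ⟨p, inferInstance⟩
    have := h v hvw
    rw [← hdd] at this
    exact this

/-- Equidimensionality of a stalk over a field, pointwise. -/
theorem isEquidimModule_stalk_iff {k : Type u} [Field k] (π : Z ⟶ Spec (CommRingCat.of k)) [LocallyOfFiniteType π]
    (w : Z) [Module.Finite (Z.presheaf.stalk w) (G.presheaf.stalk w)] :
    EGA4.IsEquidimModule (Z.presheaf.stalk w) (G.presheaf.stalk w) ↔
      ∀ v v' : Z, v ⤳ w → v' ⤳ w →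
        (Nontrivial (G.presheaf.stalk v) ∧ ∀ t : Z, Nontrivial (G.presheaf.stalk t) → t ⤳ v → t = v) →
        (Nontrivial (G.presheaf.stalk v') ∧ ∀ t : Z, Nontrivial (G.presheaf.stalk t) → t ⤳ v' → t = v') →
        VarDim.deg π v = VarDim.deg π v' := by
  obtain ⟨W, hW, hw, -⟩ := exists_isAffineOpen_mem_and_subset (x := w) (U := (⊤ : Z.Opens)) trivial
  letI := QCoh.stalkAlg (X := Z) hw
  haveI := QCoh.isLocalization_stalk' hW hw
  letI : Algebra k Γ(Z, W) :=
    ((Z.presheaf.map (homOfLE (le_top (a := W))).op).hom.comp (VarDim.baseMap π)).toAlgebra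
  haveI : Algebra.FiniteType k Γ(Z, W) := by
    have h := π.finiteType_appLE (isAffineOpen_top (Spec (CommRingCat.of k))) hW (by simp)
    have h2 : ((π.appLE ⊤ W (by simp)).hom.comp (Scheme.ΓSpecIso (CommRingCat.of k)).inv.hom).FiniteType :=
      h.comp (RingHom.FiniteType.of_surjective _
        (Scheme.ΓSpecIso (CommRingCat.of k)).symm.commRingCatIsoToRingEquiv.surjective)
    exact RingHom.finiteType_algebraMap.1 h2
  let O := Z.presheaf.stalk w
  let ι : PrimeSpectrum O → PrimeSpectrum Γ(Z, W) := PrimeSpectrum.comap (algebraMap Γ(Z, W) O)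
  have hsupp : ∀ (p : PrimeSpectrum O) (v : Z),
      dd (Localization.AtPrime p.asIdeal) (LocalizedModule p.asIdeal.primeCompl (G.presheaf.stalk w)) =
        dd (Z.presheaf.stalk v) (G.presheaf.stalk v) →
      (p ∈ Module.support O (G.presheaf.stalk w) ↔ Nontrivial (G.presheaf.stalk v)) := fun p v hdd => by
    rw [Module.mem_support_iff, ← Module.supportDim_ne_bot_iff_nontrivial (R := Localization.AtPrime p.asIdeal),
      ← Module.supportDim_ne_bot_iff_nontrivial (R := Z.presheaf.stalk v)]
    exact not_congr (by rw [show Module.supportDim _ _ = Module.supportDim _ _ from (Prod.ext_iff.1 hdd).1])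
  have hmin : ∀ (p : PrimeSpectrum O) (v : Z) (hv : v ∈ W),
      (hW.primeIdealOf ⟨v, hv⟩).asIdeal = p.asIdeal.comap (Z.presheaf.germ W w hw).hom →
      dd (Localization.AtPrime p.asIdeal) (LocalizedModule p.asIdeal.primeCompl (G.presheaf.stalk w)) =
        dd (Z.presheaf.stalk v) (G.presheaf.stalk v) →
      (p.asIdeal ∈ (Module.annihilator O (G.presheaf.stalk w)).minimalPrimes ↔
        (Nontrivial (G.presheaf.stalk v) ∧ ∀ t : Z, Nontrivial (G.presheaf.stalk t) → t ⤳ v → t = v)) := by
    intro p v hv he hdd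
    have hz : ∀ q : PrimeSpectrum O, q ∈ Module.support O (G.presheaf.stalk w) ↔
        Module.annihilator O (G.presheaf.stalk w) ≤ q.asIdeal := fun q => by
      rw [Module.support_eq_zeroLocus]; rfl
    have hvw : v ⤳ w := (AssLib.primeIdealOf_le_iff hW hw hv).1 (by
      rw [he]
      exact le_of_le_of_eq (Ideal.comap_mono (le_maximalIdeal p.2.ne_top)) (AssLib.comap_maximalIdeal_stalk hW hw))
    constructor
    · intro hp
      refine ⟨(hsupp p v hdd).1 ((hz p).2 hp.1.2), fun t ht htv => ?_⟩
      obtain ⟨q, hq⟩ := exists_prime_of_point hW hw (htv.trans hvw)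
      obtain ⟨t', ht', -, he', hdd'⟩ := exists_point_of_prime G hG hW hw q
      have hte : t' = t := AssLib.eq_of_primeIdealOf_eq hW ((htv.trans hvw).mem_open W.isOpen hw) ht' (he'.trans hq)
      subst hte
      have hle : ι q ≤ ι p := by
        show q.asIdeal.comap _ ≤ p.asIdeal.comap _
        exact le_of_eq_of_le he'.symm (le_of_le_of_eq ((AssLib.primeIdealOf_le_iff hW hv ht').2 htv) he)
      have hqp : q.asIdeal ≤ p.asIdeal := by
        rw [← IsLocalization.map_comap (hW.primeIdealOf ⟨w, hw⟩).asIdeal.primeCompl O q.asIdeal,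
          ← IsLocalization.map_comap (hW.primeIdealOf ⟨w, hw⟩).asIdeal.primeCompl O p.asIdeal]
        exact Ideal.map_mono hle
      have := hp.2 ⟨q.2, (hz q).1 ((hsupp q _ hdd').2 ht)⟩ hqp
      refine AssLib.eq_of_primeIdealOf_eq hW hv ht' (le_antisymm ((AssLib.primeIdealOf_le_iff hW hv ht').2 htv) ?_)
      rw [he, he']
      exact Ideal.comap_mono this
    · rintro ⟨hnt, hmax⟩
      refine ⟨⟨p.2, (hz p).1 ((hsupp p v hdd).2 hnt)⟩, fun J hJ hJp => ?_⟩
      haveI := hJ.1
      obtain ⟨t, ht, -, he', hdd'⟩ := exists_point_of_prime G hG hW hw ⟨J, hJ.1⟩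
      have htv : t ⤳ v := (AssLib.primeIdealOf_le_iff hW hv ht).1 (by
        rw [he, he']
        exact Ideal.comap_mono hJp)
      have hte := hmax t ((hsupp _ t hdd').1 ((hz _).2 hJ.2)) htv
      subst hte
      rw [← IsLocalization.map_comap (hW.primeIdealOf ⟨w, hw⟩).asIdeal.primeCompl O p.asIdeal,
        ← IsLocalization.map_comap (hW.primeIdealOf ⟨w, hw⟩).asIdeal.primeCompl O J]
      exact Ideal.map_mono (le_of_eq (he.symm.trans he'))
  have hdim : ∀ (p : PrimeSpectrum O) (v : Z) (hv : v ∈ W),
      (hW.primeIdealOf ⟨v, hv⟩).asIdeal = p.asIdeal.comap (Z.presheaf.germ W w hw).hom →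
      ∃ n : ℕ, ringKrullDim (O ⧸ p.asIdeal) = n ∧ n + VarDim.deg π w = VarDim.deg π v := by
    intro p v hv he
    have h := coheight_localization (k := k) (hW.primeIdealOf ⟨w, hw⟩) O p
    rw [show PrimeSpectrum.comap (algebraMap Γ(Z, W) O) p = hW.primeIdealOf ⟨v, hv⟩ from
      PrimeSpectrum.ext he.symm] at h
    obtain ⟨a, ha, ha'⟩ := VarDim.tdeg_eq_coheight π hW (hW.primeIdealOf ⟨v, hv⟩)
    obtain ⟨b, hb, hb'⟩ := VarDim.tdeg_eq_coheight π hW (hW.primeIdealOf ⟨w, hw⟩)
    rw [hW.fromSpec_primeIdealOf] at ha hb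
    rw [ha', hb'] at h
    rw [← VarDim.coheight_eq_ringKrullDim_quotient]
    generalize Order.coheight p = c at h
    induction c using ENat.recTopCoe with
    | top => simp at h
    | coe c =>
      refine ⟨c, rfl, ?_⟩
      rw [VarDim.deg, VarDim.deg, ha, hb, Cardinal.toNat_natCast, Cardinal.toNat_natCast]
      exact_mod_cast h
  constructor
  · intro h v v' hvw hv'w hv hv'
    obtain ⟨p, hp⟩ := exists_prime_of_point hW hw hvw
    obtain ⟨p', hp'⟩ := exists_prime_of_point hW hw hv'w
    obtain ⟨t, ht, -, he, hdd⟩ := exists_point_of_prime G hG hW hw p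
    obtain ⟨t', ht', -, he', hdd'⟩ := exists_point_of_prime G hG hW hw p'
    have hte : t = v := AssLib.eq_of_primeIdealOf_eq hW (hvw.mem_open W.isOpen hw) ht (he.trans hp)
    subst hte
    have hte' : t' = v' := AssLib.eq_of_primeIdealOf_eq hW (hv'w.mem_open W.isOpen hw) ht' (he'.trans hp')
    subst hte'
    obtain ⟨n, hn, hn'⟩ := hdim p _ ht he
    obtain ⟨m, hm, hm'⟩ := hdim p' _ ht' he'
    have e1 := h _ ((hmin p _ ht he hdd).2 hv)
    rw [← h _ ((hmin p' _ ht' he' hdd').2 hv'), hn, hm] at e1
    have : n = m := by exact_mod_cast e1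
    omega
  · intro h P hP
    haveI := hP.1.1
    rw [Module.supportDim_eq_ringKrullDim_quotient_annihilator]
    refine le_antisymm (ringKrullDim_le_of_surjective (Ideal.Quotient.factor hP.1.2)
      (Ideal.Quotient.factor_surjective hP.1.2)) ?_
    refine iSup_le fun l => ?_
    let a := l.head
    let q : PrimeSpectrum O := PrimeSpectrum.comap (Ideal.Quotient.mk (Module.annihilator O (G.presheaf.stalk w))) a
    haveI := q.2
    obtain ⟨P', hP', hP'q⟩ := Ideal.exists_minimalPrimes_le (I := Module.annihilator O (G.presheaf.stalk w))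
      (J := q.asIdeal) (fun x hx => by
        show Ideal.Quotient.mk _ x ∈ a.asIdeal
        rw [Ideal.Quotient.eq_zero_iff_mem.2 hx]
        exact a.asIdeal.zero_mem)
    haveI := hP'.1.1
    obtain ⟨t, ht, htw, he, hdd⟩ := exists_point_of_prime G hG hW hw ⟨P, hP.1.1⟩
    obtain ⟨t', ht', ht'w, he', hdd'⟩ := exists_point_of_prime G hG hW hw ⟨P', hP'.1.1⟩
    obtain ⟨n, hn, hn'⟩ := hdim ⟨P, hP.1.1⟩ _ ht he
    obtain ⟨m, hm, hm'⟩ := hdim ⟨P', hP'.1.1⟩ _ ht' he'
    have hd := h t t' htw ht'w ((hmin ⟨P, hP.1.1⟩ t ht he hdd).1 hP) ((hmin ⟨P', hP'.1.1⟩ t' ht' he' hdd').1 hP')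
    refine le_trans ?_ (le_of_eq (show ringKrullDim (O ⧸ P') = ringKrullDim (O ⧸ P) by
      rw [hm, hn, show m = n by omega]))
    let f : PrimeSpectrum (O ⧸ Module.annihilator O (G.presheaf.stalk w)) → PrimeSpectrum O :=
      PrimeSpectrum.comap (Ideal.Quotient.mk _)
    have hf : StrictMono f := RingHom.strictMono_comap_of_surjective Ideal.Quotient.mk_surjective
    have hc : ((Order.coheight q : ℕ∞) : WithBot ℕ∞) ≤ ringKrullDim (O ⧸ P') := by
      rw [← VarDim.coheight_eq_ringKrullDim_quotient ⟨P', hP'.1.1⟩]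
      exact WithBot.coe_le_coe.2 (Order.coheight_anti hP'q)
    refine le_trans ?_ hc
    exact WithBot.coe_le_coe.2 ((Order.length_le_coheight (x := l.head) (p := l) le_rfl).trans
      (Order.coheight_le_coheight_apply_of_strictMono f hf a))

end Scheme

end Groth.Agent.Ega43Prop
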