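import Groth.Agent.Ega43Prop.FibreInv
import Groth.Agent.Ega43Prop.StalkInv
import Groth.Agent.Codepth5.CM
import Groth.Agent.AssLib.Apply
import Groth.Agent.FibDim.Top
import Groth.Agent.FlatFun4.FPPull

/-!
# Associated points of the fibres of a module, seen from the source (EGA IV 12.1.1, 12.2.1)
-/

set_option autoImplicit false
set_option linter.style.haveILetI false
set_option backward.isDefEq.respectTransparency false
set_option backward.isDefEq.respectTransparency.types false

universe u

open AlgebraicGeometry CategoryTheory IsLocalRing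

namespace Groth.Agent.Ega43Prop

open Codepth5 (dd fibre_dd_eq finite_fibre_stalk)

/-- Support of dimension at most zero means no proper generization in the support. -/
theorem supportDim_le_zero_iff {Z : Scheme.{u}} [IsLocallyNoetherian Z] {G : Z.Modules} (hG : Coh.IsCoh G) (v : Z) :
    Module.supportDim (Z.presheaf.stalk v) (G.presheaf.stalk v) ≤ 0 ↔
      ∀ t : Z, Nontrivial (G.presheaf.stalk t) → t ⤳ v → t = v := by
  let R := Z.presheaf.stalk v
  let N := G.presheaf.stalk v
  haveI : Module.Finite R N := QCoh.finite_stalk_of_isFT hG.1 (QCoh.isFT_of_isFP (QCoh.isCoh_iff_isFP.1 hG)) v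
  have hart : Module.supportDim R N ≤ 0 ↔ IsFiniteLength R N := by
    rcases subsingleton_or_nontrivial N with hs | hn
    · exact iff_of_true (le_of_eq_of_le (Module.supportDim_eq_bot_of_subsingleton R N) bot_le) .of_subsingleton
    constructor
    · intro h
      have h0 : Module.supportDim R N = 0 := le_antisymm h (by
        have := Module.supportDim_ne_bot_of_nontrivial R N
        generalize Module.supportDim R N = x at this ⊢
        induction x with
        | bot => exact absurd rfl this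
        | coe x => exact WithBot.coe_le_coe.2 zero_le)
      have hsub : maximalIdeal R ≤ (Module.annihilator R N).radical := by
        rw [Ideal.radical_eq_sInf]
        refine le_sInf fun q ⟨hle, hq⟩ => ?_
        have hmem : (⟨q, hq⟩ : PrimeSpectrum R) ∈ Module.support R N := Module.mem_support_iff_of_finite.2 hle
        rw [support_of_supportDim_eq_zero R N h0] at hmem
        exact hmem
      obtain ⟨n, hn'⟩ := Ideal.exists_pow_le_of_le_radical_of_fg hsub (IsNoetherian.noetherian _)
      exact AssLib.isFiniteLength_of_pow_le_annihilator _ _ hn'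
    · intro h
      haveI := (isFiniteLength_iff_isNoetherian_isArtinian.1 h).2
      obtain ⟨n, hn'⟩ := AssLib.exists_pow_le_annihilator R N
      haveI : Subsingleton ↥(Module.support R N) := ⟨fun ⟨a, ha⟩ ⟨b, hb⟩ => by
        have hmax : ∀ c ∈ Module.support R N, c = closedPoint R := fun c hc => PrimeSpectrum.ext
          (le_antisymm (le_maximalIdeal c.2.ne_top)
            (c.2.le_of_pow_le (hn'.trans (Module.mem_support_iff_of_finite.1 hc))))
        exact Subtype.ext ((hmax a ha).trans (hmax b hb).symm)⟩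
      exact Order.krullDim_nonpos_of_subsingleton
  rw [hart, AssLib.isFiniteLength_stalk_iff hG]
  exact forall_congr' fun t => ⟨fun h ht => h (not_subsingleton_iff_nontrivial.2 ht),
    fun h ht => h (not_subsingleton_iff_nontrivial.1 ht)⟩

variable {X Y : Scheme.{u}} (f : X ⟶ Y) (F : X.Modules)

theorem fibre_isLocallyNoetherian [LocallyOfFiniteType f] (y : Y) : IsLocallyNoetherian (f.fiber y) :=
  LocallyOfFiniteType.isLocallyNoetherian (f.fiberToSpecResidueField y)

theorem FI_eq (y : Y) (w : ↥(f.fiber y)) :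
    FI f F (f.fiberι y w) =
      dd ((f.fiber y).presheaf.stalk w) (((Scheme.Modules.pullback (f.fiberι y)).obj F).presheaf.stalk w) :=
  (fibre_dd_eq f F _ y w rfl).symm

theorem isCoh_fibre_pullback [LocallyOfFiniteType f] (hF : CohB1.IsFP F) (y : Y) :
    Coh.IsCoh ((Scheme.Modules.pullback (f.fiberι y)).obj F) :=
  haveI := fibre_isLocallyNoetherian f y
  QCoh.isCoh_iff_isFP.2 (FlatFun4.isFP_pullback (f.fiberι y) hF)

theorem mem_ass_fibre_iff [LocallyOfFiniteType f] (hF : CohB1.IsFP F) (y : Y) (w : ↥(f.fiber y)) :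
    w ∈ AssSch.Ass ((Scheme.Modules.pullback (f.fiberι y)).obj F) ↔ (FI f F (f.fiberι y w)).2 = 0 := by
  haveI := fibre_isLocallyNoetherian f y
  haveI := finite_fibre_stalk f F hF y w
  rw [FI_eq, AssLib.mem_ass_def, ← not_iff_not, ← Alg6.one_le_depth_iff, ENat.one_le_iff_ne_zero]
  rfl

theorem dim_closure_fibre [LocallyOfFiniteType f] (y : Y) (w : ↥(f.fiber y)) :
    topologicalKrullDim ↥(closure ({w} : Set ↥(f.fiber y))) = ((FibDim.rd f (f.fiberι y w) : ℕ∞) : WithBot ℕ∞) := by
  rw [VarDim.topologicalKrullDim_closure_singleton (k := Y.residueField y) (f.fiberToSpecResidueField y) w,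
    FibDim.deg_fiber]

/-- The condition at every generization in the fibre, on the fibre. -/
theorem allGenX_iff (Q : WithBot ℕ∞ × ℕ∞ → ℕ∞ → Prop) (y : Y) (w : ↥(f.fiber y)) :
    AllGenX f F Q (f.fiberι y w) ↔
      ∀ v : ↥(f.fiber y), v ⤳ w →
        Q (dd ((f.fiber y).presheaf.stalk v) (((Scheme.Modules.pullback (f.fiberι y)).obj F).presheaf.stalk v))
          (FibDim.rd f (f.fiberι y v) : ℕ∞) := by
  refine ⟨fun h v hv => ?_, fun h z hz hfz => ?_⟩
  · have := h _ (hv.map (f.fiberι y).continuous)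
      (by rw [FibDim.fiber_apply_fiberι, FibDim.fiber_apply_fiberι])
    rwa [FI_eq] at this
  · obtain ⟨v, rfl⟩ : z ∈ Set.range (f.fiberι y) := by
      rw [Scheme.Hom.range_fiberι]
      exact hfz.trans (FibDim.fiber_apply_fiberι f w)
    rw [FI_eq]
    exact h v ((f.fiberι y).isEmbedding.isInducing.specializes_iff.1 hz)

theorem allGenX_assQ_iff [LocallyOfFiniteType f] (hF : CohB1.IsFP F) (Φ : ℕ∞ → Prop) (y : Y) (w : ↥(f.fiber y)) :
    AllGenX f F (assQ Φ) (f.fiberι y w) ↔
      ∀ v ∈ AssSch.Ass ((Scheme.Modules.pullback (f.fiberι y)).obj F), v ⤳ w →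
        Φ (FibDim.rd f (f.fiberι y v) : ℕ∞) := by
  rw [allGenX_iff]
  refine ⟨fun h v hv hvw => h v hvw ?_, fun h v hvw h0 => h v ?_ hvw⟩
  · rw [← FI_eq]
    exact (mem_ass_fibre_iff f F hF y v).1 hv
  · exact (mem_ass_fibre_iff f F hF y v).2 (by rw [FI_eq]; exact h0)

theorem allGenX_skQ_one_iff [LocallyOfFiniteType f] (hF : CohB1.IsFP F) (y : Y) (w : ↥(f.fiber y)) :
    AllGenX f F (skQ 1) (f.fiberι y w) ↔
      ∀ v ∈ AssSch.Ass ((Scheme.Modules.pullback (f.fiberι y)).obj F), v ⤳ w →
        ∀ v' ∈ AssSch.Ass ((Scheme.Modules.pullback (f.fiberι y)).obj F), v' ⤳ v → v' = v := by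
  haveI := fibre_isLocallyNoetherian f y
  have hcoh := isCoh_fibre_pullback f F hF y
  rw [allGenX_iff]
  refine ⟨fun h v hv hvw v' hv' hv'v => ?_, fun h v hvw => ?_⟩
  · have h0 := (mem_ass_fibre_iff f F hF y v).1 hv
    rw [FI_eq] at h0
    have hs := h v hvw
    rw [skQ, h0] at hs
    have hd : Module.supportDim _ _ ≤ 0 := (min_le_iff.1 hs).resolve_left (by simp)
    exact (supportDim_le_zero_iff hcoh v).1 hd v'
      (not_subsingleton_iff_nontrivial.1 (AssLib.mem_support_of_mem_ass hv')) hv'v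
  · rw [skQ]
    by_cases h0 : (dd ((f.fiber y).presheaf.stalk v)
        (((Scheme.Modules.pullback (f.fiberι y)).obj F).presheaf.stalk v)).2 = 0
    · have hv : v ∈ AssSch.Ass ((Scheme.Modules.pullback (f.fiberι y)).obj F) :=
        (mem_ass_fibre_iff f F hF y v).2 (by rw [FI_eq]; exact h0)
      rw [h0]
      refine le_trans (min_le_right _ _) ((supportDim_le_zero_iff hcoh v).2 fun t ht htv => ?_)
      obtain ⟨z, hz, hzt⟩ := AssLib.exists_ass_specializes hcoh.1 (x := t) (not_subsingleton_iff_nontrivial.2 ht)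
      obtain rfl := h v hv hvw z hz (hzt.trans htv)
      exact (htv.antisymm hzt).eq
    · exact le_trans (min_le_left _ _) (WithBot.coe_le_coe.2 (ENat.one_le_iff_ne_zero.2 h0))

theorem allGenX_skQ_iff [LocallyOfFiniteType f] (hF : CohB1.IsFP F) (k : ℕ) (y : Y) (w : ↥(f.fiber y)) :
    AllGenX f F (skQ k) (f.fiberι y w) ↔
      LocCoh.HasSk k ((f.fiber y).presheaf.stalk w)
        (((Scheme.Modules.pullback (f.fiberι y)).obj F).presheaf.stalk w) := by
  rw [allGenX_iff, hasSk_stalk_iff _ (isCoh_fibre_pullback f F hF y).1]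
  rfl

/-- Points of a fibre over points of the base: transport of a pointwise condition. -/
theorem allGenX_asFiber (Q : WithBot ℕ∞ × ℕ∞ → ℕ∞ → Prop) (x : X) :
    AllGenX f F Q x ↔ AllGenX f F Q (f.fiberι (f.base x) (f.asFiber x)) := by
  rw [f.fiberι_asFiber x]

variable [LocallyOfFiniteType f]

/-- With `(S_1)`, equidimensionality means that the associated points have closures of equal dimension. -/
theorem isEquidimModule_fibre_iff (hF : CohB1.IsFP F) (y : Y) (w : ↥(f.fiber y))
    (hS : AllGenX f F (skQ 1) (f.fiberι y w)) :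
    EGA4.IsEquidimModule ((f.fiber y).presheaf.stalk w)
        (((Scheme.Modules.pullback (f.fiberι y)).obj F).presheaf.stalk w) ↔
      ∃ n : ℕ, AllGenX f F (assQ (fun c => c = n)) (f.fiberι y w) := by
  haveI := fibre_isLocallyNoetherian f y
  haveI := finite_fibre_stalk f F hF y w
  have hcoh := isCoh_fibre_pullback f F hF y
  rw [isEquidimModule_stalk_iff _ hcoh.1 (k := Y.residueField y) (f.fiberToSpecResidueField y) w]
  have hmem : ∀ v, v ∈ AssSch.Ass ((Scheme.Modules.pullback (f.fiberι y)).obj F) → v ⤳ w →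
      Nontrivial (((Scheme.Modules.pullback (f.fiberι y)).obj F).presheaf.stalk v) ∧
        ∀ t, Nontrivial (((Scheme.Modules.pullback (f.fiberι y)).obj F).presheaf.stalk t) → t ⤳ v → t = v := by
    intro v hv hvw
    refine ⟨not_subsingleton_iff_nontrivial.1 (AssLib.mem_support_of_mem_ass hv), fun t ht htv => ?_⟩
    obtain ⟨z, hz, hzt⟩ := AssLib.exists_ass_specializes hcoh.1 (x := t) (not_subsingleton_iff_nontrivial.2 ht)
    obtain rfl := (allGenX_skQ_one_iff f F hF y w).1 hS v hv hvw z hz (hzt.trans htv)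
    exact (htv.antisymm hzt).eq
  constructor
  · intro h
    by_cases hex : ∃ v ∈ AssSch.Ass ((Scheme.Modules.pullback (f.fiberι y)).obj F), v ⤳ w
    · obtain ⟨v₀, hv₀, hv₀w⟩ := hex
      refine ⟨FibDim.rd f (f.fiberι y v₀), (allGenX_assQ_iff f F hF _ y w).2 fun v hv hvw => ?_⟩
      rw [← FibDim.deg_fiber f y v, ← FibDim.deg_fiber f y v₀,
        h v v₀ hvw hv₀w (hmem v hv hvw) (hmem v₀ hv₀ hv₀w)]
    · exact ⟨0, (allGenX_assQ_iff f F hF _ y w).2 fun v hv hvw => absurd ⟨v, hv, hvw⟩ hex⟩
  · rintro ⟨n, hn⟩ v v' hvw hv'w hv hv'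
    have hass : ∀ u, Nontrivial (((Scheme.Modules.pullback (f.fiberι y)).obj F).presheaf.stalk u) →
        (∀ t, Nontrivial (((Scheme.Modules.pullback (f.fiberι y)).obj F).presheaf.stalk t) → t ⤳ u → t = u) →
        u ∈ AssSch.Ass ((Scheme.Modules.pullback (f.fiberι y)).obj F) := fun u hu hmax => by
      obtain ⟨z, hz, hzu⟩ := AssLib.exists_ass_specializes hcoh.1 (x := u) (not_subsingleton_iff_nontrivial.2 hu)
      exact hmax z (not_subsingleton_iff_nontrivial.1 (AssLib.mem_support_of_mem_ass hz)) hzu ▸ hz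
    have h1 := (allGenX_assQ_iff f F hF _ y w).1 hn
    have e : (FibDim.rd f (f.fiberι y v) : ℕ∞) = FibDim.rd f (f.fiberι y v') :=
      (h1 v (hass v hv.1 hv.2) hvw).trans (h1 v' (hass v' hv'.1 hv'.2) hv'w).symm
    rw [FibDim.deg_fiber, FibDim.deg_fiber]
    exact_mod_cast e

end Groth.Agent.Ega43Prop
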