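import Groth.Agent.QCoh.FT
import Groth.Agent.QCoh.Support
import Groth.Agent.QCoh.FlatOver
import Groth.Agent.S6285
import Mathlib.RingTheory.Spectrum.Prime.Chevalley
import Mathlib.RingTheory.Regular.IsSMulRegular

/-!
# The image of the support of a flat finitely presented module is open (EGA IV 2.4.6)
-/

set_option autoImplicit false
set_option linter.style.haveILetI false
set_option backward.isDefEq.respectTransparency false
set_option backward.isDefEq.respectTransparency.types false

universe u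

open AlgebraicGeometry CategoryTheory TensorProduct

namespace Groth.Agent.Ega43Prop

section Ring

variable {A B : Type u} [CommRing A] [CommRing B] [Algebra A B] (M : Type u) [AddCommGroup M] [Module B M]
  [Module A M] [IsScalarTower A B M] [Module.Flat A M]

theorem exists_support_le [Module.Finite B M] (q : PrimeSpectrum B) (hq : q ∈ Module.support B M)
    (p' : PrimeSpectrum A) (hp : p' ≤ PrimeSpectrum.comap (algebraMap A B) q) :
    ∃ q' ∈ Module.support B M, q' ≤ q ∧ PrimeSpectrum.comap (algebraMap A B) q' = p' := by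
  let I : Ideal B := p'.asIdeal.map (algebraMap A B)
  let N := M ⧸ (I • ⊤ : Submodule B M)
  have hIq : I ≤ q.asIdeal := Ideal.map_le_iff_le_comap.2 hp
  have hqN : q ∈ Module.support B N := by
    rw [Module.support_quotient]
    exact ⟨hq, hIq⟩
  obtain ⟨P, hP, hPq⟩ := Ideal.exists_minimalPrimes_le (I := Module.annihilator B N) (J := q.asIdeal)
    (Module.mem_support_iff_of_finite.1 hqN)
  haveI := hP.1.1
  have hPN : (⟨P, hP.1.1⟩ : PrimeSpectrum B) ∈ Module.support B N := Module.mem_support_iff_of_finite.2 hP.1.2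
  rw [Module.support_quotient] at hPN
  refine ⟨⟨P, hP.1.1⟩, hPN.1, hPq, PrimeSpectrum.ext (le_antisymm (fun s hs => ?_) ?_)⟩
  swap
  · exact Ideal.map_le_iff_le_comap.1 hPN.2
  by_contra hsp
  have hreg : ∀ m : N, s • m = 0 → m = 0 := by
    have hr : IsSMulRegular (A ⧸ p'.asIdeal) s := fun a b hab => by
      obtain ⟨a, rfl⟩ := Ideal.Quotient.mk_surjective a
      obtain ⟨b, rfl⟩ := Ideal.Quotient.mk_surjective b
      have h : s • (a - b) ∈ p'.asIdeal :=
        Ideal.Quotient.eq_zero_iff_mem.1 (show Ideal.Quotient.mk p'.asIdeal (s • (a - b)) = 0 by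
          rw [smul_sub, map_sub]; exact sub_eq_zero.2 hab)
      exact Ideal.Quotient.eq.2 ((p'.2.mem_or_mem h).resolve_left hsp)
    have hr' : IsSMulRegular ((A ⧸ p'.asIdeal) ⊗[A] M) s := IsSMulRegular.rTensor (M := M) hr
    let e : ((A ⧸ p'.asIdeal) ⊗[A] M) ≃ₗ[A] N :=
      (quotTensorEquivQuotSMul M p'.asIdeal) ≪≫ₗ
        (Submodule.quotEquivOfEq (p'.asIdeal • (⊤ : Submodule A M)) ((I • ⊤ : Submodule B M).restrictScalars A)
          (by rw [Ideal.smul_restrictScalars, Submodule.restrictScalars_top])) ≪≫ₗ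
        (Submodule.Quotient.restrictScalarsEquiv A (I • ⊤ : Submodule B M))
    intro m hm
    obtain ⟨z, rfl⟩ := e.surjective m
    rw [← map_smul, LinearEquiv.map_eq_zero_iff] at hm
    rw [hr' (hm.trans (smul_zero s).symm), map_zero]
  have hsP : algebraMap A B s ∈ P := hs
  -- `s` is nilpotent modulo the annihilator near `P`
  have hrad : algebraMap A (Localization.AtPrime P) s ∈
      ((Module.annihilator B N).map (algebraMap B (Localization.AtPrime P))).radical := by
    rw [Ideal.radical_eq_sInf, Submodule.mem_sInf]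
    rintro J ⟨hJ, hJp⟩
    haveI := hJp
    have hJP : Ideal.comap (algebraMap B (Localization.AtPrime P)) J ≤ P :=
      (Ideal.comap_mono (IsLocalRing.le_maximalIdeal hJp.ne_top)).trans_eq
        (IsLocalization.AtPrime.comap_maximalIdeal (Localization.AtPrime P) P)
    have := hP.2 ⟨hJp.comap _, Ideal.map_le_iff_le_comap.1 hJ⟩ hJP
    rw [IsScalarTower.algebraMap_apply A B (Localization.AtPrime P)]
    exact this hsP
  obtain ⟨n, hn⟩ := hrad
  obtain ⟨⟨⟨c, hc⟩, ⟨t, ht⟩⟩, hct⟩ := (IsLocalization.mem_map_algebraMap_iff P.primeCompl _).1 hn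
  rw [IsScalarTower.algebraMap_apply A B (Localization.AtPrime P), ← map_pow, ← map_mul] at hct
  obtain ⟨⟨v, hv⟩, hvt⟩ := (IsLocalization.eq_iff_exists P.primeCompl _).1 hct
  have hkill : v * t ∈ Module.annihilator B N := Module.mem_annihilator.2 fun m => by
    have h0 : (s ^ n) • ((v * t) • m) = 0 := by
      rw [← algebraMap_smul B (s ^ n), map_pow, smul_smul,
        show algebraMap A B s ^ n * (v * t) = v * (algebraMap A B s ^ n * t) by ring, hvt, mul_smul,
        Module.mem_annihilator.1 hc, smul_zero]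
    clear hn hct hvt
    induction n with
    | zero => simpa using h0
    | succ n ih => rw [pow_succ', mul_smul] at h0; exact ih (hreg _ h0)
  exact (hP.1.1.mem_or_mem (hP.1.2 hkill)).elim hv ht

theorem isOpen_comap_image_support [Algebra.FinitePresentation A B] [Module.FinitePresentation B M] :
    IsOpen (PrimeSpectrum.comap (algebraMap A B) '' Module.support B M) := by
  refine PrimeSpectrum.isOpen_of_stableUnderGeneralization_of_isConstructible ?_ ?_
  · rintro p p' hp ⟨q, hq, rfl⟩
    obtain ⟨q', hq', -, he⟩ := exists_support_le M q hq p' ((PrimeSpectrum.le_iff_specializes _ _).2 hp)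
    exact ⟨q', hq', he⟩
  · refine PrimeSpectrum.isConstructible_comap_image (RingHom.finitePresentation_algebraMap.2 ‹_›) ?_
    obtain ⟨hcl, hco⟩ := S6285.result B M
    exact Topology.IsConstructible.of_compl (IsRetrocompact.isConstructible hcl.isOpen_compl
      ((QuasiSeparatedSpace.isRetrocompact_iff_isCompact hcl.isOpen_compl).2 hco))

end Ring

/-- The image of the support on an open set of a flat finitely presented module is open. -/
theorem isOpen_image_inter_support {X Y : Scheme.{u}} (f : X ⟶ Y) [LocallyOfFinitePresentation f] (F : X.Modules)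
    (hF : CohB1.IsFP F) (hflat : FlatMod.IsFlatOver f F) (O : Set X) (hO : IsOpen O) :
    IsOpen (f '' (O ∩ CohB1.support F)) := by
  have hM := QCoh.isQCoh_of_isFP hF
  rw [isOpen_iff_forall_mem_open]
  rintro _ ⟨x, ⟨hxO, hx⟩, rfl⟩
  obtain ⟨V, hV, hxV, -⟩ := exists_isAffineOpen_mem_and_subset (U := (⊤ : Y.Opens)) (x := f x) trivial
  obtain ⟨U, hU, hxU, hUO⟩ := exists_isAffineOpen_mem_and_subset (U := (⟨O, hO⟩ : X.Opens) ⊓ f ⁻¹ᵁ V)
    (x := x) ⟨hxO, hxV⟩
  have hUV : U ≤ f ⁻¹ᵁ V := fun z hz => (hUO hz).2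
  letI : Algebra Γ(Y, V) Γ(X, U) := (f.appLE V U hUV).hom.toAlgebra
  haveI : Algebra.FinitePresentation Γ(Y, V) Γ(X, U) := f.finitePresentation_appLE hV hU hUV
  letI : Module Γ(Y, V) Γ(F, U) := Module.compHom _ (f.appLE V U hUV).hom
  haveI : IsScalarTower Γ(Y, V) Γ(X, U) Γ(F, U) := IsScalarTower.of_algebraMap_smul fun _ _ => rfl
  haveI := QCoh.finitePresentation_of_isFP hF hU
  haveI : Module.Flat Γ(Y, V) Γ(F, U) := (QCoh.flat_appLE_iff f hM hU hV hUV).2 fun z _ => hflat z
  have hmap : ∀ t, hV.fromSpec (PrimeSpectrum.comap (algebraMap Γ(Y, V) Γ(X, U)) t) = f (hU.fromSpec t) := fun t => by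
    have h := hV.SpecMap_appLE_fromSpec f hU hUV
    exact congr(($h) t)
  refine ⟨hV.fromSpec '' (PrimeSpectrum.comap (algebraMap Γ(Y, V) Γ(X, U)) '' Module.support Γ(X, U) Γ(F, U)), ?_,
    hV.fromSpec.isOpenEmbedding.isOpenMap _ (isOpen_comap_image_support Γ(F, U)), ?_⟩
  · rintro _ ⟨_, ⟨t, ht, rfl⟩, rfl⟩
    have htU : hU.fromSpec t ∈ U := (Set.ext_iff.1 hU.range_fromSpec _).1 (Set.mem_range_self t)
    refine ⟨hU.fromSpec t, ⟨(hUO htU).1, ?_⟩, (hmap t).symm⟩
    rw [← QCoh.mem_moduleSupport_iff hM hU htU]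
    have he : hU.primeIdealOf ⟨hU.fromSpec t, htU⟩ = t :=
      hU.fromSpec.isOpenEmbedding.injective (hU.fromSpec_primeIdealOf ⟨_, htU⟩)
    rw [he]
    exact ht
  · exact ⟨_, ⟨hU.primeIdealOf ⟨x, hxU⟩, (QCoh.mem_moduleSupport_iff hM hU hxU).2 hx, rfl⟩,
      (hmap _).trans (congrArg f (hU.fromSpec_primeIdealOf ⟨x, hxU⟩))⟩

end Groth.Agent.Ega43Prop
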