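import Groth.Agent.Ega43Prop.FibreAss
import Groth.Agent.Ega43Prop.SuppOpen
import Groth.Agent.QCoh.AnnIdeal
import Groth.Agent.QCoh.SupportFT
import Groth.Agent.VarDim.Fibre

/-!
# Dimensions of the components of the supports of the fibres (EGA IV 12.2.1)
-/

set_option autoImplicit false
set_option linter.style.haveILetI false
set_option backward.isDefEq.respectTransparency false
set_option backward.isDefEq.respectTransparency.types false

universe u

open AlgebraicGeometry CategoryTheory IsLocalRing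

namespace Groth.Agent.Ega43Prop

variable {X Y : Scheme.{u}} (f : X ⟶ Y) (F : X.Modules)

/-- The base locus of a closed map attached to an open pointwise condition. -/
theorem isOpen_base_forall (hf : IsClosedMap f) {P : X → Prop} (hP : IsOpen {x | P x}) :
    IsOpen {y : Y | ∀ w : ↥(f.fiber y), P (f.fiberι y w)} := by
  convert (hf _ hP.isClosed_compl).isOpen_compl using 1
  ext y
  refine ⟨fun h => ?_, fun h w => ?_⟩
  · rintro ⟨x, hx, rfl⟩
    have := h (f.asFiber x)
    rw [f.fiberι_asFiber x] at this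
    exact hx this
  · by_contra hw
    exact h ⟨f.fiberι y w, hw, FibDim.fiber_apply_fiberι f w⟩

variable [LocallyOfFiniteType f]

theorem mem_support_fibre_iff (hF : CohB1.IsFP F) (y : Y) (w : ↥(f.fiber y)) :
    Nontrivial (((Scheme.Modules.pullback (f.fiberι y)).obj F).presheaf.stalk w) ↔
      f.fiberι y w ∈ CohB1.support F := by
  rw [← not_subsingleton_iff_nontrivial]
  show w ∈ CohB1.support ((Scheme.Modules.pullback (f.fiberι y)).obj F) ↔ _
  rw [QCoh.support_pullback (f.fiberι y) (QCoh.isQCoh_of_isFP hF) (QCoh.isFT_of_isFP hF)]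
  rfl

/-- A maximal point of the support of the fibre module. -/
def IsMaxPt (y : Y) (v : ↥(f.fiber y)) : Prop :=
  Nontrivial (((Scheme.Modules.pullback (f.fiberι y)).obj F).presheaf.stalk v) ∧
    ∀ t : ↥(f.fiber y), Nontrivial (((Scheme.Modules.pullback (f.fiberι y)).obj F).presheaf.stalk t) → t ⤳ v → t = v

theorem isClosed_supp_fibre (hF : CohB1.IsFP F) (y : Y) :
    IsClosed {z : ↥(f.fiber y) | Nontrivial (((Scheme.Modules.pullback (f.fiberι y)).obj F).presheaf.stalk z)} := by
  have h : {z : ↥(f.fiber y) | Nontrivial (((Scheme.Modules.pullback (f.fiberι y)).obj F).presheaf.stalk z)} =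
      f.fiberι y ⁻¹' CohB1.support F := Set.ext fun z => mem_support_fibre_iff f F hF y z
  rw [h]
  exact (QCoh.isClosed_support_of_ft (QCoh.isFT_of_isFP hF)).preimage (f.fiberι y).continuous

theorem exists_ass_below (hF : CohB1.IsFP F) {y : Y} {w : ↥(f.fiber y)}
    (hw : Nontrivial (((Scheme.Modules.pullback (f.fiberι y)).obj F).presheaf.stalk w)) :
    ∃ v ∈ AssSch.Ass ((Scheme.Modules.pullback (f.fiberι y)).obj F), v ⤳ w := by
  haveI := fibre_isLocallyNoetherian f y
  exact AssLib.exists_ass_specializes (isCoh_fibre_pullback f F hF y).1 (not_subsingleton_iff_nontrivial.2 hw)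

theorem nontrivial_of_ass {y : Y} {w : ↥(f.fiber y)}
    (hw : w ∈ AssSch.Ass ((Scheme.Modules.pullback (f.fiberι y)).obj F)) :
    Nontrivial (((Scheme.Modules.pullback (f.fiberι y)).obj F).presheaf.stalk w) :=
  haveI := fibre_isLocallyNoetherian f y
  not_subsingleton_iff_nontrivial.1 (AssLib.mem_support_of_mem_ass hw)

theorem IsMaxPt.mem_ass (hF : CohB1.IsFP F) {y : Y} {v : ↥(f.fiber y)} (hv : IsMaxPt f F y v) :
    v ∈ AssSch.Ass ((Scheme.Modules.pullback (f.fiberι y)).obj F) := by
  obtain ⟨z, hz, hzv⟩ := exists_ass_below f F hF hv.1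
  exact hv.2 z (nontrivial_of_ass f F hz) hzv ▸ hz

theorem exists_isMaxPt_below (hF : CohB1.IsFP F) {y : Y} {w : ↥(f.fiber y)}
    (hw : Nontrivial (((Scheme.Modules.pullback (f.fiberι y)).obj F).presheaf.stalk w)) :
    ∃ v, IsMaxPt f F y v ∧ v ⤳ w := by
  let S := {z : ↥(f.fiber y) | Nontrivial (((Scheme.Modules.pullback (f.fiberι y)).obj F).presheaf.stalk z)}
  haveI : QuasiSober ↥S := (isClosed_supp_fibre f F hF y).isClosedEmbedding_subtypeVal.quasiSober
  obtain ⟨v, hv, hmax⟩ := FibDim.exists_maximal_generization (⟨w, hw⟩ : ↥S)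
  exact ⟨v.1, ⟨v.2, fun t ht htv => congrArg Subtype.val (hmax ⟨t, ht⟩ ((subtype_specializes_iff _ _).2 htv))⟩,
    hv.map continuous_subtype_val⟩

omit [LocallyOfFiniteType f] in
theorem components_image_eq {α : Type u} [TopologicalSpace α] [QuasiSober α] [T0Space α] {p : α → Prop}
    (hS : IsClosed {z | p z}) (d : α → WithBot ℕ∞)
    (hd : ∀ v, p v → topologicalKrullDim ↥(closure ({v} : Set α)) = d v) :
    (fun Z : Set ↥{z | p z} => topologicalKrullDim ↥Z) '' irreducibleComponents ↥{z | p z} =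
      d '' {v | p v ∧ ∀ t, p t → t ⤳ v → t = v} := by
  have he := hS.isClosedEmbedding_subtypeVal
  haveI : QuasiSober ↥{z | p z} := he.quasiSober
  have hdim : ∀ v : ↥{z | p z}, topologicalKrullDim ↥(closure ({v} : Set ↥{z | p z})) = d v.1 := fun v => by
    rw [← hd v.1 v.2]
    have h1 : closure ({v.1} : Set α) = Subtype.val '' closure ({v} : Set ↥{z | p z}) := by
      rw [← he.closure_image_eq, Set.image_singleton]
    rw [h1]
    exact (he.isEmbedding.homeomorphImage _).isHomeomorph.topologicalKrullDim_eq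
  ext e
  constructor
  · rintro ⟨Z, hZ, rfl⟩
    obtain ⟨v, hv⟩ := QuasiSober.sober hZ.1 (isClosed_of_mem_irreducibleComponents Z hZ)
    refine ⟨v.1, ⟨v.2, fun t ht htv => congrArg Subtype.val (a₁ := (⟨t, ht⟩ : ↥{z | p z})) ?_⟩, ?_⟩
    · have htv' : (⟨t, ht⟩ : ↥{z | p z}) ⤳ v := (subtype_specializes_iff _ _).2 htv
      have hsub : closure ({v} : Set ↥{z | p z}) ⊆ closure {(⟨t, ht⟩ : ↥{z | p z})} :=
        closure_minimal (Set.singleton_subset_iff.2 htv'.mem_closure) isClosed_closure
      have heq : closure ({(⟨t, ht⟩ : ↥{z | p z})} : Set ↥{z | p z}) = closure {v} := le_antisymm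
        (le_of_le_of_eq (hZ.2 isIrreducible_singleton.closure (le_of_eq_of_le hv.def.symm hsub)) hv.def.symm) hsub
      exact ((inseparable_iff_closure_eq).2 heq).eq
    · show _ = topologicalKrullDim ↥Z
      rw [← hv.def, hdim v]
  · rintro ⟨v, ⟨hv, hmax⟩, rfl⟩
    refine ⟨closure ({⟨v, hv⟩} : Set ↥{z | p z}), ⟨isIrreducible_singleton.closure, fun T hT hle => ?_⟩, hdim _⟩
    obtain ⟨t, ht⟩ := QuasiSober.sober hT.closure isClosed_closure
    have htv : t ⤳ (⟨v, hv⟩ : ↥{z | p z}) := specializes_iff_mem_closure.2 (by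
      rw [ht.def]
      exact subset_closure (hle (subset_closure rfl)))
    obtain rfl : t = (⟨v, hv⟩ : ↥{z | p z}) :=
      Subtype.ext (hmax t.1 t.2 (htv.map continuous_subtype_val))
    rw [ht.def]
    exact subset_closure

theorem component_dims (hF : CohB1.IsFP F) (y : Y) :
    (fun Z : Set ↥{z : ↥(f.fiber y) | Nontrivial (((Scheme.Modules.pullback (f.fiberι y)).obj F).presheaf.stalk z)} =>
        topologicalKrullDim ↥Z) '' irreducibleComponents
          ↥{z : ↥(f.fiber y) | Nontrivial (((Scheme.Modules.pullback (f.fiberι y)).obj F).presheaf.stalk z)} =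
      (fun v => ((FibDim.rd f (f.fiberι y v) : ℕ∞) : WithBot ℕ∞)) '' {v | IsMaxPt f F y v} :=
  components_image_eq (α := ↥(f.fiber y))
    (p := fun z => Nontrivial (((Scheme.Modules.pullback (f.fiberι y)).obj F).presheaf.stalk z))
    (isClosed_supp_fibre f F hF y) _ (fun v _ => dim_closure_fibre f y v)

/-- The points of the base over which the fibre support has a component of dimension `n`. -/
theorem isOpen_exists_maxPt [LocallyOfFinitePresentation f] (hF : CohB1.IsFP F) (hflat : FlatMod.IsFlatOver f F)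
    (n : ℕ) : IsOpen {y : Y | ∃ v, IsMaxPt f F y v ∧ FibDim.rd f (f.fiberι y v) = n} := by
  convert isOpen_image_inter_support f F hF hflat {x | AllGenX f F (assQ (fun c => c = (n : ℕ∞))) x}
    (isOpen_assX f F hF hflat _) using 1
  ext y
  constructor
  · rintro ⟨v, hv, hn⟩
    refine ⟨f.fiberι y v, ⟨(allGenX_assQ_iff f F hF _ y v).2 fun u hu huv => ?_,
      (mem_support_fibre_iff f F hF y v).1 hv.1⟩, FibDim.fiber_apply_fiberι f v⟩
    rw [hv.2 u (nontrivial_of_ass f F hu) huv, hn]
  · rintro ⟨x, ⟨hx, hxs⟩, rfl⟩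
    have hw : Nontrivial (((Scheme.Modules.pullback (f.fiberι (f.base x))).obj F).presheaf.stalk (f.asFiber x)) :=
      (mem_support_fibre_iff f F hF _ _).2 (by rw [f.fiberι_asFiber x]; exact hxs)
    obtain ⟨v, hv, hvw⟩ := exists_isMaxPt_below f F hF hw
    refine ⟨v, hv, ?_⟩
    have h := (allGenX_assQ_iff f F hF _ _ (f.asFiber x)).1 ((allGenX_asFiber f F _ x).1 hx) v (hv.mem_ass f F hF) hvw
    exact_mod_cast (show ((FibDim.rd f (f.fiberι _ v) : ℕ∞)) = n from h)

/-- The points of the base over which all associated cycles have dimensions satisfying `Φ`. -/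
theorem isOpen_base_assDims [IsProper f] [LocallyOfFinitePresentation f] (hF : CohB1.IsFP F)
    (hflat : FlatMod.IsFlatOver f F) (Φ : ℕ∞ → Prop) :
    IsOpen {y : Y | ∀ v ∈ AssSch.Ass ((Scheme.Modules.pullback (f.fiberι y)).obj F),
      Φ (FibDim.rd f (f.fiberι y v) : ℕ∞)} := by
  convert isOpen_base_forall f f.isClosedMap (isOpen_assX f F hF hflat Φ) using 1
  ext y
  exact ⟨fun h w => (allGenX_assQ_iff f F hF Φ y w).2 fun v hv _ => h v hv,
    fun h v hv => (allGenX_assQ_iff f F hF Φ y v).1 (h v) v hv specializes_rfl⟩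

theorem isOpen_base_noEmbedded [IsProper f] [LocallyOfFinitePresentation f] (hF : CohB1.IsFP F)
    (hflat : FlatMod.IsFlatOver f F) :
    IsOpen {y : Y | AssSch.NoEmbedded ((Scheme.Modules.pullback (f.fiberι y)).obj F)} := by
  convert isOpen_base_forall f f.isClosedMap (isOpen_skX f F hF hflat 1) using 1
  ext y
  exact ⟨fun h w => (allGenX_skQ_one_iff f F hF y w).2 fun v hv _ v' hv' hv'v => (h v hv v' hv' hv'v).symm,
    fun h v hv v' hv' hv'v => ((allGenX_skQ_one_iff f F hF y v).1 (h v) v hv specializes_rfl v' hv' hv'v).symm⟩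

theorem IsMaxPt.of_ass_noEmbedded (hF : CohB1.IsFP F) {y : Y}
    (hne : AssSch.NoEmbedded ((Scheme.Modules.pullback (f.fiberι y)).obj F)) {v : ↥(f.fiber y)}
    (hv : v ∈ AssSch.Ass ((Scheme.Modules.pullback (f.fiberι y)).obj F)) : IsMaxPt f F y v := by
  refine ⟨nontrivial_of_ass f F hv, fun t ht htv => ?_⟩
  obtain ⟨z, hz, hzt⟩ := exists_ass_below f F hF ht
  obtain rfl := hne v hv z hz (hzt.trans htv)
  exact (htv.antisymm hzt).eq

/-- Values of the pointwise Serre conditions. -/
theorem skQ_mono {k : ℕ} (hk : 1 ≤ k) {x : X} (h : AllGenX f F (skQ k) x) : AllGenX f F (skQ 1) x :=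
  fun z hz hfz => le_trans (min_le_min_right _ (by exact_mod_cast hk)) (h z hz hfz)

end Groth.Agent.Ega43Prop
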