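import Groth.Agent.Ega43Prop.GeomRkConstr

/-!
# Constructibility of fibrewise properties by looking at generic points
-/

set_option autoImplicit false
set_option linter.style.haveILetI false
set_option backward.isDefEq.respectTransparency false
set_option backward.isDefEq.respectTransparency.types false

universe u

open CategoryTheory CategoryTheory.Limits AlgebraicGeometry Topology

namespace Groth.Agent.Ega43Prop

/-- A fibrewise property which is invariant under base change and open immersion and which, over an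
integral base, is constant near each point of the generic fibre on the closure of that point. -/
structure GenGood (P : ∀ ⦃X Y : Scheme.{u}⦄, (X ⟶ Y) → X → Prop) : Prop where
  baseChange : ∀ ⦃X Y X' Y' : Scheme.{u}⦄ (f : X ⟶ Y) (p : X' ⟶ X) (q : X' ⟶ Y') (g : Y' ⟶ Y),
    IsPullback p q f g → LocallyOfFiniteType f → ∀ z, P q z ↔ P f (p z)
  source : ∀ ⦃X Y : Scheme.{u}⦄ (f : X ⟶ Y) (U : X.Opens), LocallyOfFiniteType f →
    ∀ u : (U : Scheme.{u}), P (U.ι ≫ f) u ↔ P f (U.ι u)
  generic : ∀ ⦃X Y : Scheme.{u}⦄ (f : X ⟶ Y) [IsNoetherian X] [IsIntegral Y] [IsLocallyNoetherian Y]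
    [LocallyOfFinitePresentation f], ∀ t : X, f t = genericPoint Y →
      ∃ W : Set X, IsOpen W ∧ t ∈ W ∧ ∀ x ∈ W, t ⤳ x → (P f x ↔ P f t)

variable {P : ∀ ⦃X Y : Scheme.{u}⦄, (X ⟶ Y) → X → Prop}

theorem GenGood.isConstructible (hP : GenGood P) {X Y : Scheme.{u}} [IsNoetherian X] [IsLocallyNoetherian Y]
    (f : X ⟶ Y) [LocallyOfFiniteType f] : IsConstructible {x : X | P f x} := by
  refine ConsPropLib.isConstructible_of_dichotomy _ fun T j _ _ _ => ?_
  obtain ⟨TS, jS, _, _, hr, hgen⟩ := ConsPropLib.exists_integral_closure (f (j (genericPoint T)))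
  haveI : IsLocallyNoetherian TS := LocallyOfFiniteType.isLocallyNoetherian jS
  have sub : Set.range (j ≫ f) ⊆ Set.range jS := by
    rw [hr]
    rintro _ ⟨t, rfl⟩
    exact specializes_iff_mem_closure.1 ((genericPoint_specializes t).map (j ≫ f).continuous)
  obtain ⟨a, ha⟩ := H23.RedSub.exists_lift_closed (j ≫ f) jS sub
  let l : T ⟶ pullback f jS := pullback.lift j a ha.symm
  let f₁ := pullback.snd f jS
  haveI : LocallyOfFiniteType f₁ := MorphismProperty.of_isPullback (IsPullback.of_hasPullback f jS) ‹_›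
  haveI : LocallyOfFinitePresentation f₁ := FibreLoc5.lfp_of_noetherian' f₁
  haveI : IsLocallyNoetherian (pullback f jS) := LocallyOfFiniteType.isLocallyNoetherian (pullback.fst f jS)
  haveI : CompactSpace ↥(pullback f jS) := QuasiCompact.compactSpace_of_compactSpace (pullback.fst f jS)
  haveI : IsNoetherian (pullback f jS) := {}
  have hlj : ∀ t, P f₁ (l t) ↔ P f (j t) := fun t => by
    rw [hP.baseChange f (pullback.fst f jS) f₁ jS (IsPullback.of_hasPullback f jS) inferInstance (l t),
      ← Scheme.Hom.comp_apply, pullback.lift_fst]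
  obtain ⟨W, hW, htW, hiff⟩ := hP.generic f₁ (l (genericPoint T)) (jS.isClosedEmbedding.injective (by
    rw [hgen, ← Scheme.Hom.comp_apply, ← Scheme.Hom.comp_apply, show l ≫ f₁ ≫ jS = j ≫ f from
      (pullback.lift_snd_assoc _ _ _ _).trans ha, Scheme.Hom.comp_apply]))
  by_cases hg : P f₁ (l (genericPoint T))
  · exact Or.inl ⟨genericPoint T, interior_maximal (s := j ⁻¹' {x | P f x}) (t := l ⁻¹' W)
      (fun (t : T) ht => (hlj t).1 ((hiff _ ht ((genericPoint_specializes t).map l.continuous)).2 hg))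
      (hW.preimage l.continuous) htW⟩
  · exact Or.inr ⟨genericPoint T, interior_maximal (s := (j ⁻¹' {x | P f x})ᶜ) (t := l ⁻¹' W)
      (fun (t : T) ht h => hg ((hiff _ ht ((genericPoint_specializes t).map l.continuous)).1 ((hlj t).2 h)))
      (hW.preimage l.continuous) htW⟩

theorem GenGood.isLocallyConstructible (hP : GenGood P) {X Y : Scheme.{u}} (f : X ⟶ Y)
    [LocallyOfFinitePresentation f] : IsLocallyConstructible {x : X | P f x} := by
  intro x
  obtain ⟨V, hV, hxV, -⟩ := exists_isAffineOpen_mem_and_subset (U := (⊤ : Y.Opens)) (x := f x) trivial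
  obtain ⟨U, hU, hxU, hUV'⟩ := exists_isAffineOpen_mem_and_subset (U := f ⁻¹ᵁ V) (x := x) hxV
  have hUV : U ≤ f ⁻¹ᵁ V := hUV'
  refine ⟨U, U.2.mem_nhds hxU, U.2, ?_⟩
  haveI : IsAffine (U : Scheme.{u}) := hU
  haveI : IsAffine (V : Scheme.{u}) := hV
  let g := f.resLE V U hUV
  haveI : LocallyOfFinitePresentation g := inferInstance
  obtain ⟨S₀, X₀, _, π, u₀, _, qX, _, _, _, _, _, -, -, sq, -⟩ := ConsPropLib.exists_model_pair g g
  haveI : IsLocallyNoetherian X₀ := LocallyOfFiniteType.isLocallyNoetherian u₀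
  haveI : CompactSpace X₀ := QuasiCompact.compactSpace_of_compactSpace u₀
  haveI : IsNoetherian X₀ := {}
  haveI : QuasiCompact qX := MorphismProperty.of_isPullback (P := @QuasiCompact) sq.flip inferInstance
  have hset : (U.ι ⁻¹' {x : X | P f x} : Set (U : Scheme.{u})) = qX ⁻¹' {x : X₀ | P u₀ x} := by
    ext z
    have hgf : g ≫ V.ι = U.ι ≫ f := f.resLE_comp_ι hUV
    haveI : LocallyOfFiniteType (g ≫ V.ι) := hgf ▸ inferInstance
    show P f (U.ι z) ↔ P u₀ (qX z)
    have hmono : IsPullback (𝟙 (U : Scheme.{u})) g (g ≫ V.ι) V.ι :=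
      IsPullback.mk ⟨by simp⟩ ⟨PullbackCone.IsLimit.mk _
        (fun s => s.fst) (fun s => by simp) (fun s => (cancel_mono V.ι).1 (by rw [Category.assoc]; exact s.condition))
        (fun s m h1 _ => by simpa using h1)⟩
    rw [← hP.source f U inferInstance z, ← hgf, ← hP.baseChange u₀ qX g π sq inferInstance z]
    exact (hP.baseChange _ _ _ _ hmono inferInstance z).symm
  show IsConstructible (U.ι ⁻¹' {x : X | P f x} : Set (U : Scheme.{u}))
  rw [hset]
  exact qX.isConstructible_preimage (hP.isConstructible u₀)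

end Groth.Agent.Ega43Prop
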