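import Groth.Agent.Codepth5.Sk

/-!
# Pointwise conditions on the invariants of the fibres of a flat module (EGA IV 12.1.1)

`AllGen` asks a condition on (dimension of support, depth, dimension of closure) at every
generization inside the fibre.  The loci so defined are open for the conditions of Serre and for
conditions on the dimensions of associated cycles.
-/

set_option autoImplicit false
set_option linter.style.haveILetI false
set_option backward.isDefEq.respectTransparency false
set_option backward.isDefEq.respectTransparency.types false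

universe u

open AlgebraicGeometry CategoryTheory IsLocalRing TensorProduct Groth.Agent.RegLoc6

namespace Groth.Agent.Ega43Prop

open Codepth5
open FibDim (fib)

/-- A condition at every generization in the fibre. -/
def AllGen (A : Type u) {B : Type u} [CommRing A] [CommRing B] [Algebra A B] (M : Type u) [AddCommGroup M]
    [Module B M] (Q : WithBot ℕ∞ × ℕ∞ → ℕ∞ → Prop) (q : PrimeSpectrum B) : Prop :=
  ∀ t : PrimeSpectrum B, t ≤ q →
    PrimeSpectrum.comap (algebraMap A B) t = PrimeSpectrum.comap (algebraMap A B) q →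
    Q (dd (Localization.AtPrime t.asIdeal) (EGA4.FibLocMod A B t.asIdeal M))
      (Order.coheight (⟨t, rfl⟩ : ↥(fib (B := B) (PrimeSpectrum.comap (algebraMap A B) t))))

/-- The condition of Serre. -/
def skQ (k : ℕ) (i : WithBot ℕ∞ × ℕ∞) (_ : ℕ∞) : Prop :=
  min (k : WithBot ℕ∞) i.1 ≤ ((i.2 : ℕ∞) : WithBot ℕ∞)

/-- The dimension of the closure of an associated point satisfies `Φ`. -/
def assQ (Φ : ℕ∞ → Prop) (i : WithBot ℕ∞ × ℕ∞) (c : ℕ∞) : Prop := i.2 = 0 → Φ c

theorem skQ_empty (k : ℕ) (c : ℕ∞) : skQ k (⊥, ⊤) c := le_trans (min_le_right _ _) bot_le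

theorem assQ_empty (Φ : ℕ∞ → Prop) (c : ℕ∞) : assQ Φ (⊥, ⊤) c := fun h => absurd h (by simp)

section Poly

variable {R : Type u} [CommRing R] {N : ℕ} (M : Type u) [AddCommGroup M]
  [Module (MvPolynomial (Fin N) R) M] [Module R M] [IsScalarTower R (MvPolynomial (Fin N) R) M]
  [Module.FinitePresentation (MvPolynomial (Fin N) R) M] [Module.Flat R M]

theorem isOpen_allGen_skQ (k : ℕ) :
    IsOpen {q : PrimeSpectrum (MvPolynomial (Fin N) R) | AllGen R M (skQ k) q} := by
  have h0 := isOpen_skGen (R := R) (N := N) M k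
  convert h0 using 1
  ext q
  refine ⟨fun h t ht => h t.1 ht t.2, fun h t ht he => h ⟨t, he⟩ ht⟩

theorem isOpen_allGen_assQ (Φ : ℕ∞ → Prop) :
    IsOpen {q : PrimeSpectrum (MvPolynomial (Fin N) R) | AllGen R M (assQ Φ) q} := by
  classical
  let W : ℕ → Set (PrimeSpectrum (MvPolynomial (Fin N) R)) := fun j =>
    {q | PdLE (EGA4.FibLocRing R (MvPolynomial (Fin N) R) q.asIdeal) j
      ((EGA4.FibLocRing R (MvPolynomial (Fin N) R) q.asIdeal) ⊗[MvPolynomial (Fin N) R] M)}
  let E : ℕ → Set (PrimeSpectrum (MvPolynomial (Fin N) R)) := fun d =>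
    Module.support (MvPolynomial (Fin N) R) M ∩ ⋂ j ∈ Finset.range d, (W j)ᶜ
  have hE : ∀ d, IsClosed (E d) := fun d =>
    Module.isClosed_support.inter (isClosed_biInter fun j _ =>
      (isOpen_pdLE (A := R) (B := MvPolynomial (Fin N) R) j M).isClosed_compl)
  choose I hI using fun d => (PrimeSpectrum.isClosed_iff_zeroLocus_ideal (E d)).1 (hE d)
  have hEI : ∀ d, Module.support (MvPolynomial (Fin N) R) (MvPolynomial (Fin N) R ⧸ I d) = E d := fun d => by
    rw [Module.support_eq_zeroLocus, Ideal.annihilator_quotient, ← hI d]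
  have heq : {q : PrimeSpectrum (MvPolynomial (Fin N) R) | AllGen R M (assQ Φ) q} =
      ⋂ d ∈ (Finset.range (N + 1)).filter (fun d : ℕ => ¬ Φ ((N - d : ℕ) : ℕ∞)),
      {q | ∀ t : ↥(fib (B := MvPolynomial (Fin N) R) (PrimeSpectrum.comap (algebraMap R (MvPolynomial (Fin N) R)) q)),
        t.1 ≤ q → t.1 ∈ Module.support (MvPolynomial (Fin N) R) (MvPolynomial (Fin N) R ⧸ I d) →
          ((d + 1 : ℕ) : ℕ∞) ≤ Order.height t + (0 : ℕ)} := by
    ext q
    simp only [Set.mem_iInter, Finset.mem_filter, Finset.mem_range, Set.mem_ofPred_eq, hEI, Nat.cast_zero,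
      add_zero]
    refine ⟨fun h d hd t ht htE => ?_, fun h t ht he h0 => ?_⟩
    · rw [height_congr_fib t.2.symm t ⟨t.1, rfl⟩ rfl]
      rcases exists_invariants M t.1 with ⟨hns, -⟩ | ⟨d', D, a, haD, hDd, hdN, -, hdd, hh, hW, -⟩
      · exact absurd htE.1 hns
      rw [hh]
      have hge : a + d ≤ d' := by
        rcases Nat.eq_zero_or_pos d with rfl | hpos
        · omega
        · have := (Set.mem_iInter₂.1 htE.2) (d - 1) (Finset.mem_range.2 (by omega))
          have h1 : ¬ d' ≤ a + (d - 1) := fun h' => this ((hW _).2 h')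
          omega
      by_contra hlt
      have hlt' : d' < d + 1 := by exact_mod_cast not_le.1 hlt
      have ha : a = 0 := by omega
      have hd' : d' = d := by omega
      subst hd'
      refine hd.2 ?_
      have hc := height_add_coheight_fib _ (⟨t.1, rfl⟩ : ↥(fib (B := MvPolynomial (Fin N) R)
        (PrimeSpectrum.comap (algebraMap R (MvPolynomial (Fin N) R)) t.1)))
      have hΦ := h t.1 ht t.2 (by rw [hdd]; exact congrArg Nat.cast ha)
      rw [hh] at hc
      generalize Order.coheight (⟨t.1, rfl⟩ : ↥(fib (B := MvPolynomial (Fin N) R)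
        (PrimeSpectrum.comap (algebraMap R (MvPolynomial (Fin N) R)) t.1))) = c at hc hΦ
      induction c using ENat.recTopCoe with
      | top => simp at hc
      | coe c =>
        have hc' : d' + c = N := by exact_mod_cast hc
        rwa [show N - d' = c by omega]
    · rcases exists_invariants M t with ⟨-, hdd, -⟩ | ⟨d, D, a, haD, hDd, hdN, hs, hdd, hh, hW, -⟩
      · rw [hdd] at h0
        simp at h0
      rw [hdd] at h0
      have ha : a = 0 := by exact_mod_cast (show ((a : ℕ) : ℕ∞) = 0 from h0)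
      have hc := height_add_coheight_fib _ (⟨t, rfl⟩ : ↥(fib (B := MvPolynomial (Fin N) R)
        (PrimeSpectrum.comap (algebraMap R (MvPolynomial (Fin N) R)) t)))
      rw [hh] at hc
      by_contra hnΦ
      generalize Order.coheight (⟨t, rfl⟩ : ↥(fib (B := MvPolynomial (Fin N) R)
        (PrimeSpectrum.comap (algebraMap R (MvPolynomial (Fin N) R)) t))) = c at hc hnΦ
      induction c using ENat.recTopCoe with
      | top => simp at hc
      | coe c =>
        have hc' : d + c = N := by exact_mod_cast hc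
        have hle := h d ⟨by omega, by rwa [show N - d = c by omega]⟩ ⟨t, he⟩ ht
          ⟨hs, Set.mem_iInter₂.2 fun j hj hWj => by
            have := (hW j).1 hWj
            have := Finset.mem_range.1 hj
            omega⟩
        rw [height_congr_fib he.symm ⟨t, he⟩ ⟨t, rfl⟩ rfl, hh] at hle
        have : d + 1 ≤ d := by exact_mod_cast hle
        omega
  rw [heq]
  exact isOpen_biInter_finset fun d _ => isOpen_codim _ _ 0

end Poly

section Affine

variable {A B : Type u} [CommRing A] [CommRing B] [Algebra A B] [Algebra.FinitePresentation A B] (M : Type u)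
  [AddCommGroup M] [Module B M] [Module A M] [IsScalarTower A B M] [Module.FinitePresentation B M] [Module.Flat A M]

theorem isOpen_allGen_affine (Q : WithBot ℕ∞ × ℕ∞ → ℕ∞ → Prop) (hQ0 : ∀ c, Q (⊥, ⊤) c)
    (hQ : ∀ (R : Type u) [CommRing R] (N : ℕ) (M : Type u) [AddCommGroup M]
      [Module (MvPolynomial (Fin N) R) M] [Module R M] [IsScalarTower R (MvPolynomial (Fin N) R) M]
      [Module.FinitePresentation (MvPolynomial (Fin N) R) M] [Module.Flat R M],
      IsOpen {q : PrimeSpectrum (MvPolynomial (Fin N) R) | AllGen R M Q q}) :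
    IsOpen {q : PrimeSpectrum B | AllGen A M Q q} := by
  obtain ⟨n, iB, iM, h1, h2, h3, hf, hfp⟩ := exists_presentation (A := A) (B := B) M
  let ι := PrimeSpectrum.comap (algebraMap (MvPolynomial (Fin n) A) B)
  convert (hQ A n M).preimage (PrimeSpectrum.continuous_comap (algebraMap (MvPolynomial (Fin n) A) B)) using 1
  ext q
  have hι : Topology.IsClosedEmbedding ι := PrimeSpectrum.isClosedEmbedding_comap_of_surjective _ _ hf
  have hy : ∀ t : PrimeSpectrum B, PrimeSpectrum.comap (algebraMap A (MvPolynomial (Fin n) A)) (ι t) =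
      PrimeSpectrum.comap (algebraMap A B) t := fun t => by
    show PrimeSpectrum.comap _ (PrimeSpectrum.comap _ t) = _
    rw [← PrimeSpectrum.comap_comp_apply, ← IsScalarTower.algebraMap_eq]
  have hle : ∀ a b, ι a ≤ ι b ↔ a ≤ b := fun a b => by
    rw [PrimeSpectrum.le_iff_specializes, PrimeSpectrum.le_iff_specializes]
    exact hι.isInducing.specializes_iff
  have hone : ∀ t : PrimeSpectrum B,
      Q (dd (Localization.AtPrime (ι t).asIdeal) (EGA4.FibLocMod A (MvPolynomial (Fin n) A) (ι t).asIdeal M))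
        (Order.coheight (⟨ι t, rfl⟩ : ↥(fib (B := MvPolynomial (Fin n) A)
          (PrimeSpectrum.comap (algebraMap A (MvPolynomial (Fin n) A)) (ι t))))) ↔
      Q (dd (Localization.AtPrime t.asIdeal) (EGA4.FibLocMod A B t.asIdeal M))
        (Order.coheight (⟨t, rfl⟩ : ↥(fib (B := B) (PrimeSpectrum.comap (algebraMap A B) t)))) := fun t => by
    rw [show dd (Localization.AtPrime (ι t).asIdeal) (EGA4.FibLocMod A (MvPolynomial (Fin n) A) (ι t).asIdeal M) =
      dd (Localization.AtPrime t.asIdeal) (EGA4.FibLocMod A B t.asIdeal M) from dd_surjective hf M t, transfer hf t]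
  show AllGen A M Q q ↔ AllGen A M Q (ι q)
  refine ⟨fun h t ht he => ?_, fun h t ht he => (hone t).1 (h (ι t) ((hle _ _).2 ht) (by rw [hy, hy, he]))⟩
  by_cases hr : t ∈ Set.range ι
  · obtain ⟨b, rfl⟩ := hr
    rw [hy, hy] at he
    exact (hone b).2 (h b ((hle _ _).1 ht) he)
  · have hts : t ∉ Module.support (MvPolynomial (Fin n) A) M := fun h => hr <| by
      rw [_root_.range_comap_of_surjective _ _ hf]
      intro r hrr
      refine (Module.support_eq_zeroLocus (R := MvPolynomial (Fin n) A) (M := M)).le h (Module.mem_annihilator.2 fun m => ?_)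
      rw [← algebraMap_smul B r m, RingHom.mem_ker.1 hrr, zero_smul]
    rcases exists_invariants M t with ⟨-, hdd, -⟩ | ⟨d, D, a, -, -, -, hs, -⟩
    · rw [hdd]
      exact hQ0 _
    · exact absurd hs hts

end Affine

section Scheme

variable {X Y : Scheme.{u}} (f : X ⟶ Y) (F : X.Modules)

/-- Support dimension and depth of the fibre module at a point of the source. -/
noncomputable def FI (x : X) : WithBot ℕ∞ × ℕ∞ :=
  dd (X.presheaf.stalk x) (F.presheaf.stalk x ⧸ (fibIdeal f x • ⊤ : Submodule (X.presheaf.stalk x) (F.presheaf.stalk x)))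

/-- A condition at every generization in the fibre through a point. -/
def AllGenX (Q : WithBot ℕ∞ × ℕ∞ → ℕ∞ → Prop) (x : X) : Prop :=
  ∀ z : X, z ⤳ x → f z = f x → Q (FI f F z) (FibDim.rd f z : ℕ∞)

theorem isOpen_allGenX [LocallyOfFinitePresentation f] (hF : CohB1.IsFP F) (hflat : FlatMod.IsFlatOver f F)
    (Q : WithBot ℕ∞ × ℕ∞ → ℕ∞ → Prop) (hQ0 : ∀ c, Q (⊥, ⊤) c)
    (hQ : ∀ (R : Type u) [CommRing R] (N : ℕ) (M : Type u) [AddCommGroup M]
      [Module (MvPolynomial (Fin N) R) M] [Module R M] [IsScalarTower R (MvPolynomial (Fin N) R) M]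
      [Module.FinitePresentation (MvPolynomial (Fin N) R) M] [Module.Flat R M],
      IsOpen {q : PrimeSpectrum (MvPolynomial (Fin N) R) | AllGen R M Q q}) :
    IsOpen {x : X | AllGenX f F Q x} := by
  have hM := QCoh.isQCoh_of_isFP hF
  rw [isOpen_iff_forall_mem_open]
  intro x hx
  obtain ⟨V, hV, hxV, -⟩ := exists_isAffineOpen_mem_and_subset (U := (⊤ : Y.Opens)) (x := f x) trivial
  obtain ⟨U, hU, hxU, hUV⟩ := exists_isAffineOpen_mem_and_subset (U := f ⁻¹ᵁ V) (x := x) hxV
  letI : Algebra Γ(Y, V) Γ(X, U) := (f.appLE V U hUV).hom.toAlgebra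
  haveI : Algebra.FinitePresentation Γ(Y, V) Γ(X, U) := f.finitePresentation_appLE hV hU hUV
  letI : Module Γ(Y, V) Γ(F, U) := Module.compHom _ (f.appLE V U hUV).hom
  haveI : IsScalarTower Γ(Y, V) Γ(X, U) Γ(F, U) := IsScalarTower.of_algebraMap_smul fun _ _ => rfl
  haveI := QCoh.finitePresentation_of_isFP hF hU
  haveI : Module.Flat Γ(Y, V) Γ(F, U) := (QCoh.flat_appLE_iff f hM hU hV hUV).2 fun z _ => hflat z
  have hmap : ∀ t, hV.fromSpec (PrimeSpectrum.comap (algebraMap Γ(Y, V) Γ(X, U)) t) = f (hU.fromSpec t) := fun t => by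
    have h := hV.SpecMap_appLE_fromSpec f hU hUV
    exact congr(($h) t)
  have key : ∀ t : PrimeSpectrum Γ(X, U), FI f F (hU.fromSpec t) =
      dd (Localization.AtPrime t.asIdeal) (EGA4.FibLocMod Γ(Y, V) Γ(X, U) t.asIdeal Γ(F, U)) := fun t => by
    have hz : hU.fromSpec t ∈ U := (Set.ext_iff.1 hU.range_fromSpec _).1 (Set.mem_range_self t)
    letI := QCoh.stalkModule F hz
    haveI := QCoh.isLocalizedModule_germLin hM hU hz
    have h := dd_chart_eq f hU hV hUV hz (fun _ _ => rfl) (QCoh.germLin F hz)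
    have he : hU.primeIdealOf ⟨hU.fromSpec t, hz⟩ = t :=
      hU.fromSpec.isOpenEmbedding.injective (hU.fromSpec_primeIdealOf ⟨_, hz⟩)
    rw [he] at h
    exact h
  have hiff : ∀ q, AllGenX f F Q (hU.fromSpec q) ↔ AllGen Γ(Y, V) Γ(F, U) Q q := fun q => by
    refine ⟨fun h t ht he => ?_, fun h z hz hfz => ?_⟩
    · have hs : hU.fromSpec t ⤳ hU.fromSpec q :=
        ((PrimeSpectrum.le_iff_specializes _ _).1 ht).map hU.fromSpec.continuous
      have := h _ hs (by rw [← hmap, ← hmap, he])
      rwa [key, ← coheight_eq_rd f hU hV hUV t] at this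
    · have hqU : hU.fromSpec q ∈ U := (Set.ext_iff.1 hU.range_fromSpec _).1 (Set.mem_range_self q)
      obtain ⟨t, rfl⟩ : z ∈ Set.range hU.fromSpec := hU.range_fromSpec ▸ hz.mem_open U.isOpen hqU
      rw [key, ← coheight_eq_rd f hU hV hUV t]
      refine h t ((PrimeSpectrum.le_iff_specializes _ _).2
        (hU.fromSpec.isOpenEmbedding.isInducing.specializes_iff.1 hz)) (hV.fromSpec.isOpenEmbedding.injective ?_)
      rw [hmap, hmap, hfz]
  refine ⟨hU.fromSpec '' {q | AllGen Γ(Y, V) Γ(F, U) Q q}, ?_,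
    hU.fromSpec.isOpenEmbedding.isOpenMap _ (isOpen_allGen_affine Γ(F, U) Q hQ0 hQ), ?_⟩
  · rintro _ ⟨q, hq, rfl⟩
    exact (hiff q).2 hq
  · obtain ⟨q, rfl⟩ : x ∈ Set.range hU.fromSpec := hU.range_fromSpec ▸ hxU
    exact ⟨q, (hiff q).1 hx, rfl⟩

theorem isOpen_skX [LocallyOfFinitePresentation f] (hF : CohB1.IsFP F) (hflat : FlatMod.IsFlatOver f F) (k : ℕ) :
    IsOpen {x : X | AllGenX f F (skQ k) x} :=
  isOpen_allGenX f F hF hflat _ (skQ_empty k) fun _ _ _ M => isOpen_allGen_skQ M k

theorem isOpen_assX [LocallyOfFinitePresentation f] (hF : CohB1.IsFP F) (hflat : FlatMod.IsFlatOver f F)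
    (Φ : ℕ∞ → Prop) : IsOpen {x : X | AllGenX f F (assQ Φ) x} :=
  isOpen_allGenX f F hF hflat _ (assQ_empty Φ) fun _ _ _ M => isOpen_allGen_assQ M Φ

end Scheme

end Groth.Agent.Ega43Prop
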