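import Groth.Agent.Ega43Prop.NhdProper
import Groth.Agent.H23.RedSub

/-!
# Valuation rings at the maximal points, and rational points
-/

set_option autoImplicit false
set_option linter.style.haveILetI false
set_option backward.isDefEq.respectTransparency false
set_option backward.isDefEq.respectTransparency.types false
universe u

open CategoryTheory CategoryTheory.Limits AlgebraicGeometry IsLocalRing TopologicalSpace
open Groth.Agent.MorLib.DenseValuative

namespace Groth.Agent.Ega43Prop

variable {X Y : Scheme.{u}}

/-- Lifts of discrete valuation rings at a generization of each point give properness near `y`. -/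
theorem exists_nhd_isProper_of_dvrLiftsAtPt [IsLocallyNoetherian Y] {f : X ⟶ Y}
    [LocallyOfFiniteType f] [QuasiCompact f] [IsSeparated f] {y : Y}
    (H : ∀ x : X, ∃ u, u ⤳ x ∧ DVRLiftsAtPt f u y) :
    ∃ U : Y.Opens, y ∈ U ∧ IsProper (f ∣_ U) :=
  (liftsAt_of_generizations fun x => by
    obtain ⟨u, hu, h⟩ := H x
    exact ⟨u, hu, h.liftsAtPt⟩).exists_nhd_isProper

/-- A morphism from the spectrum of a field, a preimmersion, has surjective residue map. -/
theorem surjective_desc_of_isPreimmersion {K : Type u} [Field K] (i : Spec (.of K) ⟶ Y)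
    [IsPreimmersion i] :
    Function.Surjective (Scheme.descResidueField (Scheme.stalkClosedPointTo i)).hom := by
  have h1 : Function.Surjective (Scheme.stalkClosedPointTo i).hom :=
    ((stalkClosedPointIso (CommRingCat.of K)).commRingCatIsoToRingEquiv.surjective).comp
      (i.stalkMap_surjective _)
  intro k
  obtain ⟨a, ha⟩ := h1 k
  exact ⟨Y.residue _ a, ha⟩

/-- A point of a scheme over `Y` under a preimmersed field point is rational. -/
theorem residueFieldMap_bijective_of_isPreimmersion {K : Type u} [Field K] (σ : Spec (.of K) ⟶ X)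
    (p : X ⟶ Y) [IsPreimmersion (σ ≫ p)] :
    Function.Bijective (p.residueFieldMap (σ (closedPoint K))).hom := by
  have h := surjective_desc_of_isPreimmersion (σ ≫ p)
  rw [Scheme.descResidueField_stalkClosedPointTo_comp] at h
  have hι := (Scheme.descResidueField (Scheme.stalkClosedPointTo σ)).hom.injective
  refine ⟨(p.residueFieldMap _).hom.injective, fun a => ?_⟩
  obtain ⟨b, hb⟩ := h ((Scheme.descResidueField (Scheme.stalkClosedPointTo σ)).hom a)
  exact ⟨b, hι hb⟩

/-- Two field points over `Y` at the same rational point are equal. -/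
theorem hom_ext_of_residueFieldMap_surjective {K : Type u} [Field K] (σ₁ σ₂ : Spec (.of K) ⟶ X)
    (p : X ⟶ Y) {x : X} (h₁ : σ₁ (closedPoint K) = x) (h₂ : σ₂ (closedPoint K) = x)
    (hp : σ₁ ≫ p = σ₂ ≫ p) (hx : Function.Surjective (p.residueFieldMap x).hom) : σ₁ = σ₂ := by
  have key : ∀ (σ : Spec (.of K) ⟶ X), σ (closedPoint K) = x →
      ∃ a : X.residueField x ⟶ .of K, Spec.map a ≫ X.fromSpecResidueField x = σ := by
    rintro σ rfl
    exact ⟨_, Scheme.descResidueField_stalkClosedPointTo_fromSpecResidueField K X σ⟩
  obtain ⟨a, rfl⟩ := key σ₁ h₁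
  obtain ⟨b, rfl⟩ := key σ₂ h₂
  rw [Category.assoc, Category.assoc, ← Scheme.Hom.SpecMap_residueFieldMap_fromSpecResidueField,
    ← Spec.map_comp_assoc, ← Spec.map_comp_assoc, cancel_mono] at hp
  have h := Spec.map_injective hp
  have e : a = b := CommRingCat.hom_ext (RingHom.ext fun r => by
    obtain ⟨r, rfl⟩ := hx r
    exact congrArg (fun k => k.hom r) h)
  rw [e]

end Groth.Agent.Ega43Prop
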