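import Groth.Agent.Ega43Prop.GeomRkOpen
import Groth.Agent.FlatLoc6.SerreNormal

/-!
# Geometric normality in the fibres
-/

set_option autoImplicit false
set_option linter.style.haveILetI false
set_option backward.isDefEq.respectTransparency false
set_option backward.isDefEq.respectTransparency.types false

universe u

open CategoryTheory CategoryTheory.Limits AlgebraicGeometry IsLocalRing

namespace Groth.Agent.Ega43Prop

/-- A normal Noetherian local ring satisfies `(R_1)` and `(S_2)`. -/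
theorem R1_S2_of_normal_local (R : Type u) [CommRing R] [IsNoetherianRing R] [IsDomain R] [IsIntegrallyClosed R] :
    LocCoh.HasRk 1 R ∧ LocCoh.HasSk 2 R R :=
  FlatLoc6.R1_S2_of_normal fun p _ =>
    ⟨IsLocalization.isDomain_localization p.primeCompl_le_nonZeroDivisors,
      isIntegrallyClosed_of_isLocalization _ p.primeCompl p.primeCompl_le_nonZeroDivisors⟩

section Field

variable {κ : Type u} [Field κ] {W : Scheme.{u}} (π : W ⟶ Spec (CommRingCat.of κ)) [LocallyOfFiniteType π]

theorem fibIdeal_field {Z : Scheme.{u}} {K : Type u} [Field K] (g : Z ⟶ Spec (CommRingCat.of K)) (z : Z) :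
    Codepth5.fibIdeal g z = ⊥ := by
  have hF : IsField ((Spec (CommRingCat.of K)).presheaf.stalk (g z)) := by
    let q : PrimeSpectrum K := g z
    refine MulEquiv.isField (IsField.localization_map_bijective (R := K) (M := q.asIdeal.primeCompl)
      (Rₘ := Localization.AtPrime q.asIdeal) (fun h => h (zero_mem _)) (Field.toIsField K) |>.2 |> fun hs => ?_)
      (Spec.stalkIso (CommRingCat.of K) q).commRingCatIsoToRingEquiv.toMulEquiv
    exact MulEquiv.isField (Field.toIsField K) (MulEquiv.ofBijective (algebraMap K (Localization.AtPrime q.asIdeal))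
      (IsField.localization_map_bijective (M := q.asIdeal.primeCompl) (fun h => h (zero_mem _)) (Field.toIsField K))).symm
  rw [Codepth5.fibIdeal, IsLocalRing.isField_iff_maximalIdeal_eq.1 hF, Ideal.map_bot]

theorem hasSk_bc_iff (k : ℕ) (K : Type u) [Field K] [Algebra κ K] (x' : ↥(FBase.bc π K)) :
    LocCoh.HasSk k ((FBase.bc π K).presheaf.stalk x') ((FBase.bc π K).presheaf.stalk x') ↔
      LocCoh.HasSk k (W.presheaf.stalk ((FBase.bcπ π K).base x')) (W.presheaf.stalk ((FBase.bcπ π K).base x')) := by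
  haveI : IsLocallyNoetherian (Spec (CommRingCat.of κ)) := inferInstance
  haveI : IsLocallyNoetherian W := LocallyOfFiniteType.isLocallyNoetherian π
  haveI : LocallyOfFiniteType (FBase.bcStr π K) :=
    MorphismProperty.of_isPullback (IsPullback.of_hasPullback π _) ‹_›
  haveI : IsLocallyNoetherian (FBase.bc π K) := LocallyOfFiniteType.isLocallyNoetherian (FBase.bcStr π K)
  have h := (Codepth5.stable_skR k).fibre_iff (f := π) (f' := FBase.bcStr π K) (g' := FBase.bcπ π K)
    (IsPullback.of_hasPullback _ _) x'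
  have e₁ := (Ideal.quotEquivOfEq (fibIdeal_field (FBase.bcStr π K) x')).trans
    (RingEquiv.quotientBot ((FBase.bc π K).presheaf.stalk x'))
  have e₂ := (Ideal.quotEquivOfEq (fibIdeal_field π ((FBase.bcπ π K).base x'))).trans
    (RingEquiv.quotientBot (W.presheaf.stalk ((FBase.bcπ π K).base x')))
  have h' := ((Codepth5.stable_skR k).congr e₁).symm.trans (h.trans ((Codepth5.stable_skR k).congr e₂))
  exact ⟨fun hh => (h'.1 ⟨inferInstance, hh⟩).2, fun hh => (h'.2 ⟨inferInstance, hh⟩).2⟩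

variable [LocallyOfFinitePresentation π]

theorem normal_bc_of {w : W} (h : RkSm π 1 w) (hS : LocCoh.HasSk 2 (W.presheaf.stalk w) (W.presheaf.stalk w))
    (K : Type u) [Field K] [Algebra κ K] (x' : ↥(FBase.bc π K)) (hx : (FBase.bcπ π K).base x' = w) :
    IsDomain ((FBase.bc π K).presheaf.stalk x') ∧ IsIntegrallyClosed ((FBase.bc π K).presheaf.stalk x') := by
  haveI : LocallyOfFiniteType (FBase.bcStr π K) :=
    MorphismProperty.of_isPullback (IsPullback.of_hasPullback π _) ‹_›
  haveI : IsLocallyNoetherian (FBase.bc π K) := LocallyOfFiniteType.isLocallyNoetherian (FBase.bcStr π K)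
  refine FlatLoc6.normal_of_R1_S2 (hasRk_bc_of_rkSm π h K x' hx) ?_
  rw [hasSk_bc_iff, hx]
  exact hS

theorem normal_conds_of_forall_finite {w : W}
    (h : ∀ (K : Type u) [Field K] [Algebra κ K], Module.Finite κ K → ∀ x' : ↥(FBase.bc π K),
      (FBase.bcπ π K).base x' = w →
        IsDomain ((FBase.bc π K).presheaf.stalk x') ∧ IsIntegrallyClosed ((FBase.bc π K).presheaf.stalk x')) :
    RkSm π 1 w ∧ LocCoh.HasSk 2 (W.presheaf.stalk w) (W.presheaf.stalk w) := by
  refine ⟨rkSm_of_forall_finite π fun K _ _ hK x' hx => ?_, ?_⟩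
  · haveI : LocallyOfFiniteType (FBase.bcStr π K) :=
      MorphismProperty.of_isPullback (IsPullback.of_hasPullback π _) ‹_›
    haveI : IsLocallyNoetherian (FBase.bc π K) := LocallyOfFiniteType.isLocallyNoetherian (FBase.bcStr π K)
    obtain ⟨_, _⟩ := h K hK x' hx
    exact (R1_S2_of_normal_local _).1
  · obtain ⟨x', hx, -⟩ := Scheme.Pullback.exists_preimage_pullback (f := π)
      (g := Spec.map (CommRingCat.ofHom (algebraMap κ κ))) w (π w) (by
        rw [show CommRingCat.ofHom (algebraMap κ κ) = 𝟙 (CommRingCat.of κ) from rfl, Spec.map_id]; rfl)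
    haveI : LocallyOfFiniteType (FBase.bcStr π κ) :=
      MorphismProperty.of_isPullback (IsPullback.of_hasPullback π _) ‹_›
    haveI : IsLocallyNoetherian (FBase.bc π κ) := LocallyOfFiniteType.isLocallyNoetherian (FBase.bcStr π κ)
    obtain ⟨_, _⟩ := h κ inferInstance x' hx
    rw [← (show (FBase.bcπ π κ).base x' = w from hx), ← hasSk_bc_iff]
    exact (R1_S2_of_normal_local _).2

end Field

variable {X Y : Scheme.{u}} (f : X ⟶ Y) [LocallyOfFinitePresentation f]

/-- Geometric normality of the fibre at a point of flatness. -/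
theorem geomNormal_iff (x : X) (hx : (f.stalkMap x).hom.Flat) :
    (∀ (K : Type u) [Field K] [Algebra (IsLocalRing.ResidueField (Y.presheaf.stalk (f.base x))) K],
        Module.Finite (IsLocalRing.ResidueField (Y.presheaf.stalk (f.base x))) K →
        ∀ x' : ↥(FBase.bc (f.fiberToSpecResidueField (f.base x)) K),
          (FBase.bcπ (f.fiberToSpecResidueField (f.base x)) K).base x' = f.asFiber x →
          IsDomain ((FBase.bc (f.fiberToSpecResidueField (f.base x)) K).presheaf.stalk x') ∧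
            IsIntegrallyClosed ((FBase.bc (f.fiberToSpecResidueField (f.base x)) K).presheaf.stalk x')) ↔
      RkF f 1 x ∧ Codepth5.FibP (Codepth5.SkR 2) f x := by
  haveI := lfp_fibre f (f x)
  rw [← rkSm_fibre_iff f 1 x hx, Codepth5.fibP_skR]
  exact ⟨fun h => normal_conds_of_forall_finite _ h,
    fun h K _ _ _ x' hx' => normal_bc_of _ h.1 h.2 K x' hx'⟩

/-- Normal fibres are equidimensional without embedded cycle. -/
theorem equidim_noEmbedded_of_isDomain (R : Type u) [CommRing R] [IsNoetherianRing R] [IsDomain R] :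
    EGA4.IsEquidim R ∧ ∀ p ∈ associatedPrimes R R, p ∈ minimalPrimes R := by
  refine ⟨fun p hp => ?_, fun p hp => ?_⟩
  · rw [show p = ⊥ from Set.mem_singleton_iff.1 (IsDomain.minimalPrimes_eq_singleton_bot (R := R) ▸ hp)]
    exact ringKrullDim_eq_of_ringEquiv (RingEquiv.quotientBot R)
  · obtain ⟨hp, z, hz⟩ := isAssociatedPrime_iff.1 hp
    rw [IsDomain.minimalPrimes_eq_singleton_bot, Set.mem_singleton_iff, hz]
    ext r
    rw [Submodule.mem_colon_singleton, Submodule.mem_bot, Ideal.mem_bot, smul_eq_mul]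
    refine ⟨fun h => (mul_eq_zero.1 h).resolve_right fun h0 => hp.ne_top ?_, fun h => by rw [h, zero_mul]⟩
    rw [hz, h0]
    exact eq_top_iff.2 fun a _ => Submodule.mem_colon_singleton.2 (by simp)

theorem isOpen_flat_geomNormal :
    IsOpen {x : X | (f.stalkMap x).hom.Flat ∧ RkF f 1 x ∧ Codepth5.FibP (Codepth5.SkR 2) f x} := by
  rw [isOpen_iff_forall_mem_open]
  intro x hx
  let U : X.Opens := ⟨{z | (f.stalkMap z).hom.Flat}, FlatLocus.isOpen_flat_locus f⟩
  let g : (U : Scheme.{u}) ⟶ Y := U.ι ≫ f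
  haveI : Flat g := by
    refine Flat.of_stalkMap g fun u => ?_
    rw [show g = U.ι ≫ f from rfl, Scheme.Hom.stalkMap_comp]
    exact RingHom.Flat.comp (show (f.stalkMap (U.ι u)).hom.Flat from u.2)
      (RingHom.Flat.of_bijective (ConcreteCategory.bijective_of_isIso (U.ι.stalkMap u)))
  have hdim : ∀ u : (U : Scheme.{u}), fdim g u = fdim f (U.ι u) := fun u => by
    have hbij : Function.Bijective (U.ι.stalkMap u).hom := ConcreteCategory.bijective_of_isIso (U.ι.stalkMap u)
    refine (ringKrullDim_eq_of_ringEquiv (Ideal.quotientEquiv _ _ (RingEquiv.ofBijective _ hbij) ?_)).symm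
    show Codepth5.fibIdeal (U.ι ≫ f) u = Ideal.map (U.ι.stalkMap u).hom (Codepth5.fibIdeal f (U.ι u))
    rw [Codepth5.fibIdeal, Codepth5.fibIdeal, Scheme.Hom.stalkMap_comp, CommRingCat.hom_comp, ← Ideal.map_map]
    rfl
  have hrk : ∀ u : (U : Scheme.{u}), RkF g 1 u ↔ RkF f 1 (U.ι u) := fun u => by
    refine ⟨fun h z hz hfz hd => ?_, fun h z hz hfz hd => ?_⟩
    · obtain ⟨z, rfl⟩ : z ∈ Set.range U.ι := by
        rw [Scheme.Opens.range_ι]; exact hz.mem_open U.isOpen u.2
      exact (MorLib.SmoothLoc.sm_comp_left U.ι f z).1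
        (h z (U.ι.isEmbedding.isInducing.specializes_iff.1 hz) hfz ((hdim z).trans_le hd))
    · exact (MorLib.SmoothLoc.sm_comp_left U.ι f z).2
        (h _ (hz.map U.ι.continuous) hfz ((hdim z).symm.trans_le hd))
  have hsk : ∀ u : (U : Scheme.{u}), Codepth5.FibP (Codepth5.SkR 2) g u ↔ Codepth5.FibP (Codepth5.SkR 2) f (U.ι u) :=
    fun u => (Codepth5.good_skR 2).source U.ι f inferInstance u
  let u₀ : (U : Scheme.{u}) := ⟨x, hx.1⟩
  have hu₀ : U.ι u₀ = x := rfl
  let S : Set (U : Scheme.{u}) := {u | RkF g 1 u ∧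
      (∃ n : ℕ, AllGenX g (Coh.structureModule _) (assQ (fun c => c = n)) u) ∧
        AllGenX g (Coh.structureModule _) (skQ 1) u} ∩
    {u | (g.stalkMap u).hom.Flat ∧ Codepth5.FibP (Codepth5.SkR 2) g u}
  refine ⟨U.ι '' S, ?_, U.ι.isOpenEmbedding.isOpenMap _
    ((isOpen_rk_equidim g 1).inter ((Codepth5.good_skR 2).isOpen g inferInstance)), u₀, ⟨?_, Flat.stalkMap g u₀, ?_⟩, hu₀⟩
  · rintro _ ⟨u, ⟨hu1, -, hu2⟩, rfl⟩
    exact ⟨u.2, (hrk u).1 hu1.1, (hsk u).1 hu2⟩
  · have hnorm := (geomNormal_iff g u₀ (Flat.stalkMap g u₀)).2 ⟨(hrk u₀).2 hx.2.1, (hsk u₀).2 hx.2.2⟩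
    haveI := lfp_fibre g (g u₀)
    let κ := Y.residueField (g u₀)
    haveI : LocallyOfFiniteType (g.fiberToSpecResidueField (g u₀)) := inferInstance
    haveI := fibre_isLocallyNoetherian g (g u₀)
    have hd : IsDomain ((g.fiber (g u₀)).presheaf.stalk (g.asFiber u₀)) :=
      (FlatLoc6.normal_of_R1_S2 ((hasRk_stalk_iff _ _).2 fun v hv hdv =>
          SmoothReg.isRegularLocalRing_stalk_of_mem_smoothLocus _
            ((rkSm_fibre_iff g 1 u₀ (Flat.stalkMap g u₀)).2 ((hrk u₀).2 hx.2.1) v hv hdv))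
        ((Codepth5.fibP_skR 2 g u₀).1 ((hsk u₀).2 hx.2.2))).1
    haveI := hd
    exact ((geomRk_equidim_iff g 1 u₀ (Flat.stalkMap g u₀)).1
      ⟨(geomRk_iff g 1 u₀ (Flat.stalkMap g u₀)).2 ((hrk u₀).2 hx.2.1),
        equidim_noEmbedded_of_isDomain _⟩)
  · exact (hsk u₀).2 hx.2.2

end Groth.Agent.Ega43Prop
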