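import Groth.Agent.Ega43Prop.StalkInv
import Groth.Agent.SmoothReg.GeomRegularAt
import Groth.Agent.SmoothReg.Scheme
import Groth.Agent.MorLib.SmoothLocus
import Groth.Agent.S1562
import Groth.Prelude.Def_FDesc
import Mathlib.AlgebraicGeometry.Morphisms.Finite
import Mathlib.AlgebraicGeometry.Properties

/-!
# The geometric condition `(R_k)` over a field, pointwise
-/

set_option autoImplicit false
set_option linter.style.haveILetI false
set_option backward.isDefEq.respectTransparency false
set_option backward.isDefEq.respectTransparency.types false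

universe u

open CategoryTheory CategoryTheory.Limits AlgebraicGeometry IsLocalRing

attribute [local instance] specializationOrder

namespace Groth.Agent.Ega43Prop

theorem coh_hom_isFlat_generalize {X Y : Scheme.{u}} (f : X ⟶ Y) [Flat f] {a : X} {b : Y} (h : f a < b) :
    ∃ a', a < a' ∧ f a' = b := by
  obtain ⟨a', ha', he⟩ := Flat.generalizingMap f (show b ⤳ f a from h.le)
  exact ⟨a', lt_of_le_of_ne (ha' : a' ⤳ a) fun e => h.ne (e ▸ he), he⟩

theorem coheight_map_le_of_flat {X Y : Scheme.{u}} (f : X ⟶ Y) [Flat f] (a : X) :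
    Order.coheight (f a) ≤ Order.coheight a := by
  refine Order.coheight_le_iff'.mpr fun p hp => ?_
  induction p using RelSeries.inductionOn generalizing a with
  | singleton x => simp
  | cons p x hx ih =>
    simp only [RelSeries.head_cons] at hp
    obtain ⟨a', ha', he⟩ := coh_hom_isFlat_generalize f (show f a < p.head by rw [← hp]; exact hx)
    have h1 := ih a' he.symm
    have h2 := Order.coheight_add_one_le ha'
    simp only [RelSeries.cons_length, Nat.cast_add, Nat.cast_one]
    exact le_trans (add_le_add h1 le_rfl) h2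

theorem strictMono_of_quasiFinite {X Y : Scheme.{u}} (f : X ⟶ Y) [LocallyQuasiFinite f] :
    StrictMono (f : X → Y) := by
  intro a b hab
  have hs : b ⤳ a := hab.le
  refine lt_of_le_of_ne (hs.map f.continuous : f b ⤳ f a) fun he => hab.ne ?_
  have := (f.isDiscrete_preimage_singleton (f a)).to_subtype
  have h1 : (⟨b, he.symm⟩ : ↥(f ⁻¹' {f a})) ⤳ ⟨a, rfl⟩ := (subtype_specializes_iff _ _).2 hs
  exact congrArg Subtype.val h1.eq.symm

/-- `(R_k)` for a stalk, pointwise on the scheme. -/
theorem hasRk_stalk_iff {Z : Scheme.{u}} (w : Z) (k : ℕ) :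
    LocCoh.HasRk k (Z.presheaf.stalk w) ↔
      ∀ v : Z, v ⤳ w → ringKrullDim (Z.presheaf.stalk v) ≤ k → IsRegularLocalRing (Z.presheaf.stalk v) := by
  obtain ⟨W, hW, hw, -⟩ := exists_isAffineOpen_mem_and_subset (x := w) (U := (⊤ : Z.Opens)) trivial
  letI := QCoh.stalkAlg (X := Z) hw
  haveI := QCoh.isLocalization_stalk' hW hw
  have key : ∀ (p : PrimeSpectrum (Z.presheaf.stalk w)) (v : Z) (hv : v ∈ W),
      (hW.primeIdealOf ⟨v, hv⟩).asIdeal = p.asIdeal.comap (Z.presheaf.germ W w hw).hom →
      ∃ _ : Localization.AtPrime p.asIdeal ≃+* Z.presheaf.stalk v, True := by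
    intro p v hv he
    letI := QCoh.stalkAlg (X := Z) hv
    haveI hlv := QCoh.isLocalization_stalk' hW hv
    suffices ∀ (t : Ideal Γ(Z, W)) [t.IsPrime], t = p.asIdeal.comap (algebraMap Γ(Z, W) (Z.presheaf.stalk w)) →
        IsLocalization.AtPrime (Z.presheaf.stalk v) t →
        ∃ _ : Localization.AtPrime p.asIdeal ≃+* Z.presheaf.stalk v, True from this _ he hlv
    intro t _ ht h1
    subst ht
    haveI := h1
    haveI := IsLocalization.isLocalization_isLocalization_atPrime_isLocalization
      (hW.primeIdealOf ⟨w, hw⟩).asIdeal.primeCompl (Localization.AtPrime p.asIdeal) p.asIdeal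
    exact ⟨(IsLocalization.algEquiv
      (p.asIdeal.comap (algebraMap Γ(Z, W) (Z.presheaf.stalk w))).primeCompl
      (Localization.AtPrime p.asIdeal) (Z.presheaf.stalk v)).toRingEquiv, trivial⟩
  constructor
  · intro h v hvw hdim
    obtain ⟨p, hp⟩ := exists_prime_of_point hW hw hvw
    obtain ⟨e, -⟩ := key p v (hvw.mem_open W.isOpen hw) hp.symm
    haveI := h p.asIdeal (by
      rw [← ringKrullDim_eq_of_ringEquiv e, IsLocalization.AtPrime.ringKrullDim_eq_height p.asIdeal] at hdim
      exact_mod_cast hdim)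
    exact IsRegularLocalRing.of_ringEquiv e
  · intro h p _ hp
    obtain ⟨v, hv, he⟩ := QCoh.exists_point hW (PrimeSpectrum.comap (Z.presheaf.germ W w hw).hom ⟨p, inferInstance⟩)
    have he' : (hW.primeIdealOf ⟨v, hv⟩).asIdeal = p.comap (Z.presheaf.germ W w hw).hom := by rw [he]; rfl
    obtain ⟨e, -⟩ := key ⟨p, inferInstance⟩ v hv he'
    have hvw : v ⤳ w := (AssLib.primeIdealOf_le_iff hW hw hv).1 (by
      rw [he']
      exact le_of_le_of_eq (Ideal.comap_mono (le_maximalIdeal (Ideal.IsPrime.ne_top'))) (AssLib.comap_maximalIdeal_stalk hW hw))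
    haveI := h v hvw (by
      rw [← ringKrullDim_eq_of_ringEquiv e, IsLocalization.AtPrime.ringKrullDim_eq_height p]
      exact_mod_cast hp)
    exact IsRegularLocalRing.of_ringEquiv e.symm

section Field

variable {κ : Type u} [Field κ] {W : Scheme.{u}} (π : W ⟶ Spec (CommRingCat.of κ))

/-- All generizations of `w` of codimension at most `k` lie in the smooth locus. -/
def RkSm [LocallyOfFinitePresentation π] (k : ℕ) (w : W) : Prop :=
  ∀ z : W, z ⤳ w → ringKrullDim (W.presheaf.stalk z) ≤ k → z ∈ π.smoothLocus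

theorem hasRk_bc_of_rkSm [LocallyOfFinitePresentation π] {k : ℕ} {w : W} (h : RkSm π k w)
    (K : Type u) [Field K] [Algebra κ K] (x' : ↥(FBase.bc π K)) (hx : (FBase.bcπ π K).base x' = w) :
    LocCoh.HasRk k ((FBase.bc π K).presheaf.stalk x') := by
  rw [hasRk_stalk_iff]
  intro v hv hdim
  haveI : Flat (Spec.map (CommRingCat.ofHom (algebraMap κ K))) := Groth.Agent.GrpSchLib.flat_spec_map_field _
  haveI : Flat (FBase.bcπ π K) :=
    MorphismProperty.of_isPullback (IsPullback.of_hasPullback _ _).flip ‹_›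
  haveI : LocallyOfFinitePresentation (FBase.bcStr π K) :=
    MorphismProperty.of_isPullback (IsPullback.of_hasPullback π _) ‹_›
  have hz : (FBase.bcπ π K).base v ⤳ w := hx ▸ hv.map (FBase.bcπ π K).continuous
  have hzd : ringKrullDim (W.presheaf.stalk ((FBase.bcπ π K).base v)) ≤ k := by
    refine le_trans ?_ hdim
    rw [ringKrullDim_stalk_eq_coheight, ringKrullDim_stalk_eq_coheight]
    exact WithBot.coe_le_coe.2 (coheight_map_le_of_flat _ v)
  refine SmoothReg.isRegularLocalRing_stalk_of_mem_smoothLocus (FBase.bcStr π K) ?_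
  exact MorLib.SmoothLoc.preimage_le π _ _ _ (IsPullback.of_hasPullback _ _) (h _ hz hzd)

theorem rkSm_of_forall_finite [LocallyOfFinitePresentation π] {k : ℕ} {w : W}
    (h : ∀ (K : Type u) [Field K] [Algebra κ K], Module.Finite κ K → ∀ x' : ↥(FBase.bc π K),
      (FBase.bcπ π K).base x' = w → LocCoh.HasRk k ((FBase.bc π K).presheaf.stalk x')) :
    RkSm π k w := by
  intro z hz hdim
  letI : W.Over (Spec (CommRingCat.of κ)) := ⟨π⟩
  haveI : LocallyOfFinitePresentation (W ↘ Spec (CommRingCat.of κ)) := ‹LocallyOfFinitePresentation π›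
  haveI : IsLocallyNoetherian (Spec (CommRingCat.of κ)) := inferInstance
  haveI : IsLocallyNoetherian W := LocallyOfFiniteType.isLocallyNoetherian π
  refine (Groth.Agent.S1562.result κ W z).1 (SmoothReg.isGeomRegularAt_of_purelyInseparable z
    fun K _ _ _ _ z' hz' => ?_)
  let q : FBase.bc π K ⟶ W := FBase.bcπ π K
  haveI : IsFinite (Spec.map (CommRingCat.ofHom (algebraMap κ K))) :=
    (IsFinite.SpecMap_iff _).2 (RingHom.finite_algebraMap.2 inferInstance)
  haveI : IsFinite q := MorphismProperty.of_isPullback (IsPullback.of_hasPullback _ _).flip ‹_›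
  have hcl : q z' ⤳ w := by
    show (Curv2.bcFst κ W K).base z' ⤳ w
    rw [show (Curv2.bcFst κ W K).base z' = z from hz']
    exact hz
  obtain ⟨x', hx', hxw⟩ : ∃ x', z' ⤳ x' ∧ q x' = w := by
    have := (q.isClosedMap _ (isClosed_closure (s := {z'}))).closure_subset_iff.2
      (Set.singleton_subset_iff.2 ⟨z', subset_closure rfl, rfl⟩) (specializes_iff_mem_closure.1 hcl)
    obtain ⟨x', hx', hxw⟩ := this
    exact ⟨x', specializes_iff_mem_closure.2 hx', hxw⟩
  refine (hasRk_stalk_iff x' k).1 (h K inferInstance x' hxw) z' hx' ?_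
  refine le_trans ?_ hdim
  rw [ringKrullDim_stalk_eq_coheight, ringKrullDim_stalk_eq_coheight]
  refine WithBot.coe_le_coe.2 ((Order.coheight_le_coheight_apply_of_strictMono _ (strictMono_of_quasiFinite q) z').trans ?_)
  exact le_of_eq (congrArg Order.coheight hz')

end Field

end Groth.Agent.Ega43Prop
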