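import Groth.Agent.Ega43Prop.GeomRkOpen
import Groth.Agent.FibreLoc5.Smooth
import Groth.Agent.FibDim.Minimal
import Groth.Agent.FibDim.FlatBC

/-!
# Constructibility of the geometric condition `(R_k)` in the fibres (EGA IV 9.9.4)
-/

set_option autoImplicit false
set_option linter.style.haveILetI false
set_option backward.isDefEq.respectTransparency false
set_option backward.isDefEq.respectTransparency.types false

universe u

open CategoryTheory CategoryTheory.Limits AlgebraicGeometry Topology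

namespace Groth.Agent.Ega43Prop

open FibreLoc5 (SmFib good_SmFib)
open FibDim (rd)

/-- Non-smooth points of the fibre generizing `x` have codimension more than `k` in the fibre. -/
def RkN ⦃X Y : Scheme.{u}⦄ (f : X ⟶ Y) (k : ℕ) (x : X) : Prop :=
  ∀ z : X, z ⤳ x → f z = f x → ¬ SmFib f z → ∃ η, η ⤳ z ∧ f η = f z ∧ rd f z + (k + 1) ≤ rd f η

variable {X Y X' Y' : Scheme.{u}} {p : X' ⟶ X} {q : X' ⟶ Y'} {f : X ⟶ Y} {g : Y' ⟶ Y}

/-- Generizations in a fibre lift to generizations of the same relative degree. -/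
theorem exists_lift_eq_rd [LocallyOfFiniteType f] [LocallyOfFiniteType q] (h : IsPullback p q f g)
    {w : X'} {z : X} (hz : z ⤳ p w) (hfz : f z = f (p w)) :
    ∃ u, u ⤳ w ∧ q u = q w ∧ p u = z ∧ rd q u = rd f z := by
  classical
  let S : Set X' := {u | u ⤳ w ∧ q u = q w ∧ p u = z}
  obtain ⟨u₀, hu₀⟩ : S.Nonempty := by
    have h' : IsPullback (q.fiberι (q w) ≫ p) (q.fiberToSpecResidueField (q w)) f
        (Y'.fromSpecResidueField (q w) ≫ g) :=
      (IsPullback.of_hasPullback q (Y'.fromSpecResidueField (q w))).paste_horiz h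
    obtain ⟨u, hu, hpu⟩ := FibDim.exists_generization_lift h'.flip (x' := q.asFiber w) (b := z)
      (by show z ⤳ p (q.fiberι (q w) (q.asFiber w)); rw [Scheme.Hom.fiberι_asFiber]; exact hz)
      (by show f z = f (p (q.fiberι (q w) (q.asFiber w))); rw [Scheme.Hom.fiberι_asFiber]; exact hfz)
    refine ⟨q.fiberι (q w) u, ?_, FibDim.fiber_apply_fiberι q u, hpu⟩
    have := hu.map (q.fiberι (q w)).continuous
    rwa [Scheme.Hom.fiberι_asFiber] at this
  have hbd : BddAbove (rd q '' S) := ⟨rd f z, by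
    rintro _ ⟨u, hu, rfl⟩
    exact (FibDim.rd_baseChange_le h u).trans_eq (congrArg _ hu.2.2)⟩
  obtain ⟨u, hu, hmax⟩ := Nat.sSup_mem (Set.Nonempty.image (rd q) ⟨u₀, hu₀⟩) hbd
  refine ⟨u, hu.1, hu.2.1, hu.2.2, ?_⟩
  rw [← hu.2.2]
  refine FibDim.rd_baseChange_eq_of_minimal h u fun v hv hpv hqv => ?_
  by_contra hne
  have hlt := FibDim.rd_lt q hv hne hqv
  have := le_csSup hbd ⟨v, ⟨hv.trans hu.1, hqv.trans hu.2.1, hpv.trans hu.2.2⟩, rfl⟩
  omega

theorem rkN_baseChange [LocallyOfFiniteType f] (h : IsPullback p q f g) (k : ℕ) (w : X') :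
    RkN q k w ↔ RkN f k (p w) := by
  haveI : LocallyOfFiniteType q := MorphismProperty.of_isPullback (P := @LocallyOfFiniteType) h ‹_›
  have hw : ∀ v, f (p v) = g (q v) := fun v => by
    show (p ≫ f) v = (q ≫ g) v
    rw [h.w]
  constructor
  · intro hq z hz hfz hns
    obtain ⟨u, huw, hqu, rfl, hrd⟩ := exists_lift_eq_rd h hz hfz
    obtain ⟨η, hη, hqη, hle⟩ := hq u huw hqu fun hs => hns ((good_SmFib.baseChange f p q g h ‹_› u).1 hs)
    refine ⟨p η, hη.map p.continuous, by rw [hw, hw, hqη], ?_⟩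
    have := FibDim.rd_baseChange_le h η
    omega
  · intro hf v hv hqv hns
    obtain ⟨η, hη, hfη, hle⟩ := hf (p v) (hv.map p.continuous) (by rw [hw, hw, hqv])
      fun hs => hns ((good_SmFib.baseChange f p q g h ‹_› v).2 hs)
    obtain ⟨u, huv, hqu, -, hrd⟩ := exists_lift_eq_rd h hη hfη
    refine ⟨u, huv, hqu, ?_⟩
    have := FibDim.rd_baseChange_le h v
    omega

theorem rkN_source (f : X ⟶ Y) [LocallyOfFiniteType f] (U : X.Opens) (k : ℕ) (x : (U : Scheme.{u})) :
    RkN (U.ι ≫ f) k x ↔ RkN f k (U.ι x) := by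
  have hmem : ∀ {z : X} {u : (U : Scheme.{u})}, z ⤳ U.ι u → ∃ v, U.ι v = z ∧ v ⤳ u := by
    intro z u hz
    obtain ⟨v, rfl⟩ : z ∈ Set.range U.ι := by rw [Scheme.Opens.range_ι]; exact hz.mem_open U.isOpen u.2
    exact ⟨v, rfl, U.ι.isEmbedding.isInducing.specializes_iff.1 hz⟩
  constructor
  · intro h z hz hfz hns
    obtain ⟨v, rfl, hv⟩ := hmem hz
    obtain ⟨η, hη, hfη, hle⟩ := h v hv hfz fun hs => hns ((good_SmFib.source U.ι f inferInstance v).1 hs)
    refine ⟨U.ι η, hη.map U.ι.continuous, hfη, ?_⟩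
    rw [← FibDim.rd_opens, ← FibDim.rd_opens]
    exact hle
  · intro h v hv hfv hns
    obtain ⟨η, hη, hfη, hle⟩ := h _ (hv.map U.ι.continuous) hfv
      fun hs => hns ((good_SmFib.source U.ι f inferInstance v).2 hs)
    obtain ⟨u, rfl, hu⟩ := hmem hη
    refine ⟨u, hu, hfη, ?_⟩
    rw [FibDim.rd_opens, FibDim.rd_opens]
    exact hle

theorem isOpen_rd_add_le_closed (f : X ⟶ Y) [LocallyOfFiniteType f] {Z : Set X} (hZ : IsClosed Z) (a n : ℕ) :
    IsOpen {x : X | ∀ z ∈ Z, z ⤳ x → f z = f x → rd f z + a ≤ n} := by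
  by_cases hn : a ≤ n
  · convert isOpen_rd_le_closed f hZ (n - a) using 1
    ext x
    exact forall_congr' fun z => forall_congr' fun _ => forall_congr' fun _ => forall_congr' fun _ => by omega
  · convert hZ.isOpen_compl using 1
    ext x
    refine ⟨fun h hx => ?_, fun hx z hz hzx _ => absurd (hzx.mem_closed hZ hz) hx⟩
    have := h x hx specializes_rfl rfl
    omega

/-- Near a point over the generic point of an integral base, `RkN` is constant on the irreducible set through it. -/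
theorem exists_nhd_rkN [IsNoetherian X] [IsIntegral Y] (f : X ⟶ Y) [LocallyOfFinitePresentation f] (k : ℕ)
    (t : X) (ht : f t = genericPoint Y) :
    ∃ W : Set X, IsOpen W ∧ t ∈ W ∧ ∀ x ∈ W, t ⤳ x → (RkN f k x ↔ RkN f k t) := by
  let F : Set X := {x | (f.stalkMap x).hom.Flat}
  have hF : IsOpen F := FlatLocus.isOpen_flat_locus f
  have htF : t ∈ F := FibreLoc5.flat_over_genericPoint f t ht
  have hsm : ∀ z ∈ F, SmFib f z ↔ z ∈ f.smoothLocus := fun z hz => by
    haveI := lfp_fibre f (f z)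
    exact ((S2156.result f z).trans (and_iff_right hz)).symm
  have hgen : ∀ z, z ⤳ t → f z = genericPoint Y := fun z hz =>
    ((ht ▸ hz.map f.continuous : f z ⤳ genericPoint Y).antisymm (genericPoint_specializes _)).eq
  by_cases hgood : RkN f k t
  · let N : Set X := (f.smoothLocus : Set X)ᶜ
    have hN : IsClosed N := f.smoothLocus.isOpen.isClosed_compl
    obtain ⟨S, hS, hScl, hSirr, hSU⟩ := TopologicalSpace.NoetherianSpace.exists_finite_set_isClosed_irreducible hN
    have hC : ∀ C ∈ S, ∃ W : Set X, IsOpen W ∧ t ∈ W ∧ ∀ x ∈ W, ∀ z ∈ C, z ⤳ x → f z = f x → z ∈ F →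
        ∃ η, η ⤳ z ∧ f η = f z ∧ rd f z + (k + 1) ≤ rd f η := by
      intro C hC
      by_cases htC : t ∈ C
      swap
      · exact ⟨Cᶜ, (hScl C hC).isOpen_compl, htC,
          fun x hx z hz hzx _ _ => absurd (hzx.mem_closed (hScl C hC) hz) hx⟩
      obtain ⟨c, hc⟩ := QuasiSober.sober (hSirr C hC) (hScl C hC)
      have hct : c ⤳ t := hc.specializes htC
      have hcN : c ∈ N := hSU ▸ Set.mem_sUnion_of_mem hc.mem hC
      obtain ⟨ζ, hζ, hfζ, hle⟩ := hgood c hct ((hgen c hct).trans ht.symm)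
        fun hs => hcN ((hsm c (hct.mem_open hF htF)).1 hs)
      refine ⟨_, isOpen_rd_add_le_closed f (hScl C hC) 0 (rd f c), fun z hz hzt hfz => ?_, ?_⟩
      · rw [add_zero]
        exact FibDim.rd_le_of_specializes f (hc.specializes hz) ((hgen c hct).trans (hfz.trans ht).symm)
      · intro x hx z hz hzx hfz _
        obtain ⟨η, -, hη, hfη, hle'⟩ := FibDim.exists_rd_ge f (hζ.trans (hc.specializes hz))
        refine ⟨η, hη, hfη, ?_⟩
        have := hx z hz hzx hfz
        omega
    choose W hWo hWt hW using hC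
    haveI := hS.to_subtype
    refine ⟨(⋂ C : S, W C.1 C.2) ∩ F, (isOpen_iInter_of_finite (s := fun C : S => W C.1 C.2)
      fun C => hWo C.1 C.2).inter hF, ⟨Set.mem_iInter.2 fun C => hWt C.1 C.2, htF⟩, fun x hx _ => ?_⟩
    refine iff_of_true (fun z hzx hfz hns => ?_) hgood
    have hzF : z ∈ F := hzx.mem_open hF hx.2
    have hzN : z ∈ N := fun hs => hns ((hsm z hzF).2 hs)
    obtain ⟨C, hC, hzC⟩ := Set.mem_sUnion.1 (hSU ▸ hzN : z ∈ ⋃₀ S)
    exact hW C hC x (Set.mem_iInter.1 hx.1 ⟨C, hC⟩) z hzC hzx hfz hzF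
  · obtain ⟨z, hzt, hfz, hns, hbad⟩ : ∃ z, z ⤳ t ∧ f z = f t ∧ ¬ SmFib f z ∧
        ∀ η, η ⤳ z → f η = f z → rd f η ≤ rd f z + k := by
      simp only [RkN, not_forall, not_exists, not_and, not_le] at hgood
      obtain ⟨z, h1, h2, h3, h4⟩ := hgood
      exact ⟨z, h1, h2, h3, fun η a b => by have := h4 η a b; omega⟩
    let O : Set X := {x | ∀ η ∈ (Set.univ : Set X), η ⤳ x → f η = f x → rd f η ≤ rd f z + k}
    have hO : IsOpen O := isOpen_rd_le_closed f isClosed_univ _
    have hzO : z ∈ O := fun η _ => hbad η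
    let B : Set X := closure {z} ∩ Oᶜ
    have hB : IsClosed B := isClosed_closure.inter hO.isClosed_compl
    have hzN : z ∉ f.smoothLocus := fun hs => hns ((hsm z (hzt.mem_open hF htF)).2 hs)
    refine ⟨{x | ∀ w ∈ B, w ⤳ x → f w = f x → rd f w + 1 ≤ rd f z} ∩ F,
      (isOpen_rd_add_le_closed f hB 1 _).inter hF, ⟨fun w hw hwt hfw => ?_, htF⟩, fun x hx htx => ?_⟩
    · have hne : z ≠ w := fun e => hw.2 (e ▸ hzO)
      exact FibDim.rd_lt f (specializes_iff_mem_closure.2 hw.1) hne (hfz.trans hfw.symm)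
    · refine iff_of_false (fun hgx => ?_) hgood
      obtain ⟨w, hzw, hwx, hfw, hle⟩ := FibDim.exists_rd_ge f (hzt.trans htx)
      have hwF : w ∈ F := hwx.mem_open hF hx.2
      have hwN : w ∉ f.smoothLocus := fun hs => hzN (hzw.mem_open f.smoothLocus.isOpen hs)
      have hwO : w ∈ O := by
        by_contra hwO
        have := hx.1 w ⟨specializes_iff_mem_closure.1 hzw, hwO⟩ hwx hfw
        omega
      obtain ⟨η, hη, hfη, hle'⟩ := hgx w hwx hfw fun hs => hwN ((hsm w hwF).1 hs)
      have := hwO η trivial hη hfη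
      omega

theorem isConstructible_rkN [IsNoetherian X] [IsLocallyNoetherian Y] (f : X ⟶ Y) [LocallyOfFiniteType f] (k : ℕ) :
    IsConstructible {x : X | RkN f k x} := by
  refine ConsPropLib.isConstructible_of_dichotomy _ fun T j _ _ _ => ?_
  obtain ⟨TS, jS, _, _, hr, hgen⟩ := ConsPropLib.exists_integral_closure (f (j (genericPoint T)))
  haveI : IsLocallyNoetherian TS := LocallyOfFiniteType.isLocallyNoetherian jS
  have sub : Set.range (j ≫ f) ⊆ Set.range jS := by
    rw [hr]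
    rintro _ ⟨t, rfl⟩
    exact specializes_iff_mem_closure.1 ((genericPoint_specializes t).map (j ≫ f).continuous)
  obtain ⟨a, ha⟩ := H23.RedSub.exists_lift_closed (j ≫ f) jS sub
  let l : T ⟶ pullback f jS := pullback.lift j a ha.symm
  let f₁ := pullback.snd f jS
  haveI : LocallyOfFiniteType f₁ := MorphismProperty.of_isPullback (IsPullback.of_hasPullback f jS) ‹_›
  haveI : LocallyOfFinitePresentation f₁ := FibreLoc5.lfp_of_noetherian' f₁
  haveI : IsLocallyNoetherian (pullback f jS) := LocallyOfFiniteType.isLocallyNoetherian (pullback.fst f jS)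
  haveI : CompactSpace ↥(pullback f jS) := QuasiCompact.compactSpace_of_compactSpace (pullback.fst f jS)
  haveI : IsNoetherian (pullback f jS) := {}
  have hlj : ∀ t, RkN f₁ k (l t) ↔ RkN f k (j t) := fun t => by
    rw [rkN_baseChange (IsPullback.of_hasPullback f jS) k (l t), ← Scheme.Hom.comp_apply, pullback.lift_fst]
  obtain ⟨W, hW, htW, hiff⟩ := exists_nhd_rkN f₁ k (l (genericPoint T)) (jS.isClosedEmbedding.injective (by
    rw [hgen, ← Scheme.Hom.comp_apply, ← Scheme.Hom.comp_apply, show l ≫ f₁ ≫ jS = j ≫ f from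
      (pullback.lift_snd_assoc _ _ _ _).trans ha, Scheme.Hom.comp_apply]))
  by_cases hg : RkN f₁ k (l (genericPoint T))
  · exact Or.inl ⟨genericPoint T, interior_maximal (s := j ⁻¹' {x | RkN f k x}) (t := l ⁻¹' W)
      (fun (t : T) ht => (hlj t).1 ((hiff _ ht ((genericPoint_specializes t).map l.continuous)).2 hg))
      (hW.preimage l.continuous) htW⟩
  · exact Or.inr ⟨genericPoint T, interior_maximal (s := (j ⁻¹' {x | RkN f k x})ᶜ) (t := l ⁻¹' W)
      (fun (t : T) ht h => hg ((hiff _ ht ((genericPoint_specializes t).map l.continuous)).1 ((hlj t).2 h)))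
      (hW.preimage l.continuous) htW⟩

theorem isLocallyConstructible_rkN (f : X ⟶ Y) [LocallyOfFinitePresentation f] (k : ℕ) :
    IsLocallyConstructible {x : X | RkN f k x} := by
  intro x
  obtain ⟨V, hV, hxV, -⟩ := exists_isAffineOpen_mem_and_subset (U := (⊤ : Y.Opens)) (x := f x) trivial
  obtain ⟨U, hU, hxU, hUV'⟩ := exists_isAffineOpen_mem_and_subset (U := f ⁻¹ᵁ V) (x := x) hxV
  have hUV : U ≤ f ⁻¹ᵁ V := hUV'
  refine ⟨U, U.2.mem_nhds hxU, U.2, ?_⟩
  haveI : IsAffine (U : Scheme.{u}) := hU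
  haveI : IsAffine (V : Scheme.{u}) := hV
  let g := f.resLE V U hUV
  haveI : LocallyOfFinitePresentation g := inferInstance
  obtain ⟨S₀, X₀, _, π, u₀, _, qX, _, _, _, _, _, -, -, sq, -⟩ := ConsPropLib.exists_model_pair g g
  haveI : IsLocallyNoetherian X₀ := LocallyOfFiniteType.isLocallyNoetherian u₀
  haveI : CompactSpace X₀ := QuasiCompact.compactSpace_of_compactSpace u₀
  haveI : IsNoetherian X₀ := {}
  haveI : QuasiCompact qX := MorphismProperty.of_isPullback (P := @QuasiCompact) sq.flip inferInstance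
  have hset : (U.ι ⁻¹' {x : X | RkN f k x} : Set (U : Scheme.{u})) = qX ⁻¹' {x : X₀ | RkN u₀ k x} := by
    ext z
    have hgf : g ≫ V.ι = U.ι ≫ f := f.resLE_comp_ι hUV
    haveI : LocallyOfFiniteType (g ≫ V.ι) := hgf ▸ inferInstance
    show RkN f k (U.ι z) ↔ RkN u₀ k (qX z)
    have hmono : IsPullback (𝟙 (U : Scheme.{u})) g (g ≫ V.ι) V.ι :=
      IsPullback.mk ⟨by simp⟩ ⟨PullbackCone.IsLimit.mk _
        (fun s => s.fst) (fun s => by simp) (fun s => (cancel_mono V.ι).1 (by rw [Category.assoc]; exact s.condition))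
        (fun s m h1 _ => by simpa using h1)⟩
    rw [← rkN_source f U k z, ← hgf, ← rkN_baseChange sq k z]
    exact (rkN_baseChange hmono k z).symm
  show IsConstructible (U.ι ⁻¹' {x : X | RkN f k x} : Set (U : Scheme.{u}))
  rw [hset]
  exact qX.isConstructible_preimage (isConstructible_rkN u₀ k)

/-- `RkN` is the pointwise form of the geometric condition on the fibre. -/
theorem rkSm_iff_rkN (f : X ⟶ Y) [LocallyOfFinitePresentation f] (k : ℕ) (x : X) :
    (haveI := lfp_fibre f (f x); RkSm (f.fiberToSpecResidueField (f x)) k (f.asFiber x)) ↔ RkN f k x := by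
  haveI := lfp_fibre f (f x)
  have hs : ∀ (z : X) (y : Y) (v : ↥(f.fiber y)), f.fiberι y v = z →
      ((haveI := lfp_fibre f y; v ∈ (f.fiberToSpecResidueField y).smoothLocus) ↔ SmFib f z) := by
    intro z y v hv
    obtain rfl : f z = y := by rw [← hv]; exact FibDim.fiber_apply_fiberι f v
    obtain rfl : v = f.asFiber z := (f.fiberι (f z)).isEmbedding.injective (by rw [hv, f.fiberι_asFiber z])
    exact Iff.rfl
  have hd : ∀ v : ↥(f.fiber (f x)), ringKrullDim ((f.fiber (f x)).presheaf.stalk v) ≤ k ↔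
      ∀ η, η ⤳ f.fiberι (f x) v → f η = f (f.fiberι (f x) v) → rd f η ≤ rd f (f.fiberι (f x) v) + k := by
    intro v
    obtain ⟨b, hb, ⟨η, hη, hηb⟩, hle⟩ := VarDim.exists_deg_add_stalk (k := Y.residueField (f x))
      (f.fiberToSpecResidueField (f x)) v
    rw [FibDim.deg_fiber f _ η, FibDim.deg_fiber f _ v] at hηb
    rw [hb]
    refine ⟨fun h ξ hξ hfξ => ?_, fun h => ?_⟩
    · obtain ⟨ξ, rfl⟩ : ξ ∈ Set.range (f.fiberι (f x)) := by
        rw [Scheme.Hom.range_fiberι]; exact hfξ.trans (FibDim.fiber_apply_fiberι f v)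
      have := hle ξ ((FibDim.fiberι_specializes_iff f _ _).1 hξ)
      rw [FibDim.deg_fiber f _ ξ, FibDim.deg_fiber f _ v] at this
      have hbk : b ≤ k := by exact_mod_cast h
      omega
    · have := h _ ((FibDim.fiberι_specializes_iff f _ _).2 hη)
        (by rw [FibDim.fiber_apply_fiberι, FibDim.fiber_apply_fiberι])
      exact_mod_cast (show b ≤ k by omega)
  constructor
  · intro h z hz hfz hns
    obtain ⟨v, rfl⟩ : z ∈ Set.range (f.fiberι (f x)) := by rw [Scheme.Hom.range_fiberι]; exact hfz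
    by_contra hno
    refine hns ((hs _ _ v rfl).1 (h v ?_ ((hd v).2 fun η hη hfη => ?_)))
    · exact (FibDim.fiberι_specializes_iff f _ _).1 (hz.trans (specializes_of_eq (f.fiberι_asFiber x).symm))
    · by_contra hlt
      exact hno ⟨η, hη, hfη, by omega⟩
  · intro h v hv hdv
    by_contra hns
    have hz : f.fiberι (f x) v ⤳ x :=
      ((FibDim.fiberι_specializes_iff f _ _).2 hv).trans (specializes_of_eq (f.fiberι_asFiber x))
    obtain ⟨η, hη, hfη, hle⟩ := h _ hz (FibDim.fiber_apply_fiberι f v) fun hs' => hns ((hs _ _ v rfl).2 hs')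
    have := (hd v).1 hdv η hη hfη
    omega

end Groth.Agent.Ega43Prop
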