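import Groth.Agent.Ega43Prop.GeomRk
import Groth.Agent.Ega43Prop.FibreAssBase
import Groth.Agent.FibDim.Basic
import Groth.Agent.Codepth5.Field
import Groth.Agent.PicClLib.Basic
import Groth.Agent.AssLib.Apply
import Groth.Agent.QCoh.LocFree
import Groth.Agent.S11503
import Groth.Agent.S2085
import Groth.Agent.S2156

/-!
# Openness of geometric `(R_k)` in the fibres of a flat morphism (EGA IV 12.1.6)
-/

set_option autoImplicit false
set_option linter.style.haveILetI false
set_option backward.isDefEq.respectTransparency false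
set_option backward.isDefEq.respectTransparency.types false

universe u

open CategoryTheory AlgebraicGeometry IsLocalRing

namespace Groth.Agent.Ega43Prop

open Codepth5 (fibIdeal nonempty_fibre_stalk_equiv)

variable {X Y : Scheme.{u}} (f : X ⟶ Y)

theorem lfp_fibre [LocallyOfFiniteType f] (y : Y) : LocallyOfFinitePresentation (f.fiberToSpecResidueField y) := by
  haveI : IsLocallyNoetherian (Spec (Y.residueField y)) := inferInstance
  exact FibreLoc5.lfp_of_noetherian' (f.fiberToSpecResidueField y)

/-- The dimension of the local ring of the fibre at a point. -/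
noncomputable def fdim (z : X) : WithBot ℕ∞ := ringKrullDim (X.presheaf.stalk z ⧸ fibIdeal f z)

theorem ringKrullDim_fibre_stalk (y : Y) (v : ↥(f.fiber y)) :
    ringKrullDim ((f.fiber y).presheaf.stalk v) = fdim f (f.fiberι y v) := by
  obtain ⟨e⟩ := nonempty_fibre_stalk_equiv f _ y v rfl
  exact (ringKrullDim_eq_of_ringEquiv e).symm

/-- Every codimension `≤ k` generization in the fibre is a point where `f` is smooth. -/
def RkF [LocallyOfFinitePresentation f] (k : ℕ) (x : X) : Prop :=
  ∀ z : X, z ⤳ x → f z = f x → fdim f z ≤ k → z ∈ f.smoothLocus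

theorem flat_of_specializes [LocallyOfFinitePresentation f] {z x : X} (h : z ⤳ x)
    (hx : (f.stalkMap x).hom.Flat) : (f.stalkMap z).hom.Flat :=
  h.mem_open (FlatLocus.isOpen_flat_locus f) (show x ∈ {w : X | (f.stalkMap w).hom.Flat} from hx)

/-- Geometric `(R_k)` of the fibre through a point of flatness. -/
theorem rkSm_fibre_iff [LocallyOfFinitePresentation f] (k : ℕ) (x : X) (hx : (f.stalkMap x).hom.Flat) :
    (haveI := lfp_fibre f (f x); RkSm (f.fiberToSpecResidueField (f x)) k (f.asFiber x)) ↔
      RkF f k x := by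
  haveI := lfp_fibre f (f x)
  have key : ∀ (z : X) (y : Y) (v : ↥(f.fiber y)), f.fiberι y v = z → (f.stalkMap z).hom.Flat →
      ((haveI := lfp_fibre f y; v ∈ (f.fiberToSpecResidueField y).smoothLocus) ↔ z ∈ f.smoothLocus) := by
    intro z y v hv hflat
    obtain rfl : f z = y := by rw [← hv]; exact FibDim.fiber_apply_fiberι f v
    haveI := lfp_fibre f (f z)
    obtain rfl : v = f.asFiber z := (f.fiberι (f z)).isEmbedding.injective (by rw [hv, f.fiberι_asFiber z])
    exact ((S2156.result f z).trans (and_iff_right hflat)).symm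
  constructor
  · intro h z hz hfz hd
    obtain ⟨v, rfl⟩ : z ∈ Set.range (f.fiberι (f x)) := by rw [Scheme.Hom.range_fiberι]; exact hfz
    refine (key _ _ v rfl (flat_of_specializes f hz hx)).1 (h v ?_ ?_)
    · exact (FibDim.fiberι_specializes_iff f _ _).1 (hz.trans (specializes_of_eq (f.fiberι_asFiber x).symm))
    · rwa [ringKrullDim_fibre_stalk]
  · intro h v hv hd
    have hz : f.fiberι (f x) v ⤳ x :=
      ((FibDim.fiberι_specializes_iff f _ _).2 hv).trans (specializes_of_eq (f.fiberι_asFiber x))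
    refine (key _ _ v rfl (flat_of_specializes f hz hx)).2 (h _ hz (FibDim.fiber_apply_fiberι f v) ?_)
    rwa [← ringKrullDim_fibre_stalk]
/-- Generizations in the fibre inside a closed set have small relative degree: an open condition. -/
theorem isOpen_rd_le_closed [LocallyOfFiniteType f] {Z : Set X} (hZ : IsClosed Z) (n : ℕ) :
    IsOpen {x : X | ∀ z ∈ Z, z ⤳ x → f z = f x → FibDim.rd f z ≤ n} := by
  refine isOpen_iff_forall_mem_open.2 fun x hx => ?_
  by_cases hxZ : x ∈ Z
  swap
  · exact ⟨Zᶜ, fun w hw z hz hzw => absurd (hzw.mem_closed hZ hz) hw, hZ.isOpen_compl, hxZ⟩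
  haveI : IsLocallyNoetherian (f.fiber (f x)) :=
    LocallyOfFiniteType.isLocallyNoetherian (f.fiberToSpecResidueField (f x))
  obtain ⟨W, hxW, hW⟩ := FibDim.exists_nhd_generizing (hZ.preimage (f.fiberι (f x)).continuous) (f.asFiber x)
  obtain ⟨W', hW', hWW'⟩ := (f.fiberι (f x)).isEmbedding.isInducing.isOpen_iff.mp W.isOpen
  have hxW' : x ∈ W' := by
    have : f.asFiber x ∈ (f.fiberι (f x)) ⁻¹' W' := hWW'.symm ▸ hxW
    simpa [Scheme.Hom.fiberι_asFiber] using this
  have hdim : topologicalKrullDim ↥(W' ∩ Z ∩ f ⁻¹' {f x}) ≤ n := by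
    refine (FibDim.dim_inter_le_iff f _ hW' hZ _).2 fun w h1 h2 h3 => ?_
    obtain ⟨w', rfl⟩ : w ∈ Set.range (f.fiberι (f x)) := by rw [Scheme.Hom.range_fiberι]; exact h3
    obtain ⟨η, hη, hηx, hηw⟩ := hW w' (hWW'.le h1) h2
    refine le_trans (FibDim.rd_le_of_specializes f (hηw.map (f.fiberι (f x)).continuous)
      ((FibDim.fiber_apply_fiberι f η).trans h3.symm)) (hx _ hη ?_ (FibDim.fiber_apply_fiberι f η))
    have := hηx.map (f.fiberι (f x)).continuous
    rwa [Scheme.Hom.fiberι_asFiber] at this
  obtain ⟨U, hU, hxU, -, hUb⟩ := FibDim.exists_open_dim_le f hW' hZ hxW' hxZ n hdim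
  exact ⟨U, fun w hw z hz hzw _ => (FibDim.dim_inter_le_iff f _ hU hZ _).1 (hUb (f z)) z
    (hzw.mem_open hU hw) hz rfl, hU, hxU⟩

section Unit

theorem isFP_one (X : Scheme.{u}) : CohB1.IsFP (Coh.structureModule X) :=
  QCoh.isFP_of_isFinLocFree fun x =>
    let ⟨U, hU, e⟩ := S11503.rank_one_unit X x
    ⟨U, 1, hU, e⟩

theorem isFlatOver_one [Flat f] : FlatMod.IsFlatOver f (Coh.structureModule X) := by
  intro x
  letI := FlatMod.moduleStalkOver f (Coh.structureModule X) x
  letI := (f.stalkMap x).hom.toAlgebra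
  haveI : Module.Flat (Y.presheaf.stalk (f x)) (X.presheaf.stalk x) := Flat.stalkMap f x
  let e : X.presheaf.stalk x ≃ₗ[X.presheaf.stalk x] (Coh.structureModule X).presheaf.stalk x :=
    KFlatLib.stalkUnitEquiv x
  let e' : X.presheaf.stalk x ≃ₗ[Y.presheaf.stalk (f x)] (Coh.structureModule X).presheaf.stalk x :=
    { toFun := e, map_add' := e.map_add, invFun := e.invFun, left_inv := e.left_inv, right_inv := e.right_inv
      map_smul' := fun r m => e.map_smul ((f.stalkMap x).hom r) m }
  exact Module.Flat.of_linearEquiv e'.symm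

theorem nonempty_fibre_one (y : Y) (w : ↥(f.fiber y)) :
    Nonempty ((f.fiber y).presheaf.stalk w ≃ₗ[(f.fiber y).presheaf.stalk w]
      ((Scheme.Modules.pullback (f.fiberι y)).obj (Coh.structureModule X)).presheaf.stalk w) := by
  obtain ⟨i⟩ := PicClLib.nonempty_pullback_structureModule (f.fiberι y)
  let e : (f.fiber y).presheaf.stalk w ≃ₗ[(f.fiber y).presheaf.stalk w]
      (Coh.structureModule (f.fiber y)).presheaf.stalk w := KFlatLib.stalkUnitEquiv w
  exact ⟨e ≪≫ₗ ((DerSch.stalkFunctor (f.fiber y) w).mapIso i.symm).toLinearEquiv⟩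

theorem isEquidimModule_congr {R M N : Type u} [CommRing R] [AddCommGroup M] [Module R M] [AddCommGroup N]
    [Module R N] (e : M ≃ₗ[R] N) : EGA4.IsEquidimModule R M ↔ EGA4.IsEquidimModule R N := by
  rw [EGA4.IsEquidimModule, EGA4.IsEquidimModule, e.annihilator_eq, Module.supportDim_eq_of_equiv e]

theorem isEquidimModule_self (R : Type u) [CommRing R] :
    EGA4.IsEquidimModule R R ↔ EGA4.IsEquidim R := by
  rw [EGA4.IsEquidimModule, EGA4.IsEquidim, Module.annihilator_eq_bot.2 inferInstance,
    Module.supportDim_self_eq_ringKrullDim]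

theorem hasSk_congr {R M N : Type u} [CommRing R] [IsNoetherianRing R] [AddCommGroup M] [Module R M] [AddCommGroup N]
    [Module R N] (e : M ≃ₗ[R] N) (k : ℕ) : LocCoh.HasSk k R M ↔ LocCoh.HasSk k R N := by
  refine forall_congr' fun p => forall_congr' fun hp => ?_
  let e' : LocalizedModule p.primeCompl M ≃ₗ[Localization.AtPrime p] LocalizedModule p.primeCompl N :=
    IsLocalizedModule.mapEquiv p.primeCompl (LocalizedModule.mkLinearMap _ _) (LocalizedModule.mkLinearMap _ _)
      (Localization.AtPrime p) e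
  haveI := IsLocalization.isNoetherianRing p.primeCompl (Localization.AtPrime p) inferInstance
  rw [Module.supportDim_eq_of_equiv e', Hensel.depth_congr e']

/-- Equidimensional without embedded cycle, pointwise. -/
theorem equidim_noEmbedded_iff [LocallyOfFinitePresentation f] (y : Y) (w : ↥(f.fiber y)) :
    (EGA4.IsEquidim ↑((f.fiber y).presheaf.stalk w) ∧
      ∀ p ∈ associatedPrimes ↑((f.fiber y).presheaf.stalk w) ↑((f.fiber y).presheaf.stalk w),
        p ∈ minimalPrimes ↑((f.fiber y).presheaf.stalk w)) ↔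
    (∃ n : ℕ, AllGenX f (Coh.structureModule X) (assQ (fun c => c = n)) (f.fiberι y w)) ∧
      AllGenX f (Coh.structureModule X) (skQ 1) (f.fiberι y w) := by
  haveI := fibre_isLocallyNoetherian f y
  obtain ⟨e⟩ := nonempty_fibre_one f y w
  have h1 : (∀ p ∈ associatedPrimes ↑((f.fiber y).presheaf.stalk w) ↑((f.fiber y).presheaf.stalk w),
      p ∈ minimalPrimes ↑((f.fiber y).presheaf.stalk w)) ↔
        AllGenX f (Coh.structureModule X) (skQ 1) (f.fiberι y w) := by
    rw [allGenX_skQ_iff f _ (isFP_one X), ← hasSk_congr e 1, ← S2085.result,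
      Module.annihilator_eq_bot.2 inferInstance]
  rw [h1]
  refine and_congr_left fun hS => ?_
  rw [← isEquidimModule_self, isEquidimModule_congr e]
  exact isEquidimModule_fibre_iff f _ (isFP_one X) y w hS

end Unit

/-- The open set of points at which the fibre is equidimensional, without embedded cycles, geometric `(R_k)`. -/
theorem isOpen_rk_equidim [Flat f] [LocallyOfFinitePresentation f] (k : ℕ) :
    IsOpen {x : X | RkF f k x ∧
      (∃ n : ℕ, AllGenX f (Coh.structureModule X) (assQ (fun c => c = n)) x) ∧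
        AllGenX f (Coh.structureModule X) (skQ 1) x} := by
  let B : ℕ → Set X := fun n => {x | ∀ z ∈ (f.smoothLocus : Set X)ᶜ, z ⤳ x → f z = f x → FibDim.rd f z + (k + 1) ≤ n}
  have hB : ∀ n, IsOpen (B n) := fun n => by
    by_cases hn : k + 1 ≤ n
    · convert isOpen_rd_le_closed f f.smoothLocus.isOpen.isClosed_compl (n - (k + 1)) using 1
      ext x
      exact forall_congr' fun z => forall_congr' fun _ => forall_congr' fun _ => forall_congr' fun _ => by omega
    · convert f.smoothLocus.isOpen using 1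
      ext x
      refine ⟨fun h => by_contra fun hx => ?_, fun hx z hz hzx _ => absurd (hzx.mem_open f.smoothLocus.isOpen hx) hz⟩
      have := h x hx specializes_rfl rfl
      omega
  convert ((isOpen_iUnion fun n : ℕ => (isOpen_assX f _ (isFP_one X) (isFlatOver_one f) (fun c => c = (n : ℕ∞))).inter
    (hB n))).inter (isOpen_skX f _ (isFP_one X) (isFlatOver_one f) 1) using 1
  ext x
  simp only [Set.mem_inter_iff, Set.mem_iUnion, Set.mem_ofPred_eq]
  have key : ∀ n : ℕ, AllGenX f (Coh.structureModule X) (assQ (fun c => c = n)) x →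
      (RkF f k x ↔ x ∈ B n) := by
    intro n hn
    haveI := fibre_isLocallyNoetherian f (f x)
    have hdim : ∀ z, z ⤳ x → f z = f x → ∃ b : ℕ, fdim f z = b ∧ b + FibDim.rd f z = n := by
      intro z hz hfz
      obtain ⟨v, rfl⟩ : z ∈ Set.range (f.fiberι (f x)) := by rw [Scheme.Hom.range_fiberι]; exact hfz
      rw [← ringKrullDim_fibre_stalk]
      obtain ⟨b, hb, ⟨η, hη, hηb⟩, hle⟩ := VarDim.exists_deg_add_stalk (k := Y.residueField (f x))
        (f.fiberToSpecResidueField (f x)) v
      refine ⟨b, hb, ?_⟩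
      have hn' := (allGenX_assQ_iff f _ (isFP_one X) _ (f x) v).1 fun z' hz' hfz' =>
        hn z' (hz'.trans hz) (hfz'.trans hfz)
      have hnt : ∀ u : ↥(f.fiber (f x)),
          Nontrivial (((Scheme.Modules.pullback (f.fiberι (f x))).obj (Coh.structureModule X)).presheaf.stalk u) :=
        fun u => (nonempty_fibre_one f (f x) u).some.toEquiv.symm.nontrivial
      have hmax : ∀ u : ↥(f.fiber (f x)), u ⤳ v → VarDim.deg (k := Y.residueField (f x))
          (f.fiberToSpecResidueField (f x)) u ≤ n := fun u hu => by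
        obtain ⟨a, ha, hau⟩ := exists_ass_below f _ (isFP_one X) (hnt u)
        have h1 : (FibDim.rd f (f.fiberι (f x) a) : ℕ∞) = n := hn' a ha (hau.trans hu)
        have h2 := VarDim.deg_le_of_specializes (k := Y.residueField (f x)) (f.fiberToSpecResidueField (f x)) hau
        rw [FibDim.deg_fiber f _ a] at h2
        have h1' : FibDim.rd f (f.fiberι (f x) a) = n := by exact_mod_cast h1
        omega
      obtain ⟨a, ha, hav⟩ := exists_ass_below f _ (isFP_one X) (hnt v)
      have h1 : (FibDim.rd f (f.fiberι (f x) a) : ℕ∞) = n := hn' a ha hav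
      have h1' : FibDim.rd f (f.fiberι (f x) a) = n := by exact_mod_cast h1
      have h3 := hmax η hη
      have h4 := hle a hav
      rw [FibDim.deg_fiber f _ v] at h4 hηb
      rw [FibDim.deg_fiber f _ a] at h4
      omega
    refine ⟨fun h z hz hzx hfz => ?_, fun h z hzx hfz hd => by_contra fun hz => ?_⟩
    · obtain ⟨b, hb, hbn⟩ := hdim z hzx hfz
      by_contra hlt
      refine hz (h z hzx hfz ?_)
      rw [hb]
      exact_mod_cast (show b ≤ k by omega)
    · obtain ⟨b, hb, hbn⟩ := hdim z hzx hfz
      rw [hb] at hd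
      have hd' : b ≤ k := by exact_mod_cast hd
      have := h z hz hzx hfz
      omega
  constructor
  · rintro ⟨hr, ⟨n, hn⟩, hs⟩
    exact ⟨⟨n, hn, (key n hn).1 hr⟩, hs⟩
  · rintro ⟨⟨n, hn, hb⟩, hs⟩
    exact ⟨(key n hn).2 hb, ⟨n, hn⟩, hs⟩

/-- The geometric condition `(R_k)` tested on finite extensions, for a point of flatness. -/
theorem geomRk_iff [LocallyOfFinitePresentation f] (k : ℕ) (x : X) (hx : (f.stalkMap x).hom.Flat) :
    (∀ (K : Type u) [Field K] [Algebra (IsLocalRing.ResidueField (Y.presheaf.stalk (f.base x))) K],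
        Module.Finite (IsLocalRing.ResidueField (Y.presheaf.stalk (f.base x))) K →
        ∀ x' : ↥(FBase.bc (f.fiberToSpecResidueField (f.base x)) K),
          (FBase.bcπ (f.fiberToSpecResidueField (f.base x)) K).base x' = f.asFiber x →
          LocCoh.HasRk k ((FBase.bc (f.fiberToSpecResidueField (f.base x)) K).presheaf.stalk x')) ↔
      RkF f k x := by
  haveI := lfp_fibre f (f x)
  rw [← rkSm_fibre_iff f k x hx]
  exact ⟨fun h => rkSm_of_forall_finite _ h,
    fun h K _ _ _ x' hx' => hasRk_bc_of_rkSm _ h K x' hx'⟩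

/-- The conditions of EGA IV 12.1.6, pointwise. -/
theorem geomRk_equidim_iff [LocallyOfFinitePresentation f] (k : ℕ) (x : X) (hx : (f.stalkMap x).hom.Flat) :
    ((∀ (K : Type u) [Field K] [Algebra (IsLocalRing.ResidueField (Y.presheaf.stalk (f.base x))) K],
        Module.Finite (IsLocalRing.ResidueField (Y.presheaf.stalk (f.base x))) K →
        ∀ x' : ↥(FBase.bc (f.fiberToSpecResidueField (f.base x)) K),
          (FBase.bcπ (f.fiberToSpecResidueField (f.base x)) K).base x' = f.asFiber x →
          LocCoh.HasRk k ((FBase.bc (f.fiberToSpecResidueField (f.base x)) K).presheaf.stalk x')) ∧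
      EGA4.IsEquidim ↑((f.fiber (f.base x)).presheaf.stalk (f.asFiber x)) ∧
        (∀ p ∈ associatedPrimes ↑((f.fiber (f.base x)).presheaf.stalk (f.asFiber x))
            ↑((f.fiber (f.base x)).presheaf.stalk (f.asFiber x)),
          p ∈ minimalPrimes ↑((f.fiber (f.base x)).presheaf.stalk (f.asFiber x)))) ↔
      RkF f k x ∧ (∃ n : ℕ, AllGenX f (Coh.structureModule X) (assQ (fun c => c = n)) x) ∧
        AllGenX f (Coh.structureModule X) (skQ 1) x := by
  rw [geomRk_iff f k x hx, equidim_noEmbedded_iff f (f.base x) (f.asFiber x)]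
  refine and_congr_right fun _ => and_congr (exists_congr fun n => ?_) ?_
  · exact (allGenX_asFiber f _ _ x).symm
  · exact (allGenX_asFiber f _ _ x).symm

/-- The conditions of EGA IV 12.2.4, on a fibre. -/
theorem base_geomRk_equidim_iff [Flat f] [LocallyOfFinitePresentation f] (k : ℕ) (y : Y) (w : ↥(f.fiber y)) :
    ((∀ (K : Type u) [Field K] [Algebra (IsLocalRing.ResidueField (Y.presheaf.stalk y)) K],
        Module.Finite (IsLocalRing.ResidueField (Y.presheaf.stalk y)) K →
        ∀ x' : ↥(FBase.bc (f.fiberToSpecResidueField y) K),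
          (FBase.bcπ (f.fiberToSpecResidueField y) K).base x' = w →
          LocCoh.HasRk k ((FBase.bc (f.fiberToSpecResidueField y) K).presheaf.stalk x')) ∧
      EGA4.IsEquidim ↑((f.fiber y).presheaf.stalk w) ∧
        (∀ p ∈ associatedPrimes ↑((f.fiber y).presheaf.stalk w) ↑((f.fiber y).presheaf.stalk w),
          p ∈ minimalPrimes ↑((f.fiber y).presheaf.stalk w))) ↔
      RkF f k (f.fiberι y w) ∧
        (∃ n : ℕ, AllGenX f (Coh.structureModule X) (assQ (fun c => c = n)) (f.fiberι y w)) ∧
        AllGenX f (Coh.structureModule X) (skQ 1) (f.fiberι y w) := by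
  obtain ⟨x, hx⟩ : ∃ x, f.fiberι y w = x := ⟨_, rfl⟩
  obtain rfl : f x = y := by rw [← hx]; exact FibDim.fiber_apply_fiberι f w
  obtain rfl : w = f.asFiber x := (f.fiberι (f x)).isEmbedding.injective (by rw [hx, f.fiberι_asFiber x])
  rw [f.fiberι_asFiber x]
  exact geomRk_equidim_iff f k x (Flat.stalkMap f x)

end Groth.Agent.Ega43Prop
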