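import Groth.Agent.Ega43Prop.DvrAt
import Groth.Agent.Pi1Ext.SpreadLim
import Groth.Agent.S2074

/-!
# Properness over a neighbourhood of a point of the base (EGA IV 15.7.1, 15.7.5)
-/

set_option autoImplicit false
set_option linter.style.haveILetI false
set_option backward.isDefEq.respectTransparency false
set_option backward.isDefEq.respectTransparency.types false
universe u

open CategoryTheory CategoryTheory.Limits AlgebraicGeometry IsLocalRing TopologicalSpace
open Groth.Agent.Pi1Ext

namespace Groth.Agent.Ega43Prop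

variable {X Y : Scheme.{u}}

/-- Properness over the local scheme at `y` spreads to an open neighbourhood. -/
theorem exists_nhd_of_isProper_fromSpecStalk (f : X ⟶ Y) [LocallyOfFiniteType f] [QuasiCompact f]
    [QuasiSeparated f] (y : Y) (hp : IsProper (pullback.snd f (Y.fromSpecStalk y))) :
    ∃ U : Y.Opens, y ∈ U ∧ IsProper (f ∣_ U) := by
  obtain ⟨W₀, -⟩ := SpreadLim.exists_nbhd_le Y y (O := ⊤) trivial
  let D := SpreadLim.specs Y y
  let c := SpreadLim.cone Y y
  let t := SpreadLim.toX Y y W₀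
  let f₀ : pullback f t ⟶ D.obj W₀ := pullback.snd f t
  haveI : CompactSpace ↥(pullback f t) := QuasiCompact.compactSpace_of_compactSpace f₀
  haveI : QuasiSeparatedSpace ↥(pullback f t) :=
    quasiSeparatedSpace_of_quasiSeparated f₀
  haveI : ∀ (i j : SpreadLim.Nbhd Y y) (φ : i ⟶ j), IsAffineHom (D.map φ) := fun i j φ =>
    inferInstanceAs (IsAffineHom (Spec.map _))
  haveI := hp
  let qX : pullback f (Y.fromSpecStalk y) ⟶ pullback f t :=
    pullback.lift (pullback.fst _ _) (pullback.snd _ _ ≫ c.π.app W₀)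
      (by rw [Category.assoc, SpreadLim.π_toX, pullback.condition])
  have hX : IsPullback qX (pullback.snd f (Y.fromSpecStalk y)) f₀ (c.π.app W₀) := by
    refine IsPullback.of_right ?_ (pullback.lift_snd _ _ _) (IsPullback.of_hasPullback f t)
    rw [pullback.lift_fst, SpreadLim.π_toX]
    exact IsPullback.of_hasPullback f (Y.fromSpecStalk y)
  have hY : IsPullback (c.π.app W₀) (𝟙 c.pt) (𝟙 (D.obj W₀)) (c.π.app W₀) :=
    IsPullback.of_id_snd
  obtain ⟨i, φ, Xi, Yi, fi, gi, pY, pX, h1, h2, h3⟩ := Groth.Agent.S2074.result D c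
    (SpreadLim.isLimit Y y) W₀ f₀ (𝟙 (D.obj W₀)) _ (𝟙 c.pt) _ qX hY hX
  haveI : IsIso gi := h1.isIso_snd_of_isIso
  haveI := h3
  have h4 : IsPullback (pX ≫ pullback.fst f t) (fi ≫ gi) f (SpreadLim.toX Y y i) := by
    have h5 : IsPullback pX (fi ≫ gi) (f₀ ≫ 𝟙 _) (D.map φ) := h2.paste_vert h1
    rw [Category.comp_id] at h5
    have h6 := h5.paste_horiz (IsPullback.of_hasPullback f t)
    rw [SpreadLim.map_toX] at h6
    exact h6
  refine ⟨i.1, i.2.2, ?_⟩
  have hr : Set.range i.1.ι ⊆ Set.range (SpreadLim.toX Y y i) := by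
    rw [Scheme.Opens.range_ι, SpreadLim.range_toX]
  let l := IsOpenImmersion.lift (SpreadLim.toX Y y i) i.1.ι hr
  let k : ↑(f ⁻¹ᵁ i.1) ⟶ Xi := h4.lift (f ⁻¹ᵁ i.1).ι (f ∣_ i.1 ≫ l)
    (by rw [Category.assoc, IsOpenImmersion.lift_fac, morphismRestrict_ι])
  have h7 : IsPullback k (f ∣_ i.1) (fi ≫ gi) l :=
    IsPullback.of_right (by rw [h4.lift_fst, IsOpenImmersion.lift_fac]
                            exact (isPullback_morphismRestrict f i.1).flip)
      (h4.lift_snd _ _ _) h4
  exact MorphismProperty.of_isPullback h7 (inferInstance : IsProper (fi ≫ gi))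

variable {f : X ⟶ Y} {y : Y}

/-- Valuation rings centred at `y` suffice for properness over the local scheme at `y`. -/
theorem LiftsAt.isProper_fromSpecStalk [LocallyOfFiniteType f]
    [QuasiCompact f] [IsSeparated f] (H : LiftsAt f y) :
    IsProper (pullback.snd f (Y.fromSpecStalk y)) := by
  haveI : UniversallyClosed (pullback.snd f (Y.fromSpecStalk y)) := by
    refine UniversallyClosed.of_valuativeCriterion _ fun S => ?_
    obtain ⟨R, K, i₁, i₂, ⟨w⟩⟩ := S
    have hs : (i₂ ≫ Y.fromSpecStalk y) (closedPoint R) ⤳ y := by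
      have : i₂ (closedPoint R) ⤳ closedPoint (Y.presheaf.stalk y) :=
        IsLocalRing.specializes_closedPoint _
      have h := this.map (Y.fromSpecStalk y).continuous
      rw [Scheme.fromSpecStalk_closedPoint] at h
      exact h
    obtain ⟨l, hl₁, hl₂⟩ := (H.of_specializes hs).hasLift (i₁ ≫ pullback.fst f _)
      (i₂ ≫ Y.fromSpecStalk y) rfl (by rw [Category.assoc, pullback.condition, reassoc_of% w])
    refine ⟨⟨⟨pullback.lift l i₂ hl₁, ?_, pullback.lift_snd _ _ _⟩⟩⟩
    apply pullback.hom_ext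
    · rw [Category.assoc, pullback.lift_fst, hl₂]
    · rw [Category.assoc, pullback.lift_snd, w]
  exact {}

theorem LiftsAt.exists_nhd_isProper [LocallyOfFiniteType f] [QuasiCompact f] [IsSeparated f]
    (H : LiftsAt f y) : ∃ U : Y.Opens, y ∈ U ∧ IsProper (f ∣_ U) :=
  exists_nhd_of_isProper_fromSpecStalk f y H.isProper_fromSpecStalk

/-- EGA IV 15.7: a separated morphism of finite type is proper over a neighbourhood of `y` iff it
satisfies the valuative criterion for discrete valuation rings centred at `y`. -/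
theorem exists_nhd_isProper_iff [IsLocallyNoetherian Y] [LocallyOfFiniteType f]
    [QuasiCompact f] [IsSeparated f] :
    (∃ U : Y.Opens, y ∈ U ∧ IsProper (f ∣_ U)) ↔ DVRExistenceAt f y := by
  refine ⟨?_, fun H => H.liftsAt.exists_nhd_isProper⟩
  rintro ⟨U, hyU, hU⟩ A _ _ _ x g hg w
  haveI := hU
  have hgU : Set.range g ⊆ (U : Set Y) :=
    Groth.Agent.MorLib.DenseValuative.range_subset_of_closedPoint g (hg ▸ hyU)
  let g' := IsOpenImmersion.lift U.ι g (by rwa [Scheme.Opens.range_ι])
  have hg' : g' ≫ U.ι = g := IsOpenImmersion.lift_fac _ _ _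
  have hp := (isPullback_morphismRestrict f U).flip
  let x' := hp.lift x (Spec.map (CommRingCat.ofHom (algebraMap A (FractionRing A))) ≫ g')
    (by rw [Category.assoc, hg', w])
  obtain ⟨l, hl₁, hl₂⟩ :=
    Groth.Agent.Proj16.dvrExistence_of_universallyClosed (f ∣_ U) A x' g' (hp.lift_snd _ _ _)
  refine ⟨l ≫ (f ⁻¹ᵁ U).ι, ?_, ?_⟩
  · rw [Category.assoc, ← morphismRestrict_ι, reassoc_of% hl₁, hg']
  · rw [reassoc_of% hl₂]
    exact hp.lift_fst _ _ _

end Groth.Agent.Ega43Prop
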