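import Groth.Agent.Ega43Prop.SuppOpen

/-!
# Quasi-flat morphisms locally of finite presentation are open (EGA IV 2.4.6)
-/

set_option autoImplicit false
set_option linter.style.haveILetI false
set_option backward.isDefEq.respectTransparency false
set_option backward.isDefEq.respectTransparency.types false

universe u

open AlgebraicGeometry CategoryTheory

namespace Groth.Agent.Ega43Prop

theorem isOpenMap_of_flat_support {X Y : Scheme.{u}} (f : X ⟶ Y) [LocallyOfFinitePresentation f] (F : X.Modules)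
    (hM : Coh.IsQCoh F) (hft : CohB1.IsFT F) (hflat : FlatMod.IsFlatOver f F)
    (hsupp : ∀ x : X, x ∈ CohB1.support F) : IsOpenMap f := by
  intro O hO
  rw [isOpen_iff_forall_mem_open]
  rintro _ ⟨x, hxO, rfl⟩
  obtain ⟨V, hV, hxV, -⟩ := exists_isAffineOpen_mem_and_subset (U := (⊤ : Y.Opens)) (x := f x) trivial
  obtain ⟨U, hU, hxU, hUO⟩ := exists_isAffineOpen_mem_and_subset (U := (⟨O, hO⟩ : X.Opens) ⊓ f ⁻¹ᵁ V)
    (x := x) ⟨hxO, hxV⟩
  have hUV : U ≤ f ⁻¹ᵁ V := fun z hz => (hUO hz).2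
  letI : Algebra Γ(Y, V) Γ(X, U) := (f.appLE V U hUV).hom.toAlgebra
  haveI : Algebra.FinitePresentation Γ(Y, V) Γ(X, U) := f.finitePresentation_appLE hV hU hUV
  letI : Module Γ(Y, V) Γ(F, U) := Module.compHom _ (f.appLE V U hUV).hom
  haveI : IsScalarTower Γ(Y, V) Γ(X, U) Γ(F, U) := IsScalarTower.of_algebraMap_smul fun _ _ => rfl
  haveI := QCoh.finite_of_isFT hM hft hU
  haveI : Module.Flat Γ(Y, V) Γ(F, U) := (QCoh.flat_appLE_iff f hM hU hV hUV).2 fun z _ => hflat z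
  have hmap : ∀ t, hV.fromSpec (PrimeSpectrum.comap (algebraMap Γ(Y, V) Γ(X, U)) t) = f (hU.fromSpec t) := fun t => by
    have h := hV.SpecMap_appLE_fromSpec f hU hUV
    exact congr(($h) t)
  have hall : ∀ t : PrimeSpectrum Γ(X, U), t ∈ Module.support Γ(X, U) Γ(F, U) := fun t => by
    obtain ⟨z, hz, rfl⟩ := QCoh.exists_point hU t
    exact (QCoh.mem_moduleSupport_iff hM hU hz).2 (hsupp z)
  have hopen : IsOpen (PrimeSpectrum.comap (algebraMap Γ(Y, V) Γ(X, U)) '' Set.univ) := by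
    refine PrimeSpectrum.isOpen_of_stableUnderGeneralization_of_isConstructible ?_
      (PrimeSpectrum.isConstructible_comap_image (RingHom.finitePresentation_algebraMap.2 inferInstance)
        Topology.IsConstructible.univ)
    rintro p p' hp ⟨q, -, rfl⟩
    obtain ⟨q', -, -, he⟩ := exists_support_le Γ(F, U) q (hall q) p' ((PrimeSpectrum.le_iff_specializes _ _).2 hp)
    exact ⟨q', trivial, he⟩
  refine ⟨hV.fromSpec '' (PrimeSpectrum.comap (algebraMap Γ(Y, V) Γ(X, U)) '' Set.univ), ?_,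
    hV.fromSpec.isOpenEmbedding.isOpenMap _ hopen, ?_⟩
  · rintro _ ⟨_, ⟨t, -, rfl⟩, rfl⟩
    exact ⟨hU.fromSpec t, (hUO ((Set.ext_iff.1 hU.range_fromSpec _).1 (Set.mem_range_self t))).1, (hmap t).symm⟩
  · exact ⟨_, ⟨hU.primeIdealOf ⟨x, hxU⟩, trivial, rfl⟩, (hmap _).trans (congrArg f (hU.fromSpec_primeIdealOf ⟨x, hxU⟩))⟩

end Groth.Agent.Ega43Prop
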