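import Groth.Agent.MorLib.QFSplit
import Groth.Agent.MorLib.GeomPts
import Groth.Agent.Triage.GeomCount
import Groth.Agent.UnivOpen.Criterion
import Mathlib.AlgebraicGeometry.Morphisms.FlatDescent

/-!
# The geometric number of points of the fibres of a quasi-finite morphism (EGA IV 15.5)
-/

set_option autoImplicit false
set_option linter.style.haveILetI false
set_option backward.isDefEq.respectTransparency false
set_option backward.isDefEq.respectTransparency.types false

universe u

open AlgebraicGeometry CategoryTheory Limits Topology Filter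
open Groth.Agent.MorLib.GF (pt pt_comp)
open Groth.Agent.MorLib.WT (Lifts IsPiece)

namespace Groth.Agent.Ega43Prop

variable {X Y : Scheme.{u}}

theorem isAlgClosed_residueField_spec {Ω : Type u} [Field Ω] [IsAlgClosed Ω] (c : ↥(Spec (CommRingCat.of Ω))) :
    IsAlgClosed ((Spec (CommRingCat.of Ω)).residueField c) := by
  have e := (Scheme.Spec.residueFieldIso (CommRingCat.of Ω) c).commRingCatIsoToRingEquiv
  haveI : IsAlgClosed (PrimeSpectrum.asIdeal (R := Ω) c).ResidueField := by
    have hc : PrimeSpectrum.asIdeal (R := Ω) c = ⊥ :=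
      (Ideal.eq_bot_or_top _).resolve_right (PrimeSpectrum.isPrime (R := Ω) c).ne_top
    let h : (Ω : Type u) →+* (PrimeSpectrum.asIdeal (R := Ω) c).ResidueField := algebraMap Ω _
    refine IsAlgClosed.of_ringEquiv Ω _ (RingEquiv.ofBijective h ⟨h.injective, ?_⟩)
    haveI : (PrimeSpectrum.asIdeal (R := Ω) c).IsMaximal := hc ▸ Ideal.bot_isMaximal
    exact Ideal.algebraMap_residueField_surjective _
  exact IsAlgClosed.of_ringEquiv _ _ e.symm

/-- The geometric number of points of a fibre is the number of lifts of a geometric point. -/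
theorem nGeom_eq_card_lifts {Ω : Type u} [Field Ω] [IsAlgClosed Ω] (f : X ⟶ Y) [LocallyQuasiFinite f]
    (sb : Spec (CommRingCat.of Ω) ⟶ Y) :
    MoreMor.nGeomConnComp f (pt sb) = ENat.card (Lifts f sb) := by
  let S := Spec (CommRingCat.of Ω)
  let c : ↥S := IsLocalRing.closedPoint Ω
  haveI : Subsingleton ↥S := inferInstanceAs (Subsingleton (PrimeSpectrum Ω))
  let p : pullback f sb ⟶ S := pullback.snd f sb
  haveI : LocallyQuasiFinite p := MorphismProperty.pullback_snd _ _ inferInstance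
  rw [show pt sb = sb c from rfl, ← (Triage.GeomCount.nGeom_baseChange f p _ sb (IsPullback.of_hasPullback f sb) c).2,
    MoreMor.nGeomConnComp]
  haveI := MorLib.GP.discreteTopology_geomFiber p c
  rw [MorLib.GP.card_connectedComponents_of_discrete]
  haveI := isAlgClosed_residueField_spec c
  let a := algebraMap (S.residueField c) (SeparableClosure (S.residueField c))
  have ha : Function.Bijective a := ⟨a.injective, fun x =>
    Triage.GeomCount.range_of_sepClosed _ _ x (Algebra.IsSeparable.isSeparable _ x)⟩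
  haveI : IsIso (CommRingCat.ofHom a) := by
    rw [ConcreteCategory.isIso_iff_bijective]
    exact ha
  let e1 : MoreMor.geomFiber p c ≅ p.fiber c :=
    asIso (pullback.fst (p.fiberToSpecResidueField c) (Spec.map (CommRingCat.ofHom a)))
  let e2 : ↥(p.fiber c) ≃ ↥(pullback f sb) := (p.fiberHomeo c).toEquiv.trans
    ((Equiv.setCongr (Set.eq_univ_of_forall fun t => show p t = c from Subsingleton.elim _ _)).trans (Equiv.Set.univ _))
  rw [ENat.card_congr ((Scheme.homeoOfIso e1).toEquiv.trans e2)]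
  refine ENat.card_congr (Equiv.ofBijective
    (fun δ : Lifts f sb => pt (pullback.lift δ.1 (𝟙 S) (δ.2.trans (Category.id_comp sb).symm))) ⟨?_, ?_⟩).symm
  · rintro ⟨δ, hδ⟩ ⟨δ', hδ'⟩ h
    let d := pullback.lift δ (𝟙 S) (hδ.trans (Category.id_comp sb).symm)
    let d' := pullback.lift δ' (𝟙 S) (hδ'.trans (Category.id_comp sb).symm)
    let t := pt d
    have ht : p t = pt (𝟙 S) := Subsingleton.elim _ _
    obtain ⟨hfin, hcard⟩ := MorLib.GF.lifts_at p (𝟙 S) t ht
    haveI := isAlgClosed_residueField_spec (p t)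
    letI := (p.residueFieldMap t).hom.toAlgebra
    haveI : Module.Finite (S.residueField (p t)) ((pullback f sb).residueField t) :=
      MorLib.GF.finite_residueFieldMap p t
    haveI : IsPurelyInseparable (S.residueField (p t)) ((pullback f sb).residueField t) :=
      ⟨Algebra.IsIntegral.of_finite _ _, fun x _ => (IsAlgClosed.algebraMap_bijective_of_isIntegral).2 x⟩
    rw [IsPurelyInseparable.finSepDegree_eq_one] at hcard
    obtain ⟨hsub, -⟩ := Nat.card_eq_one_iff_unique.1 hcard
    have hdd : d = d' := congrArg Subtype.val (Subsingleton.elim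
      (⟨d, pullback.lift_snd _ _ _, rfl⟩ : {δ : S ⟶ pullback f sb // δ ≫ p = 𝟙 S ∧ pt δ = t})
      ⟨d', pullback.lift_snd _ _ _, h.symm⟩)
    exact Subtype.ext ((pullback.lift_fst δ (𝟙 S) (hδ.trans (Category.id_comp sb).symm)).symm.trans
      ((congrArg (· ≫ pullback.fst f sb) hdd).trans (pullback.lift_fst δ' (𝟙 S) _)))
  · intro t
    obtain ⟨d, hd, hdt⟩ := MorLib.GF.exists_lift p (𝟙 S) t (Subsingleton.elim _ _)
    refine ⟨⟨d ≫ pullback.fst f sb, by rw [Category.assoc, pullback.condition, reassoc_of% hd, Category.id_comp]⟩, ?_⟩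
    rw [← hdt]
    refine congrArg pt (pullback.hom_ext (pullback.lift_fst _ _ _) ?_)
    rw [pullback.lift_snd]
    exact hd.symm

/-- The geometric number of points of a fibre is at least its number of points. -/
theorem card_preimage_le_nGeom (f : X ⟶ Y) [LocallyQuasiFinite f] (y : Y) :
    ENat.card ↥(f.base ⁻¹' {y}) ≤ MoreMor.nGeomConnComp f y := by
  obtain ⟨Ω, _, _, sb, rfl⟩ := MorLib.GF.exists_geomPoint y
  rw [nGeom_eq_card_lifts]
  have hs : ∀ t : ↥(f.base ⁻¹' {pt sb}), ∃ δ : Lifts f sb, pt δ.1 = t.1 := fun t =>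
    MorLib.WT.exists_lift_pt f sb t.1 t.2
  choose δ hδ using hs
  exact ENat.card_le_card_of_injective (f := δ) fun a b h => Subtype.ext (by rw [← hδ a, ← hδ b, h])

/-- A morphism whose source is covered by finitely many opens universally closed over the target is universally
closed. -/
theorem universallyClosed_of_pieces {T M : Scheme.{u}} (p : T ⟶ M) {ι : Type*} [Finite ι] (W : ι → T.Opens)
    (hW : ∀ i, UniversallyClosed ((W i).ι ≫ p)) (hcov : ∀ t, ∃ i, t ∈ W i) : UniversallyClosed p := by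
  refine ⟨MorphismProperty.universally_mk' _ _ fun {T'} g _ s hs => ?_⟩
  let j : ∀ i, pullback g ((W i).ι ≫ p) ⟶ pullback g p := fun i =>
    pullback.map _ _ _ _ (𝟙 _) (W i).ι (𝟙 _) (by simp) (by simp)
  have hs' : pullback.fst g p '' s = ⋃ i, pullback.fst g ((W i).ι ≫ p) '' (j i ⁻¹' s) := by
    ext z
    simp only [Set.mem_image, Set.mem_iUnion, Set.mem_preimage]
    refine ⟨?_, ?_⟩
    · rintro ⟨x, hx, rfl⟩
      obtain ⟨i, hi⟩ := hcov (pullback.snd g p x)
      obtain ⟨w, rfl⟩ : x ∈ Set.range (j i) := by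
        rw [Scheme.Pullback.range_map]
        simpa using hi
      refine ⟨i, w, hx, ?_⟩
      rw [← Scheme.Hom.comp_apply (j i), pullback.lift_fst, Category.comp_id]
    · rintro ⟨i, w, hw, rfl⟩
      refine ⟨j i w, hw, ?_⟩
      rw [← Scheme.Hom.comp_apply (j i), pullback.lift_fst, Category.comp_id]
  show IsClosed (pullback.fst g p '' s)
  rw [hs']
  refine isClosed_iUnion_of_finite fun i => ?_
  haveI := hW i
  exact (pullback.fst g ((W i).ι ≫ p)).isClosedMap _ (hs.preimage (j i).continuous)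

/-- A piece restricted over an open is finite. -/
theorem isFinite_piece {T V : Scheme.{u}} (π : T ⟶ V) (M : V.Opens) (W : T.Opens) (hW : IsFinite (W.ι ≫ π)) :
    IsFinite (((π ⁻¹ᵁ M).ι ⁻¹ᵁ W).ι ≫ (π ∣_ M)) :=
  MorphismProperty.of_isPullback
    ((isPullback_morphismRestrict (π ⁻¹ᵁ M).ι W).paste_vert (isPullback_morphismRestrict π M).flip) hW

/-- An étale splitting at a point of universal openness: `n(y)` disjoint finite pieces, all of them
surjecting onto a neighbourhood. -/
theorem exists_split_pieces (f : X ⟶ Y) [LocallyQuasiFinite f] [LocallyOfFiniteType f] [IsSeparated f]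
    [QuasiCompact f] (y : Y) (h : ∀ x : X, f.base x = y → EGA43.IsUnivOpenAt f x) :
    ∃ (T V : Scheme.{u}) (k : T ⟶ X) (π : T ⟶ V) (e : V ⟶ Y) (v : V) (N : V.Opens) (m : ℕ)
      (W : Fin m → T.Opens),
      IsPullback k π f e ∧ Etale e ∧ e v = y ∧ v ∈ N ∧ MoreMor.nGeomConnComp f y = (m : ℕ∞) ∧
        (∀ i, IsFinite ((W i).ι ≫ π)) ∧ (∀ i, ∀ v' ∈ N, ∃ t ∈ W i, π t = v') ∧
        (∀ i j, i ≠ j → ∀ t ∈ W i, π t ∈ N → t ∉ W j) := by
  obtain ⟨Ω, _, _, sb, rfl⟩ := MorLib.GF.exists_geomPoint y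
  haveI := MorLib.GF.finite_lifts f sb (f.finite_preimage_singleton _)
  have hn : MoreMor.nGeomConnComp f (pt sb) = (Nat.card (Lifts f sb) : ℕ∞) := by
    rw [nGeom_eq_card_lifts, ENat.card_eq_coe_natCard]
  let eι := (Finite.equivFin (Lifts f sb)).symm
  obtain ⟨T, V, k, π, e, vb, W, δ, hc, he, hvb, hp⟩ :=
    MorLib.WT.exists_decomp f sb (ι := ULift.{u} (Fin (Nat.card (Lifts f sb)))) fun a => eι a.down
  haveI : LocallyQuasiFinite π := MorphismProperty.of_isPullback hc inferInstance
  haveI : IsSeparated π := MorphismProperty.of_isPullback hc inferInstance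
  haveI : LocallyOfFiniteType π := MorphismProperty.of_isPullback hc inferInstance
  have hne : ∀ a b, a ≠ b → δ a ≠ δ b := fun a b hab hd =>
    hab (ULift.down_injective (eι.injective (Subtype.ext ((hp a).2.symm.trans
      ((congrArg (· ≫ k) hd).trans (hp b).2)))))
  have h1 : ∀ᶠ v' in 𝓝 (pt vb), ∀ a b, a ≠ b → ∀ t ∈ W a, π t = v' → t ∉ W b := by
    simp only [eventually_all]
    exact fun a b hab => (hp a).1.eventually_disjoint' (hp b).1 (hne a b hab)
  have h2 : ∀ᶠ v' in 𝓝 (pt vb), ∀ a, ∃ t ∈ W a, π t = v' := by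
    simp only [eventually_all]
    intro a
    have hπ : π (pt (δ a)) = pt vb := by rw [← pt_comp, (hp a).1.over]
    have hx : f.base (k (pt (δ a))) = pt sb := by
      show f _ = _
      rw [← Scheme.Hom.comp_apply, hc.w, Scheme.Hom.comp_apply, hπ, ← pt_comp, hvb]
    let i := hc.isoPullback
    have hi1 : pullback.fst f e (i.hom (pt (δ a))) = k (pt (δ a)) := by
      rw [← Scheme.Hom.comp_apply, hc.isoPullback_hom_fst]
    have hi2 : ∀ t, pullback.snd f e (i.hom t) = π t := fun t => by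
      rw [← Scheme.Hom.comp_apply, hc.isoPullback_hom_snd]
    have hopen := h _ hx V e (i.hom (pt (δ a))) hi1 (i.hom '' (W a : Set T))
      (((Scheme.homeoOfIso i).isOpenMap _ (W a).2).mem_nhds ⟨_, (hp a).1.mem, rfl⟩)
    rw [show (pullback.snd f e).base (i.hom (pt (δ a))) = pt vb from (hi2 _).trans hπ] at hopen
    filter_upwards [hopen] with v' hv'
    obtain ⟨_, ⟨t, ht, rfl⟩, htv⟩ := hv'
    exact ⟨t, ht, (hi2 t).symm.trans htv⟩
  obtain ⟨N, hN, hNo, hvN⟩ := mem_nhds_iff.1 (h1.and h2)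
  exact ⟨T, V, k, π, e, pt vb, ⟨N, hNo⟩, _, fun a => W ⟨a⟩, hc, he, by rw [← pt_comp, hvb], hvN, hn,
    fun a => (hp ⟨a⟩).1.finite, fun a v' hv' => (hN hv').2 ⟨a⟩,
    fun a b hab t ht htN => (hN htN).1 ⟨a⟩ ⟨b⟩ (fun h => hab (congrArg ULift.down h)) t ht rfl⟩

/-- Lower semicontinuity of the geometric number of points. -/
theorem eventually_le_nGeom (f : X ⟶ Y) [LocallyQuasiFinite f] [LocallyOfFiniteType f] [IsSeparated f]
    [QuasiCompact f] (y : Y) (h : ∀ x : X, f.base x = y → EGA43.IsUnivOpenAt f x) :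
    ∀ᶠ z in 𝓝 y, MoreMor.nGeomConnComp f y ≤ MoreMor.nGeomConnComp f z := by
  obtain ⟨T, V, k, π, e, v, N, m, W, hc, he, rfl, hvN, hn, hfin, hsurj, hdisj⟩ := exists_split_pieces f y h
  haveI : LocallyQuasiFinite π := MorphismProperty.of_isPullback hc inferInstance
  refine Filter.mem_of_superset ((e.isOpenMap _ N.2).mem_nhds ⟨v, hvN, rfl⟩) ?_
  rintro _ ⟨v', hv', rfl⟩
  refine le_trans ?_ ((card_preimage_le_nGeom π v').trans (Triage.GeomCount.nGeom_baseChange f π k e hc v').2.le)
  rw [hn, show (m : ℕ∞) = ENat.card (Fin m) from by simp]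
  choose t ht htv using fun i => hsurj i v' hv'
  refine ENat.card_le_card_of_injective (f := fun i => (⟨t i, htv i⟩ : ↥(π.base ⁻¹' {v'}))) fun a b hab => ?_
  have hh : t a = t b := congrArg Subtype.val hab
  by_contra hne
  exact hdisj a b hne (t a) (ht a) (htv a ▸ hv') (hh ▸ ht b)

/-- Where the geometric number of points is constant, the morphism is proper. -/
theorem exists_isProper_of_const (f : X ⟶ Y) [LocallyQuasiFinite f] [LocallyOfFiniteType f] [IsSeparated f]
    [QuasiCompact f] (y : Y) (h : ∀ x : X, f.base x = y → EGA43.IsUnivOpenAt f x)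
    (hc' : ∀ᶠ z in 𝓝 y, MoreMor.nGeomConnComp f z = MoreMor.nGeomConnComp f y) :
    ∃ U : Y.Opens, y ∈ U ∧ IsProper (f ∣_ U) := by
  obtain ⟨T, V, k, π, e, v, N, m, W, hc, he, rfl, hvN, hn, hfin, hsurj, hdisj⟩ := exists_split_pieces f y h
  haveI : LocallyQuasiFinite π := MorphismProperty.of_isPullback hc inferInstance
  obtain ⟨C, hC, hCo, hyC⟩ := mem_nhds_iff.1 hc'
  obtain ⟨U₀, hU₀, hyU₀, hU₀C⟩ := exists_isAffineOpen_mem_and_subset (U := (⟨C, hCo⟩ : Y.Opens)) (x := e v) hyC
  obtain ⟨M, hM, hvM, hMN⟩ := exists_isAffineOpen_mem_and_subset (U := N ⊓ e ⁻¹ᵁ U₀) (x := v) ⟨hvN, hyU₀⟩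
  let U : Y.Opens := ⟨e '' (M : Set V), e.isOpenMap _ M.2⟩
  have hMU : M ≤ e ⁻¹ᵁ U := fun z hz => ⟨z, hz, rfl⟩
  have hUU₀ : U ≤ U₀ := by rintro _ ⟨z, hz, rfl⟩; exact (hMN hz).2
  refine ⟨U, ⟨v, hvM, rfl⟩, ?_⟩
  -- the pieces exhaust the preimage of `M`
  have hcover : ∀ t : T, π t ∈ M → ∃ i, t ∈ W i := by
    intro t ht
    by_contra hcon
    push Not at hcon
    have hle : ((m + 1 : ℕ) : ℕ∞) ≤ m := by
      refine le_trans ?_ ((card_preimage_le_nGeom π (π t)).trans (le_of_eq
        (((Triage.GeomCount.nGeom_baseChange f π k e hc (π t)).2.trans (hC (hU₀C (hMN ht).2))).trans hn)))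
      rw [show ((m + 1 : ℕ) : ℕ∞) = ENat.card (Option (Fin m)) from by simp]
      choose s hs hsv using fun i => hsurj i (π t) (hMN ht).1
      refine ENat.card_le_card_of_injective (f := fun o : Option (Fin m) =>
        o.elim (⟨t, rfl⟩ : ↥(π.base ⁻¹' {π t})) fun i => ⟨s i, hsv i⟩) ?_
      rintro (_ | a) (_ | b) hab
      · rfl
      · have hh : t = s b := congrArg Subtype.val hab
        exact absurd (hh ▸ hs b) (hcon b)
      · have hh : s a = t := congrArg Subtype.val hab
        exact absurd (hh ▸ hs a) (hcon a)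
      · have hh : s a = s b := congrArg Subtype.val hab
        by_contra hne
        exact hdisj a b (fun h => hne (congrArg some h)) (s a) (hs a)
          (hsv a ▸ (hMN ht).1) (hh ▸ hs b)
    exact absurd (Nat.cast_le.1 hle) (by omega)
  -- properness over `M`
  let g : (M : Scheme.{u}) ⟶ U := e.resLE U M hMU
  let πM : (π ⁻¹ᵁ M : Scheme.{u}) ⟶ M := π ∣_ M
  haveI : UniversallyClosed πM := by
    refine universallyClosed_of_pieces πM (fun i => (π ⁻¹ᵁ M).ι ⁻¹ᵁ W i) (fun i => ?_) fun t => hcover t.1 t.2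
    haveI := isFinite_piece π M (W i) (hfin i)
    infer_instance
  have hsq : IsPullback (k.resLE (f ⁻¹ᵁ U) (π ⁻¹ᵁ M) (fun t ht => show f (k t) ∈ U from by
      rw [← Scheme.Hom.comp_apply, hc.w]; exact hMU ht)) πM (f ∣_ U) g := by
    refine IsPullback.of_right ?_ ?_ (isPullback_morphismRestrict f U).flip
    · rw [Scheme.Hom.resLE_comp_ι]
      have := (isPullback_morphismRestrict π M).flip.paste_horiz hc
      rw [Scheme.Hom.resLE_comp_ι]
      exact this
    · rw [← cancel_mono U.ι]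
      simp only [Category.assoc, morphismRestrict_ι, Scheme.Hom.resLE_comp_ι_assoc, Scheme.Hom.resLE_comp_ι, g]
      rw [hc.w]
      exact (morphismRestrict_ι_assoc π M e).symm
  haveI : Surjective g := ⟨fun ⟨u, z, hz, hzu⟩ => ⟨⟨z, hz⟩, Subtype.ext ((by rw [← Scheme.Hom.comp_apply, Scheme.Hom.resLE_comp_ι]; rfl : (U.ι (g ⟨z, hz⟩)) = e z).trans hzu)⟩⟩
  haveI : IsAffine (M : Scheme.{u}) := hM
  haveI : (U : Scheme.{u}).IsSeparated := by
    haveI : IsAffine (U₀ : Scheme.{u}) := hU₀
    exact ⟨by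
      rw [← terminal.comp_from (Y.homOfLE hUU₀)]
      infer_instance⟩
  have hg : (@Surjective ⊓ @Flat ⊓ @QuasiCompact : MorphismProperty Scheme.{u}) g :=
    ⟨⟨inferInstance, inferInstance⟩, inferInstance⟩
  haveI : UniversallyClosed (f ∣_ U) :=
    MorphismProperty.of_isPullback_of_descendsAlong (Q := (@Surjective ⊓ @Flat ⊓ @QuasiCompact : MorphismProperty Scheme.{u}))
      hsq.flip hg inferInstance
  exact {}

end Groth.Agent.Ega43Prop
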