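import Groth.Agent.Ega43Prop.QFCount
import Groth.Agent.UnivOpen.Chevalley
import Groth.Agent.UnibEtale.Chart
import Groth.Agent.UnibEtale.Comp
import Groth.Agent.FibDim.Open

/-!
# Constant geometric number of points and irreducible components (EGA IV 15.5.1)
-/

set_option autoImplicit false
set_option linter.style.haveILetI false
set_option backward.isDefEq.respectTransparency false
set_option backward.isDefEq.respectTransparency.types false

universe u

open AlgebraicGeometry CategoryTheory Limits Topology Filter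

namespace Groth.Agent.Ega43Prop

variable {X Y : Scheme.{u}}

/-- When the pieces already account for all geometric points of a fibre, each contains at most one point of it. -/
theorem eq_of_pieces {T V : Scheme.{u}} (π : T ⟶ V) [LocallyQuasiFinite π] {m : ℕ} (W : Fin m → T.Opens) (v' : V)
    (hn : MoreMor.nGeomConnComp π v' ≤ (m : ℕ∞)) (hsurj : ∀ i, ∃ t ∈ W i, π t = v')
    (hdisj : ∀ i j, i ≠ j → ∀ t ∈ W i, π t = v' → t ∉ W j) (i : Fin m) (t t' : T) (ht : t ∈ W i) (ht' : t' ∈ W i)
    (hv : π t = v') (hv' : π t' = v') : t = t' := by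
  by_contra hne
  have hle : ((m + 1 : ℕ) : ℕ∞) ≤ m := by
    refine le_trans ?_ ((card_preimage_le_nGeom π v').trans hn)
    rw [show ((m + 1 : ℕ) : ℕ∞) = ENat.card (Option (Fin m)) from by simp]
    choose s hs hsv using hsurj
    classical
    let s' : Fin m → T := fun j => if j = i then t else s j
    have hs' : ∀ j, s' j ∈ W j ∧ π (s' j) = v' := fun j => by
      by_cases h : j = i
      · subst h; simp [s', ht, hv]
      · simp [s', h, hs, hsv]
    have hne' : ∀ j, s' j ≠ t' := fun j hj => by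
      by_cases h : j = i
      · exact hne (by rw [← hj]; simp [s', h])
      · exact hdisj j i h _ (hs' j).1 (hs' j).2 (hj ▸ ht')
    refine ENat.card_le_card_of_injective (f := fun o : Option (Fin m) =>
      o.elim (⟨t', hv'⟩ : ↥(π.base ⁻¹' {v'})) fun j => ⟨s' j, (hs' j).2⟩) ?_
    rintro (_ | a) (_ | b) hab
    · rfl
    · exact absurd (congrArg Subtype.val hab).symm (hne' b)
    · exact absurd (congrArg Subtype.val hab) (hne' a)
    · have hh : s' a = s' b := congrArg Subtype.val hab
      by_contra h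
      exact hdisj a b (fun h' => h (congrArg some h')) _ (hs' a).1 (hs' a).2 (hh ▸ (hs' b).1)
  exact absurd (Nat.cast_le.1 hle) (by omega)

theorem disjoint_components_of_const [IsLocallyNoetherian Y] (hY : ∀ y : Y, CAlg2.IsGeomUnibranch (Y.presheaf.stalk y))
    (f : X ⟶ Y) [IsSeparated f] [LocallyQuasiFinite f] [LocallyOfFiniteType f] [QuasiCompact f] [UniversallyOpen f]
    (hn : IsLocallyConstant (fun z : Y => MoreMor.nGeomConnComp f z))
    (Z : Set X) (hZ : Z ∈ irreducibleComponents (X : Type u)) (Z' : Set X) (hZ' : Z' ∈ irreducibleComponents (X : Type u))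
    (x : X) (hx : x ∈ Z) (hx' : x ∈ Z') : Z = Z' := by
  have hopen : ∀ z : X, EGA43.IsUnivOpenAt f z := (UnivOpen.universallyOpen_iff_forall f).1 inferInstance
  obtain ⟨T, V, k, π, e, v, N, m, W, hc, he, hev, hvN, hm, hfin, hsurj, hdisj⟩ :=
    exists_split_pieces f (f x) fun z _ => hopen z
  haveI : LocallyQuasiFinite π := MorphismProperty.of_isPullback hc inferInstance
  haveI : Etale k := MorphismProperty.of_isPullback hc.flip he
  haveI : LocallyQuasiFinite e := UnibEtale.locallyQuasiFinite_of_formallyUnramified e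
  obtain ⟨t, htk, htv⟩ : ∃ t : T, k t = x ∧ π t = v := by
    obtain ⟨p, hp1, hp2⟩ := Scheme.Pullback.exists_preimage_pullback (f := f) (g := e) x v hev.symm
    exact ⟨hc.isoPullback.inv p, by rw [← Scheme.Hom.comp_apply, hc.isoPullback_inv_fst, hp1],
      by rw [← Scheme.Hom.comp_apply, hc.isoPullback_inv_snd, hp2]⟩
  have hC : IsOpen {z : Y | MoreMor.nGeomConnComp f z = MoreMor.nGeomConnComp f (f x)} :=
    hn {MoreMor.nGeomConnComp f (f x)}
  have hbound : ∀ v', e v' ∈ {z : Y | MoreMor.nGeomConnComp f z = MoreMor.nGeomConnComp f (f x)} →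
      MoreMor.nGeomConnComp π v' ≤ (m : ℕ∞) := fun v' hv' =>
    ((Triage.GeomCount.nGeom_baseChange f π k e hc v').2.trans (hv'.trans hm)).le
  have hvC : v ∈ e ⁻¹' {z : Y | MoreMor.nGeomConnComp f z = MoreMor.nGeomConnComp f (f x)} :=
    congrArg (MoreMor.nGeomConnComp f) hev
  obtain ⟨i, hi⟩ : ∃ i, t ∈ W i := by
    by_contra hcon
    push Not at hcon
    choose s hs hsv using fun i => hsurj i v hvN
    have hle : ((m + 1 : ℕ) : ℕ∞) ≤ m := by
      refine le_trans ?_ ((card_preimage_le_nGeom π v).trans (hbound v hvC))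
      rw [show ((m + 1 : ℕ) : ℕ∞) = ENat.card (Option (Fin m)) from by simp]
      refine ENat.card_le_card_of_injective (f := fun o : Option (Fin m) =>
        o.elim (⟨t, htv⟩ : ↥(π.base ⁻¹' {v})) fun j => ⟨s j, hsv j⟩) ?_
      rintro (_ | a) (_ | b) hab
      · rfl
      · have hh : t = s b := congrArg Subtype.val hab
        exact absurd (hh ▸ hs b) (hcon b)
      · have hh : s a = t := congrArg Subtype.val hab
        exact absurd (hh ▸ hs a) (hcon a)
      · have hh : s a = s b := congrArg Subtype.val hab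
        by_contra h
        exact hdisj a b (fun h' => h (congrArg some h')) _ (hs a) (hsv a ▸ hvN) (hh ▸ hs b)
    exact absurd (Nat.cast_le.1 hle) (by omega)
  -- maximal points above
  have hmax : ∀ (Z₀ : Set X), Z₀ ∈ irreducibleComponents (X : Type u) → x ∈ Z₀ →
      ∃ η : T, η ⤳ t ∧ closure {k η} = Z₀ ∧ (∀ c : Y, c ⤳ f (k η) → c = f (k η)) ∧
        (∀ c : V, c ⤳ π η → c = π η) := by
    intro Z₀ hZ₀ hxZ₀
    have hg := hZ₀.1.isGenericPoint_genericPoint (isClosed_of_mem_irreducibleComponents _ hZ₀)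
    obtain ⟨η, hη, hkη⟩ := Flat.generalizingMap k (show hZ₀.1.genericPoint ⤳ k t from htk.symm ▸ hg.specializes hxZ₀)
    have h1 : ∀ c : Y, c ⤳ f (k η) → c = f (k η) := fun c hc' => by
      rw [hkη] at hc' ⊢
      obtain ⟨ζ, hζ, rfl⟩ := FibDim.exists_generization_of_isOpenAt f
        (UnivOpen.isOpenAt_of_isUnivOpenAt (hopen hZ₀.1.genericPoint)) hc'
      refine congrArg f ?_
      have hsub : Z₀ ⊆ closure {ζ} := hg.def ▸ specializes_iff_closure_subset.1 hζ
      exact IsGenericPoint.eq ((hZ₀.2 isIrreducible_singleton.closure hsub).antisymm hsub :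
        closure {ζ} = Z₀) hg
    refine ⟨η, hη, by rw [hkη]; exact hg.def, h1, fun c hc' => ?_⟩
    have hec : e c = e (π η) := by
      refine (h1 (e c) ?_).trans ?_
      · rw [← Scheme.Hom.comp_apply, hc.w, Scheme.Hom.comp_apply]
        exact hc'.map e.continuous
      · rw [← Scheme.Hom.comp_apply, hc.w, Scheme.Hom.comp_apply]
    have hd := e.isDiscrete_preimage_singleton (e (π η))
    haveI : DiscreteTopology ↥(e ⁻¹' {e (π η)}) := hd.to_subtype
    exact congrArg Subtype.val (((Topology.IsInducing.subtypeVal.specializes_iff).1 hc' :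
      (⟨c, hec⟩ : ↥(e ⁻¹' {e (π η)})) ⤳ ⟨π η, rfl⟩).eq)
  obtain ⟨η, hη, hηZ, hη1, hη2⟩ := hmax Z hZ hx
  obtain ⟨η', hη', hηZ', hη1', hη2'⟩ := hmax Z' hZ' hx'
  haveI : Etale ((⊤ : V.Opens).ι ≫ e) := inferInstance
  have hv : CAlg2.IsUnibranch (V.presheaf.stalk v) :=
    (UnibEtale.stalk_of_etale e v ⊤ trivial (hY _)).1.1
  have hπ : π η = π η' := UnivOpen.maximal_unique hv (htv ▸ hη.map π.continuous) hη2
    (htv ▸ hη'.map π.continuous) hη2'
  let O : V.Opens := N ⊓ e ⁻¹ᵁ ⟨_, hC⟩
  have hO : π η ∈ O := (hη.map π.continuous).mem_open O.2 (show π t ∈ O from htv.symm ▸ ⟨hvN, hvC⟩)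
  have hηη' : η = η' := eq_of_pieces π W (π η) (hbound _ hO.2) (fun j => hsurj j _ hO.1)
    (fun a b hab s hs hsv => hdisj a b hab s hs (hsv.symm ▸ hO.1)) i η η'
    (hη.mem_open (W i).2 hi) (hη'.mem_open (W i).2 hi) rfl hπ.symm
  rw [← hηZ, ← hηZ', hηη']

end Groth.Agent.Ega43Prop
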