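import Groth.Agent.Ega43Prop.RectInv
import Groth.Agent.Codepth5.Sk
import Groth.Agent.FlatStrat.Alg
import Mathlib.RingTheory.Spectrum.Prime.Chevalley
import Mathlib.Topology.NoetherianSpace

/-!
# Constructibility of the level sets of the rectified depth of the fibres (EGA IV 9.9.x)
-/

set_option autoImplicit false
set_option linter.style.haveILetI false

universe u

open IsLocalRing TensorProduct MvPolynomial Topology

attribute [local instance] MvPolynomial.algebraMvPolynomial

namespace Groth.Agent.Ega43Prop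

variable {R : Type u} [CommRing R] {N : ℕ}

theorem isConstructible_of_isOpen {α : Type u} [TopologicalSpace α] [TopologicalSpace.NoetherianSpace α]
    {s : Set α} (hs : IsOpen s) : IsConstructible s :=
  (show IsRetrocompact s from fun _U _ _ => TopologicalSpace.NoetherianSpace.isCompact _).isConstructible hs

/-- The open piece `V(p) ∩ D(f)` of the base. -/
abbrev PieceRing (p : Ideal R) (f : R) : Type u := Localization.Away (Ideal.Quotient.mk p f)

/-- The module `B' ⊗_B M` over `A` is the base change of `M`. -/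
theorem flat_pushout_baseChange {A B B' : Type u} [CommRing A] [CommRing B] [CommRing B'] [Algebra R A] [Algebra R B]
    [Algebra R B'] [Algebra B B'] [Algebra A B'] [IsScalarTower R B B'] [IsScalarTower R A B']
    [Algebra.IsPushout R A B B'] (M : Type u) [AddCommGroup M] [Module B M] [Module R M] [IsScalarTower R B M]
    [Module.Flat A (A ⊗[R] M)] : Module.Flat A (B' ⊗[B] M) :=
  Module.Flat.of_linearEquiv (Algebra.IsPushout.cancelBaseChange R A B B' M)

theorem rectGE_congr {A B : Type u} [CommRing A] [CommRing B] [Algebra A B] {M M' : Type u} [AddCommGroup M]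
    [Module B M] [AddCommGroup M'] [Module B M'] (e : M ≃ₗ[B] M') (n : ℕ)
    (q : PrimeSpectrum B) : Codepth5.RectGE A M n q ↔ Codepth5.RectGE A M' n q := by
  haveI := FlatLoc6.isLocalRing_fibLocRing (A := A) q.asIdeal
  let e' : EGA4.FibLocRing A B q.asIdeal ⊗[B] M ≃ₗ[EGA4.FibLocRing A B q.asIdeal]
      EGA4.FibLocRing A B q.asIdeal ⊗[B] M' := TensorProduct.AlgebraTensorModule.congr (LinearEquiv.refl _ _) e
  rw [Codepth5.RectGE, Codepth5.RectGE, Codepth5.dd_fibLocRing, Codepth5.dd_fibLocRing,
    Codepth5.dd_congr (RingHom.id _) Function.surjective_id e'.toAddEquiv (fun r x => map_smul e' r x)]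

theorem isConstructible_rectGE_piece [IsNoetherianRing R] {A : Type u} [CommRing A] [Algebra R A]
    [Algebra.FiniteType R A] (M : Type u) [AddCommGroup M] [Module (MvPolynomial (Fin N) R) M] [Module R M]
    [IsScalarTower R (MvPolynomial (Fin N) R) M] [Module.Finite (MvPolynomial (Fin N) R) M]
    (hflat : Module.Flat A (A ⊗[R] M)) (n : ℕ) :
    IsConstructible (PrimeSpectrum.comap (algebraMap (MvPolynomial (Fin N) R) (MvPolynomial (Fin N) A)) ''
      {q | Codepth5.RectGE A (MvPolynomial (Fin N) A ⊗[MvPolynomial (Fin N) R] M) n q}) := by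
  haveI : IsNoetherianRing A := Algebra.FiniteType.isNoetherianRing R A
  let M' := MvPolynomial (Fin N) A ⊗[MvPolynomial (Fin N) R] M
  haveI : Module.Finite (MvPolynomial (Fin N) A) M' := Module.Finite.base_change _ _ M
  haveI : Module.FinitePresentation (MvPolynomial (Fin N) A) M' := Module.finitePresentation_of_finite _ _
  haveI : Module.Flat A M' :=
    flat_pushout_baseChange (R := R) (B := MvPolynomial (Fin N) R) (B' := MvPolynomial (Fin N) A) M
  refine PrimeSpectrum.isConstructible_comap_image ?_ (isConstructible_of_isOpen (Codepth5.isOpen_rectGE M' n))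
  refine RingHom.FinitePresentation.of_finiteType.1 ?_
  refine RingHom.finiteType_algebraMap.2 ?_
  haveI : Algebra.FiniteType A (MvPolynomial (Fin N) A) := inferInstance
  haveI : Algebra.FiniteType R (MvPolynomial (Fin N) A) := Algebra.FiniteType.trans ‹_› ‹_›
  exact Algebra.FiniteType.of_restrictScalars_finiteType R (MvPolynomial (Fin N) R) (MvPolynomial (Fin N) A)

/-- Constructibility over a Noetherian ring. -/
theorem isConstructible_rectGE_noetherian [IsNoetherianRing R] (M : Type u) [AddCommGroup M]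
    [Module (MvPolynomial (Fin N) R) M] [Module.Finite (MvPolynomial (Fin N) R) M] (n : ℕ) :
    IsConstructible {q : PrimeSpectrum (MvPolynomial (Fin N) R) | Codepth5.RectGE R M n q} := by
  classical
  letI : Module R M := Module.compHom M (algebraMap R (MvPolynomial (Fin N) R))
  haveI : IsScalarTower R (MvPolynomial (Fin N) R) M := IsScalarTower.of_algebraMap_smul fun _ _ => rfl
  haveI : Module.FinitePresentation (MvPolynomial (Fin N) R) M := Module.finitePresentation_of_finite _ _
  obtain ⟨L, hL, hcov⟩ := FlatStrat.exists_triv_cover (R := R) (S := MvPolynomial (Fin N) R) M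
  have hset : {q : PrimeSpectrum (MvPolynomial (Fin N) R) | Codepth5.RectGE R M n q} =
      ⋃ x ∈ L, PrimeSpectrum.comap (algebraMap (MvPolynomial (Fin N) R) (MvPolynomial (Fin N) (PieceRing x.1 x.2))) ''
        {q | Codepth5.RectGE (PieceRing x.1 x.2) (MvPolynomial (Fin N) (PieceRing x.1 x.2) ⊗[MvPolynomial (Fin N) R] M) n q} := by
    ext q
    simp only [Set.mem_ofPred_eq, Set.mem_iUnion, Set.mem_image]
    refine ⟨fun h => ?_, ?_⟩
    · obtain ⟨⟨p, f⟩, hx, hp, hf⟩ := hcov (q.asIdeal.comap (algebraMap R (MvPolynomial (Fin N) R))) inferInstance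
      let p' := q.asIdeal.comap (algebraMap R (MvPolynomial (Fin N) R))
      let K := p'.ResidueField
      obtain ⟨P, hP⟩ := FlatLoc6.exists_fiber_prime p' q.asIdeal rfl
      let Q : PrimeSpectrum (MvPolynomial (Fin N) K) :=
        PrimeSpectrum.comap (R := MvPolynomial (Fin N) K)
          ((MvPolynomial.algebraTensorAlgEquiv (σ := Fin N) R K).symm).toRingEquiv.toRingHom P
      have hQ : PrimeSpectrum.comap (algebraMap (MvPolynomial (Fin N) R) (MvPolynomial (Fin N) K)) Q = q := by
        refine PrimeSpectrum.ext (Eq.trans ?_ hP)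
        show Ideal.comap _ (Ideal.comap _ P.asIdeal) = _
        rw [Ideal.comap_comap]
        refine congrArg (fun h => Ideal.comap h P.asIdeal) (RingHom.ext fun x => ?_)
        show (MvPolynomial.algebraTensorAlgEquiv R K).symm (MvPolynomial.map (algebraMap R K) x) = (1 : K) ⊗ₜ x
        refine (AlgEquiv.symm_apply_eq _).2 ?_
        simp [MvPolynomial.algebraTensorAlgEquiv_tmul]
      let φ : R ⧸ p →+* K := Ideal.Quotient.lift p (algebraMap R K) fun a ha =>
        Ideal.algebraMap_residueField_eq_zero.2 (hp ha)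
      have hfu : IsUnit (φ (Ideal.Quotient.mk p f)) := isUnit_iff_ne_zero.2 fun h0 =>
        hf (Ideal.algebraMap_residueField_eq_zero.1 h0)
      letI : Algebra (PieceRing p f) K := (IsLocalization.Away.lift (Ideal.Quotient.mk p f) hfu).toAlgebra
      haveI : IsScalarTower R (PieceRing p f) K := IsScalarTower.of_algebraMap_eq fun r => by
        show algebraMap R K r = IsLocalization.Away.lift (Ideal.Quotient.mk p f) hfu
          (algebraMap (R ⧸ p) (PieceRing p f) (Ideal.Quotient.mk p r))
        rw [IsLocalization.Away.lift_eq]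
        rfl
      let q' := PrimeSpectrum.comap (algebraMap (MvPolynomial (Fin N) (PieceRing p f)) (MvPolynomial (Fin N) K)) Q
      have hq' : PrimeSpectrum.comap (algebraMap (MvPolynomial (Fin N) R) (MvPolynomial (Fin N) (PieceRing p f))) q' = q := by
        rw [← PrimeSpectrum.comap_comp_apply,
          show (algebraMap (MvPolynomial (Fin N) (PieceRing p f)) (MvPolynomial (Fin N) K)).comp
            (algebraMap (MvPolynomial (Fin N) R) (MvPolynomial (Fin N) (PieceRing p f))) =
            algebraMap (MvPolynomial (Fin N) R) (MvPolynomial (Fin N) K) from RingHom.ext fun x => by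
              simp only [RingHom.comp_apply, MvPolynomial.algebraMap_def, MvPolynomial.map_map,
                ← IsScalarTower.algebraMap_eq], hQ]
      exact ⟨(p, f), hx, q', (rectGE_baseChange M n q').2 (hq'.symm ▸ h), hq'⟩
    · rintro ⟨x, hx, q', hq', rfl⟩
      exact (rectGE_baseChange M n q').1 hq'
  rw [hset]
  refine IsConstructible.biUnion L.finite_toSet fun x hx => ?_
  haveI : Algebra.FiniteType R (PieceRing x.1 x.2) :=
    Algebra.FiniteType.trans (S := R ⧸ x.1) inferInstance inferInstance
  refine isConstructible_rectGE_piece M ((hL x hx).2 (PieceRing x.1 x.2) (fun r hr => ?_) ?_) n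
  · rw [IsScalarTower.algebraMap_apply R (R ⧸ x.1) (PieceRing x.1 x.2), Ideal.Quotient.algebraMap_eq,
      Ideal.Quotient.eq_zero_iff_mem.2 hr, map_zero]
  · rw [IsScalarTower.algebraMap_apply R (R ⧸ x.1) (PieceRing x.1 x.2), Ideal.Quotient.algebraMap_eq]
    exact IsLocalization.Away.algebraMap_isUnit _

/-- A finitely presented module over a polynomial ring comes from a Noetherian subring. -/
theorem exists_descent (M : Type u) [AddCommGroup M] [Module (MvPolynomial (Fin N) R) M]
    [Module.FinitePresentation (MvPolynomial (Fin N) R) M] :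
    ∃ (R₀ : Subalgebra ℤ R) (_ : IsNoetherianRing R₀) (M₀ : Type u) (_ : AddCommGroup M₀)
      (_ : Module (MvPolynomial (Fin N) R₀) M₀) (_ : Module.Finite (MvPolynomial (Fin N) R₀) M₀),
      Nonempty (MvPolynomial (Fin N) R ⊗[MvPolynomial (Fin N) R₀] M₀ ≃ₗ[MvPolynomial (Fin N) R] M) := by
  classical
  obtain ⟨a, π, hπ⟩ := Module.Finite.exists_fin' (MvPolynomial (Fin N) R) M
  obtain ⟨G, hG⟩ := Module.FinitePresentation.fg_ker π hπ
  let c : Finset R := G.biUnion fun v => Finset.univ.biUnion fun i => (v i).coeffs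
  let R₀ : Subalgebra ℤ R := Algebra.adjoin ℤ (c : Set R)
  haveI : Algebra.FiniteType ℤ R₀ := (Subalgebra.fg_iff_finiteType R₀).1 (Subalgebra.fg_adjoin_finset c)
  haveI : IsNoetherianRing R₀ := Algebra.FiniteType.isNoetherianRing ℤ R₀
  let B₀ := MvPolynomial (Fin N) R₀
  let B := MvPolynomial (Fin N) R
  let ι : (Fin a → B₀) →ₗ[B₀] (Fin a → B) := LinearMap.compLeft (Algebra.linearMap B₀ B) (Fin a)
  have hGdesc : ∀ v ∈ G, ∃ w : Fin a → B₀, ι w = v := by
    intro v hv
    have : ∀ i, ∃ q : B₀, MvPolynomial.map (algebraMap R₀ R) q = v i := fun i =>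
      MvPolynomial.mem_range_map_iff_coeffs_subset.2 fun x hx =>
        ⟨⟨x, Algebra.subset_adjoin (Finset.mem_biUnion.2 ⟨v, hv, Finset.mem_biUnion.2 ⟨i, Finset.mem_univ _, hx⟩⟩)⟩, rfl⟩
    choose w hw using this
    exact ⟨w, funext hw⟩
  choose! lv hlv using hGdesc
  let K₀ : Submodule B₀ (Fin a → B₀) := Submodule.span B₀ (lv '' (G : Set (Fin a → B)))
  letI : Module B₀ M := Module.compHom M (algebraMap B₀ B)
  haveI : IsScalarTower B₀ B M := IsScalarTower.of_algebraMap_smul fun _ _ => rfl
  let ψ : ((Fin a → B₀) ⧸ K₀) →ₗ[B₀] M :=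
    K₀.liftQ ((π.restrictScalars B₀).comp ι) (by
      rw [Submodule.span_le]
      rintro _ ⟨v, hv, rfl⟩
      show π (ι (lv v)) = 0
      rw [hlv v hv]
      exact LinearMap.mem_ker.1 (hG.le (Submodule.subset_span hv)))
  let σ : (Fin a → B) →ₗ[B] B ⊗[B₀] ((Fin a → B₀) ⧸ K₀) :=
    (Pi.basisFun B (Fin a)).constr B fun i => (1 : B) ⊗ₜ[B₀] K₀.mkQ (Pi.single i 1)
  have hσ : ∀ w : Fin a → B₀, σ (ι w) = (1 : B) ⊗ₜ[B₀] K₀.mkQ w := by
    intro w
    refine LinearMap.congr_fun (f := (σ.restrictScalars B₀).comp ι)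
      (g := (TensorProduct.mk B₀ B _ 1).comp K₀.mkQ) ?_ w
    refine (Pi.basisFun B₀ (Fin a)).ext fun i => ?_
    simp only [Pi.basisFun_apply, LinearMap.comp_apply, LinearMap.restrictScalars_apply, TensorProduct.mk_apply]
    rw [show ι (Pi.single i 1) = Pi.single i (1 : B) from funext fun j => by
        rcases eq_or_ne j i with rfl | hji
        · simp [ι]
        · simp [ι, Pi.single_eq_of_ne hji],
      ← Pi.basisFun_apply, Module.Basis.constr_basis]
  let θ : M →ₗ[B] B ⊗[B₀] ((Fin a → B₀) ⧸ K₀) :=
    ((LinearMap.ker π).liftQ σ (by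
      rw [← hG, Submodule.span_le]
      intro v hv
      show σ v = 0
      rw [← hlv v hv, hσ, show K₀.mkQ (lv v) = 0 from
        (Submodule.Quotient.mk_eq_zero _).2 (Submodule.subset_span ⟨v, hv, rfl⟩), tmul_zero])).comp
      (π.quotKerEquivOfSurjective hπ).symm.toLinearMap
  have hθ : ∀ v, θ (π v) = σ v := fun v => by
    simp only [θ, LinearMap.comp_apply, LinearEquiv.coe_coe]
    rw [show (π.quotKerEquivOfSurjective hπ).symm (π v) = Submodule.Quotient.mk v from
      (LinearEquiv.symm_apply_eq _).2 (by simp)]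
    exact Submodule.liftQ_apply _ _ _
  refine ⟨R₀, inferInstance, (Fin a → B₀) ⧸ K₀, inferInstance, inferInstance, inferInstance,
    ⟨LinearEquiv.ofLinearMap (ψ.liftBaseChange B) θ ?_ ?_⟩⟩
  · refine LinearMap.ext fun m => ?_
    obtain ⟨v, rfl⟩ := hπ m
    rw [LinearMap.comp_apply, hθ, LinearMap.id_apply]
    refine LinearMap.congr_fun (f := (ψ.liftBaseChange B).comp σ) (g := π) ?_ v
    refine (Pi.basisFun B (Fin a)).ext fun i => ?_
    rw [LinearMap.comp_apply, Module.Basis.constr_basis, LinearMap.liftBaseChange_tmul, one_smul]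
    show π (ι (Pi.single i 1)) = π (Pi.basisFun B (Fin a) i)
    rw [Pi.basisFun_apply]
    refine congrArg π (funext fun j => ?_)
    rcases eq_or_ne j i with rfl | hji
    · simp [ι]
    · simp [ι, Pi.single_eq_of_ne hji]
  · refine TensorProduct.AlgebraTensorModule.ext fun b x => ?_
    obtain ⟨w, rfl⟩ := Submodule.mkQ_surjective _ x
    simp only [LinearMap.comp_apply, LinearMap.id_apply]
    show θ (b • ψ (K₀.mkQ w)) = _
    rw [map_smul]
    show b • θ (π (ι w)) = _
    rw [hθ, hσ, smul_tmul', smul_eq_mul, mul_one]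

/-- Constructibility of the loci of large rectified depth, over any base ring. -/
theorem isConstructible_rectGE (M : Type u) [AddCommGroup M] [Module (MvPolynomial (Fin N) R) M]
    [Module.FinitePresentation (MvPolynomial (Fin N) R) M] (n : ℕ) :
    IsConstructible {q : PrimeSpectrum (MvPolynomial (Fin N) R) | Codepth5.RectGE R M n q} := by
  obtain ⟨R₀, _, M₀, _, _, _, ⟨e⟩⟩ := exists_descent (R := R) (N := N) M
  have hset : {q : PrimeSpectrum (MvPolynomial (Fin N) R) | Codepth5.RectGE R M n q} =
      PrimeSpectrum.comap (algebraMap (MvPolynomial (Fin N) R₀) (MvPolynomial (Fin N) R)) ⁻¹'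
        {q | Codepth5.RectGE R₀ M₀ n q} := by
    ext q
    exact (rectGE_congr e n q).symm.trans (rectGE_baseChange M₀ n q)
  rw [hset]
  refine (isConstructible_rectGE_noetherian M₀ n).preimage (PrimeSpectrum.continuous_comap _) fun t ht ht' => ?_
  obtain ⟨I, hI, rfl⟩ := PrimeSpectrum.isCompact_isOpen_iff_ideal.1
    ⟨(QuasiSeparatedSpace.isRetrocompact_iff_isCompact ht).1 ht', ht⟩
  rw [Set.preimage_compl, PrimeSpectrum.preimage_comap_zeroLocus, ← PrimeSpectrum.zeroLocus_span]
  exact PrimeSpectrum.isRetrocompact_zeroLocus_compl_of_fg (hI.map _)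

end Groth.Agent.Ega43Prop
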