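import Groth.Agent.Codepth5.SkPoly
import Groth.Agent.FlatLoc6.Depth
import Groth.Agent.FlatLoc6.FiberRing

/-!
# The rectified depth of the fibres does not depend on the base field
-/

set_option autoImplicit false
set_option linter.style.haveILetI false
set_option backward.isDefEq.respectTransparency false
set_option backward.isDefEq.respectTransparency.types false

universe u

open IsLocalRing TensorProduct MvPolynomial

attribute [local instance] MvPolynomial.algebraMvPolynomial

namespace Groth.Agent.Ega43Prop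

open Codepth5 (dd)

theorem depth_eq_top_of_subsingleton (A : Type u) [CommRing A] [IsLocalRing A] (M : Type u) [AddCommGroup M]
    [Module A M] [Subsingleton M] : LocCoh.depth A M = ⊤ := by
  rw [LocCoh.depth, LocCoh.idealDepth, if_pos (Subsingleton.elim _ _)]

theorem depth_self_of_regular (A : Type u) [CommRing A] [IsRegularLocalRing A] {d : ℕ} (hd : ringKrullDim A = d) :
    LocCoh.depth A A = d := by
  haveI := LC.gorenstein_of_isRegularLocalRing (R := A)
  haveI := LC.isCohenMacaulayLocalRing_of_gorenstein (R := A)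
  have := LocCoh.IsCohenMacaulayLocalRing.supportDim_eq_depth (R := A)
  rw [Module.supportDim_self_eq_ringKrullDim, hd] at this
  exact_mod_cast this.symm

variable {A B : Type u} [CommRing A] [CommRing B] [Algebra A B]

/-- A flat local map of regular local rings shifts the depth by the difference of dimensions. -/
theorem depth_baseChange_regular [IsRegularLocalRing A] [IsRegularLocalRing B] [Module.Flat A B]
    [IsLocalHom (algebraMap A B)] (M : Type u) [AddCommGroup M] [Module A M] [Module.Finite A M] {d e : ℕ}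
    (hd : ringKrullDim A = d) (he : ringKrullDim B = e) :
    LocCoh.depth B (B ⊗[A] M) + d = LocCoh.depth A M + e := by
  rcases subsingleton_or_nontrivial M with hM | hM
  · haveI : Subsingleton (B ⊗[A] M) := inferInstance
    rw [depth_eq_top_of_subsingleton, depth_eq_top_of_subsingleton, top_add, top_add]
  · have h1 := FlatLoc6.depth_tensor (A := A) (B := B) (N := B) M
    have h2 := FlatLoc6.depth_tensor (A := A) (B := B) (N := B) A
    rw [Hensel.depth_congr (TensorProduct.AlgebraTensorModule.rid A B B), depth_self_of_regular B he,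
      depth_self_of_regular A hd] at h2
    rw [h1, h2]
    ac_rfl

/-- The local ring of a fibre maps flatly to a local ring of a ring flat over the fibre. -/
theorem exists_flat_fibLoc {R B D : Type u} [CommRing R] [CommRing B] [CommRing D] [Algebra R B] [Algebra B D]
    (Q : Ideal D) [Q.IsPrime] (p : Ideal R) (hp : (Q.comap (algebraMap B D)).comap (algebraMap R B) = p)
    (I : Ideal B) (hI : I = p.map (algebraMap R B)) (hle : ∀ a ∈ I, algebraMap B D a = 0)
    (hflat : (Ideal.Quotient.lift I (algebraMap B D) hle).Flat) :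
    ∃ (_ : Algebra (EGA4.FibLocRing R B (Q.comap (algebraMap B D))) (Localization.AtPrime Q))
      (_ : IsScalarTower B (EGA4.FibLocRing R B (Q.comap (algebraMap B D))) (Localization.AtPrime Q))
      (_ : IsLocalHom (algebraMap (EGA4.FibLocRing R B (Q.comap (algebraMap B D))) (Localization.AtPrime Q))),
        Module.Flat (EGA4.FibLocRing R B (Q.comap (algebraMap B D))) (Localization.AtPrime Q) := by
  let L := Localization.AtPrime Q
  let q : Ideal B := Q.comap (algebraMap B D)
  letI : Algebra (B ⧸ I) L :=
    ((algebraMap D L).comp (Ideal.Quotient.lift I (algebraMap B D) hle)).toAlgebra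
  haveI : Module.Flat (B ⧸ I) L :=
    RingHom.Flat.comp hflat (RingHom.flat_algebraMap_iff.2 (IsLocalization.flat L Q.primeCompl))
  haveI : IsScalarTower B (B ⧸ I) L := IsScalarTower.of_algebraMap_eq fun x => by
    rw [IsScalarTower.algebraMap_apply B D L]
    rfl
  let Lq := Localization.AtPrime q
  let J : Ideal Lq := (q.comap (algebraMap R B)).map (algebraMap R Lq)
  have hJ : J = I.map (algebraMap B Lq) := by
    rw [hI, Ideal.map_map, ← IsScalarTower.algebraMap_eq, ← hp]
  let O := EGA4.FibLocRing R B q
  let ψ : Lq →+* L := IsLocalization.lift (M := q.primeCompl) (g := algebraMap B L) fun y => by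
    rw [IsScalarTower.algebraMap_apply B D L]
    exact IsLocalization.map_units L (⟨algebraMap B D y, y.2⟩ : Q.primeCompl)
  have hψ : ∀ j ∈ J, ψ j = 0 := fun j hj => by
    refine RingHom.mem_ker.1 ((hJ.le.trans (Ideal.map_le_iff_le_comap.2 fun a ha => ?_)) hj)
    show ψ (algebraMap B Lq a) = 0
    rw [IsLocalization.lift_eq, IsScalarTower.algebraMap_apply B D L, hle a ha, map_zero]
  letI : Algebra O L := (Ideal.Quotient.lift J ψ hψ).toAlgebra
  haveI : IsScalarTower B O L := ⟨fun b o l => by
    obtain ⟨o, rfl⟩ := Ideal.Quotient.mk_surjective o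
    show ψ (b • o) * l = b • (ψ o * l)
    rw [Algebra.smul_def b o, map_mul, IsLocalization.lift_eq, Algebra.smul_def, mul_assoc]⟩
  haveI : IsLocalHom (algebraMap O L) := ⟨fun o ho => by
    obtain ⟨z, rfl⟩ := Ideal.Quotient.mk_surjective o
    obtain ⟨⟨a, s⟩, hz⟩ := IsLocalization.surj q.primeCompl z
    have ho' : IsUnit (ψ z) := ho
    have h2 : ψ (algebraMap B Lq a) = algebraMap B L a := IsLocalization.lift_eq _ _
    have ha : a ∈ q.primeCompl := fun haq => by
      have hu : IsUnit (ψ (z * algebraMap B Lq s)) := by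
        rw [map_mul]
        exact ho'.mul ((IsLocalization.map_units Lq s).map ψ)
      rw [hz, h2, IsScalarTower.algebraMap_apply B D L] at hu
      exact (IsLocalization.AtPrime.isUnit_to_map_iff L Q _).1 hu haq
    have hzu : IsUnit z := by
      have : IsUnit (z * algebraMap B Lq s) := hz ▸ IsLocalization.map_units Lq (⟨a, ha⟩ : q.primeCompl)
      exact isUnit_of_mul_isUnit_left this
    exact hzu.map _⟩
  letI : Algebra (B ⧸ I) O :=
    (Ideal.quotientMap J (algebraMap B Lq) (hJ ▸ Ideal.le_comap_map)).toAlgebra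
  haveI : IsLocalization (Algebra.algebraMapSubmonoid (B ⧸ I) q.primeCompl) O := by
    haveI : IsLocalization (Algebra.algebraMapSubmonoid (B ⧸ I) q.primeCompl) (Lq ⧸ I.map (algebraMap B Lq)) :=
      inferInstance
    refine IsLocalization.isLocalization_of_algEquiv _ (?_ : (Lq ⧸ I.map (algebraMap B Lq)) ≃ₐ[B ⧸ I] O)
    exact AlgEquiv.ofRingEquiv (f := Ideal.quotEquivOfEq hJ.symm) fun x => by
      obtain ⟨x, rfl⟩ := Ideal.Quotient.mk_surjective x
      rfl
  haveI : IsScalarTower (B ⧸ I) O L := IsScalarTower.of_algebraMap_eq fun x => by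
    obtain ⟨x, rfl⟩ := Ideal.Quotient.mk_surjective x
    exact (IsScalarTower.algebraMap_apply B (B ⧸ I) L x).symm.trans (IsScalarTower.algebraMap_apply B O L x)
  haveI : Module.Flat O L :=
    (Module.flat_iff_of_isLocalization O (Algebra.algebraMapSubmonoid (B ⧸ I) q.primeCompl) (M := L)).2 ‹_›
  exact ⟨inferInstance, inferInstance, inferInstance, inferInstance⟩

/-- Depth along the map of the local ring of a fibre, when both rings are regular. -/
theorem depth_fibLoc_key {R B D : Type u} [CommRing R] [CommRing B] [CommRing D] [Algebra R B] [Algebra B D]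
    (Q : Ideal D) [Q.IsPrime] (p : Ideal R) (hp : (Q.comap (algebraMap B D)).comap (algebraMap R B) = p)
    (I : Ideal B) (hI : I = p.map (algebraMap R B)) (hle : ∀ a ∈ I, algebraMap B D a = 0)
    (hflat : (Ideal.Quotient.lift I (algebraMap B D) hle).Flat)
    (q : PrimeSpectrum B) (hq : q.asIdeal = Q.comap (algebraMap B D))
    [hO : IsRegularLocalRing (EGA4.FibLocRing R B q.asIdeal)] [hL : IsRegularLocalRing (Localization.AtPrime Q)]
    (M : Type u) [AddCommGroup M] [Module B M] [Module.Finite B M] {d m : ℕ}
    (hd : ringKrullDim (EGA4.FibLocRing R B q.asIdeal) = d) (hm : ringKrullDim (Localization.AtPrime Q) = m) :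
    LocCoh.depth (Localization.AtPrime Q) (Localization.AtPrime Q ⊗[B] M) + d =
      LocCoh.depth (EGA4.FibLocRing R B q.asIdeal) (EGA4.FibLocRing R B q.asIdeal ⊗[B] M) + m := by
  obtain ⟨qi, hqi⟩ := q
  obtain rfl : qi = Q.comap (algebraMap B D) := hq
  obtain ⟨_, _, _, _⟩ := exists_flat_fibLoc Q p hp I hI hle hflat
  haveI : Module.Finite (EGA4.FibLocRing R B (Q.comap (algebraMap B D)))
      (EGA4.FibLocRing R B (Q.comap (algebraMap B D)) ⊗[B] M) := Module.Finite.base_change B _ M
  have key := depth_baseChange_regular (B := Localization.AtPrime Q)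
    (EGA4.FibLocRing R B (Q.comap (algebraMap B D)) ⊗[B] M) hd hm
  rwa [Hensel.depth_congr (AlgebraTensorModule.cancelBaseChange B _ (Localization.AtPrime Q) (Localization.AtPrime Q) M)] at key

theorem depth_cancel (B B' L : Type u) [CommRing B] [CommRing B'] [CommRing L] [IsLocalRing L] [Algebra B B']
    [Algebra B' L] [Algebra B L] [IsScalarTower B B' L] (M : Type u) [AddCommGroup M] [Module B M] [IsNoetherianRing L]
    [Module.Finite B M] : LocCoh.depth L (L ⊗[B'] (B' ⊗[B] M)) = LocCoh.depth L (L ⊗[B] M) :=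
  Hensel.depth_congr (AlgebraTensorModule.cancelBaseChange B B' L L M)

section Polynomial

variable {R K : Type u} [CommRing R] [Field K] {N : ℕ}

set_option maxHeartbeats 400000 in
/-- The map of polynomial rings modulo the kernel is flat. -/
theorem flat_lift_map [Algebra R K] (p : Ideal R) [p.IsPrime] (hp : RingHom.ker (algebraMap R K) = p)
    (h : ∀ a ∈ p.map (C : R →+* MvPolynomial (Fin N) R), MvPolynomial.map (algebraMap R K) a = 0) :
    (Ideal.Quotient.lift _ (MvPolynomial.map (algebraMap R K) (σ := Fin N)) h).Flat := by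
  have hle : ∀ a ∈ p, algebraMap R K a = 0 := fun a ha => RingHom.mem_ker.1 (hp ▸ ha)
  let φ : R ⧸ p →+* K := Ideal.Quotient.lift p (algebraMap R K) hle
  have hφi : Function.Injective φ := (injective_iff_map_eq_zero _).2 fun a ha => by
    obtain ⟨a, rfl⟩ := Ideal.Quotient.mk_surjective a
    exact Ideal.Quotient.eq_zero_iff_mem.2 (hp ▸ RingHom.mem_ker.2 ha)
  letI := φ.toAlgebra
  haveI : IsScalarTower R (R ⧸ p) K := IsScalarTower.of_algebraMap_eq fun _ => rfl
  haveI : Module.Flat (R ⧸ p) K := by
    haveI : FaithfulSMul (R ⧸ p) K := (faithfulSMul_iff_algebraMap_injective _ _).2 hφi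
    letI := FractionRing.liftAlgebra (R ⧸ p) K
    exact Module.Flat.trans (R ⧸ p) (FractionRing (R ⧸ p)) K
  have hflat : (MvPolynomial.map φ : MvPolynomial (Fin N) (R ⧸ p) →+* MvPolynomial (Fin N) K).Flat := by
    show Module.Flat (MvPolynomial (Fin N) (R ⧸ p)) (MvPolynomial (Fin N) K)
    exact Module.Flat.isBaseChange (R ⧸ p) (MvPolynomial (Fin N) (R ⧸ p)) K (MvPolynomial (Fin N) K)
      (Algebra.IsPushout.out (R := R ⧸ p) (S := MvPolynomial (Fin N) (R ⧸ p)) (R' := K))
  let e := MvPolynomial.quotientEquivQuotientMvPolynomial (σ := Fin N) p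
  have hcomp : Ideal.Quotient.lift _ (MvPolynomial.map (algebraMap R K) (σ := Fin N)) h =
      (MvPolynomial.map φ).comp e.symm.toRingEquiv.toRingHom := by
    refine Ideal.Quotient.ringHom_ext (RingHom.ext fun a => ?_)
    simp only [RingHom.comp_apply, Ideal.Quotient.lift_mk]
    induction a using MvPolynomial.induction_on with
    | C r =>
      rw [MvPolynomial.map_C]
      show C (algebraMap R K r) = MvPolynomial.map φ (e.symm (Ideal.Quotient.mk _ (C r)))
      rw [show e.symm (Ideal.Quotient.mk _ (C r)) = C (Ideal.Quotient.mk p r) from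
          MvPolynomial.eval₂Hom_C (C.comp (Ideal.Quotient.mk p)) X r,
        MvPolynomial.map_C]
      rfl
    | add a b ha hb => simp only [map_add, ha, hb]
    | mul_X a i ha =>
      rw [map_mul, map_mul, map_mul, map_mul, ha, MvPolynomial.map_X]
      congr 1
      show X i = MvPolynomial.map φ (e.symm (Ideal.Quotient.mk _ (X i)))
      rw [show e.symm (Ideal.Quotient.mk _ (X i)) = X i from
        MvPolynomial.eval₂Hom_X' (C.comp (Ideal.Quotient.mk p)) X i, MvPolynomial.map_X]
  rw [hcomp]
  exact RingHom.Flat.comp (RingHom.Flat.of_bijective e.symm.bijective) hflat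

set_option maxHeartbeats 800000 in
/-- The rectified depth of the fibre, computed over any field point above it. -/
theorem rectGE_iff_point [Algebra R K] (M : Type u) [AddCommGroup M] [Module (MvPolynomial (Fin N) R) M]
    [Module.Finite (MvPolynomial (Fin N) R) M] (Q : PrimeSpectrum (MvPolynomial (Fin N) K)) (n m : ℕ)
    (hm : ringKrullDim (Localization.AtPrime Q.asIdeal) = m) :
    Codepth5.RectGE R M n (PrimeSpectrum.comap (algebraMap (MvPolynomial (Fin N) R) (MvPolynomial (Fin N) K)) Q) ↔
      (n : ℕ∞) + m ≤ LocCoh.depth (Localization.AtPrime Q.asIdeal)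
        (Localization.AtPrime Q.asIdeal ⊗[MvPolynomial (Fin N) R] M) + N := by
  let B := MvPolynomial (Fin N) R
  let D := MvPolynomial (Fin N) K
  let L := Localization.AtPrime Q.asIdeal
  let q : PrimeSpectrum B := PrimeSpectrum.comap (algebraMap B D) Q
  let p : Ideal R := q.asIdeal.comap (algebraMap R B)
  have hBD : ∀ x : B, algebraMap B D x = MvPolynomial.map (algebraMap R K) x := fun _ => rfl
  have hp : RingHom.ker (algebraMap R K) = p := by
    ext r
    show algebraMap R K r = 0 ↔ MvPolynomial.map (algebraMap R K) (C r) ∈ Q.asIdeal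
    rw [MvPolynomial.map_C]
    refine ⟨fun h => by rw [h, map_zero]; exact zero_mem _, fun h => by_contra fun hne => ?_⟩
    exact Q.2.ne_top (Ideal.eq_top_of_isUnit_mem _ h ((isUnit_iff_ne_zero.2 hne).map C))
  have hle : ∀ a ∈ p.map (C : R →+* B), MvPolynomial.map (algebraMap R K) a = 0 := fun a ha => by
    refine RingHom.mem_ker.1 ((Ideal.map_le_iff_le_comap.2 fun r hr => ?_) ha)
    show MvPolynomial.map (algebraMap R K) (C r) = 0
    rw [MvPolynomial.map_C, RingHom.mem_ker.1 (hp.symm ▸ hr : r ∈ RingHom.ker (algebraMap R K)), map_zero]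
  let O := EGA4.FibLocRing R B q.asIdeal
  haveI hO : IsRegularLocalRing O := Codepth5.isRegularLocalRing_fibLocRing q
  haveI : IsRegularLocalRing L := IsRegularRing.isRegularLocalRing_localization Q.asIdeal
  obtain ⟨d, hdN, hd, hh⟩ := Codepth5.exists_dim_fibLocRing q
  have key := depth_fibLoc_key (D := D) Q.asIdeal p rfl (p.map (C : R →+* B)) rfl hle (flat_lift_map p hp hle)
    q rfl M hd hm
  haveI := FlatLoc6.isLocalRing_fibLocRing (A := R) q.asIdeal
  rw [Codepth5.RectGE, Codepth5.dd_fibLocRing]
  dsimp only [dd]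
  have hc := Codepth5.height_add_coheight_fib _ (⟨q, rfl⟩ : ↥(FibDim.fib (B := B) (PrimeSpectrum.comap (algebraMap R B) q)))
  rw [hh] at hc
  change (n : ℕ∞) ≤ LocCoh.depth O (O ⊗[B] M) + Order.coheight (⟨q, rfl⟩ : ↥(FibDim.fib (B := B)
    (PrimeSpectrum.comap (algebraMap R B) q))) ↔ _
  generalize Order.coheight (⟨q, rfl⟩ : ↥(FibDim.fib (B := B) (PrimeSpectrum.comap (algebraMap R B) q))) = c at hc ⊢
  generalize LocCoh.depth L (L ⊗[B] M) = a at key ⊢
  generalize LocCoh.depth O (O ⊗[B] M) = b at key ⊢
  induction c using ENat.recTopCoe with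
  | top => simp at hc
  | coe c =>
    induction b using ENat.recTopCoe with
    | top =>
      induction a using ENat.recTopCoe with
      | top => simp
      | coe a => simp at key
    | coe b =>
      induction a using ENat.recTopCoe with
      | top =>
        rw [top_add, ← Nat.cast_add] at key
        exact absurd key.symm (ENat.coe_ne_top _)
      | coe a =>
        have hc' : d + c = N := by exact_mod_cast hc
        have key' : a + d = b + m := by exact_mod_cast key
        norm_cast
        omega

set_option maxHeartbeats 400000 in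
/-- Invariance of the rectified depth of the fibres under base change. -/
theorem rectGE_baseChange {R' : Type u} [CommRing R'] [Algebra R R'] (M : Type u) [AddCommGroup M]
    [Module (MvPolynomial (Fin N) R) M] [Module.Finite (MvPolynomial (Fin N) R) M] (n : ℕ)
    (q' : PrimeSpectrum (MvPolynomial (Fin N) R')) :
    Codepth5.RectGE R' (MvPolynomial (Fin N) R' ⊗[MvPolynomial (Fin N) R] M) n q' ↔
      Codepth5.RectGE R M n (PrimeSpectrum.comap (algebraMap (MvPolynomial (Fin N) R) (MvPolynomial (Fin N) R')) q') := by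
  let p' : Ideal R' := q'.asIdeal.comap (algebraMap R' (MvPolynomial (Fin N) R'))
  let K := p'.ResidueField
  obtain ⟨P, hP⟩ := FlatLoc6.exists_fiber_prime p' q'.asIdeal rfl
  let Q : PrimeSpectrum (MvPolynomial (Fin N) K) :=
    PrimeSpectrum.comap (R := MvPolynomial (Fin N) K)
      ((MvPolynomial.algebraTensorAlgEquiv (σ := Fin N) R' K).symm).toRingEquiv.toRingHom P
  have hQ : PrimeSpectrum.comap (algebraMap (MvPolynomial (Fin N) R') (MvPolynomial (Fin N) K)) Q = q' := by
    refine PrimeSpectrum.ext (Eq.trans ?_ hP)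
    show Ideal.comap _ (Ideal.comap _ P.asIdeal) = _
    rw [Ideal.comap_comap]
    refine congrArg (fun h => Ideal.comap h P.asIdeal) (RingHom.ext fun x => ?_)
    show (MvPolynomial.algebraTensorAlgEquiv R' K).symm (MvPolynomial.map (algebraMap R' K) x) = (1 : K) ⊗ₜ x
    refine (AlgEquiv.symm_apply_eq _).2 ?_
    simp [MvPolynomial.algebraTensorAlgEquiv_tmul]
  letI : Algebra R K := ((algebraMap R' K).comp (algebraMap R R')).toAlgebra
  haveI : IsScalarTower R R' K := IsScalarTower.of_algebraMap_eq' rfl
  haveI : IsScalarTower (MvPolynomial (Fin N) R) (MvPolynomial (Fin N) R') (MvPolynomial (Fin N) K) :=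
    IsScalarTower.of_algebraMap_eq fun x => (MvPolynomial.map_map _ _ x).symm
  obtain ⟨m, hm⟩ : ∃ m : ℕ, ringKrullDim (Localization.AtPrime Q.asIdeal) = m := by
    rw [IsLocalization.AtPrime.ringKrullDim_eq_height Q.asIdeal]
    obtain ⟨m, hm⟩ := ENat.ne_top_iff_exists.1 (Ideal.height_ne_top (I := Q.asIdeal) Q.2.ne_top)
    exact ⟨m, by rw [← hm]; rfl⟩
  haveI : Module.Finite (MvPolynomial (Fin N) R') (MvPolynomial (Fin N) R' ⊗[MvPolynomial (Fin N) R] M) :=
    Module.Finite.base_change _ _ M
  have h1 := rectGE_iff_point (R := R') (MvPolynomial (Fin N) R' ⊗[MvPolynomial (Fin N) R] M) Q n m hm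
  have h2 := rectGE_iff_point (R := R) M Q n m hm
  rw [depth_cancel (MvPolynomial (Fin N) R) (MvPolynomial (Fin N) R') (Localization.AtPrime Q.asIdeal) M, hQ] at h1
  have hc : PrimeSpectrum.comap (algebraMap (MvPolynomial (Fin N) R) (MvPolynomial (Fin N) K)) Q =
      PrimeSpectrum.comap (algebraMap (MvPolynomial (Fin N) R) (MvPolynomial (Fin N) R')) q' := by
    refine Eq.trans ?_ (congrArg (PrimeSpectrum.comap (algebraMap (MvPolynomial (Fin N) R) (MvPolynomial (Fin N) R'))) hQ)
    rw [IsScalarTower.algebraMap_eq (MvPolynomial (Fin N) R) (MvPolynomial (Fin N) R') (MvPolynomial (Fin N) K),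
      PrimeSpectrum.comap_comp_apply]
  rw [hc] at h2
  exact h1.trans h2.symm

end Polynomial

end Groth.Agent.Ega43Prop
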