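import Groth.Agent.Ega43Prop.RectConstr
import Groth.Prelude.Def_CInt

/-!
# Local constructibility of the level sets of the rectified depth of the fibres
-/

set_option autoImplicit false
set_option linter.style.haveILetI false
set_option backward.isDefEq.respectTransparency false
set_option backward.isDefEq.respectTransparency.types false

universe u

open AlgebraicGeometry CategoryTheory IsLocalRing TensorProduct Topology

namespace Groth.Agent.Ega43Prop

theorem isConstructible_preimage_comap {A B : Type u} [CommRing A] [CommRing B] (φ : A →+* B)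
    {s : Set (PrimeSpectrum A)} (hs : IsConstructible s) : IsConstructible (PrimeSpectrum.comap φ ⁻¹' s) := by
  refine hs.preimage (PrimeSpectrum.continuous_comap _) fun t ht ht' => ?_
  obtain ⟨I, hI, rfl⟩ := PrimeSpectrum.isCompact_isOpen_iff_ideal.1
    ⟨(QuasiSeparatedSpace.isRetrocompact_iff_isCompact ht).1 ht', ht⟩
  rw [Set.preimage_compl, PrimeSpectrum.preimage_comap_zeroLocus, ← PrimeSpectrum.zeroLocus_span]
  exact PrimeSpectrum.isRetrocompact_zeroLocus_compl_of_fg (hI.map _)

section Affine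

variable {A B : Type u} [CommRing A] [CommRing B] [Algebra A B]

/-- The rectified depth at `q` in its fibre. -/
noncomputable def rectVal (A : Type u) {B : Type u} [CommRing A] [CommRing B] [Algebra A B] (M : Type u)
    [AddCommGroup M] [Module B M] (q : PrimeSpectrum B) : ℕ∞ :=
  (Codepth5.dd (Localization.AtPrime q.asIdeal) (EGA4.FibLocMod A B q.asIdeal M)).2 +
    Order.coheight (⟨q, rfl⟩ : ↥(FibDim.fib (B := B) (PrimeSpectrum.comap (algebraMap A B) q)))

theorem rectVal_eq_top_of_le {N : ℕ} (M : Type u) [AddCommGroup M] [Module (MvPolynomial (Fin N) A) M]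
    [Module.Finite (MvPolynomial (Fin N) A) M] (q : PrimeSpectrum (MvPolynomial (Fin N) A))
    (h : ((N + 1 : ℕ) : ℕ∞) ≤ rectVal A M q) : rectVal A M q = ⊤ := by
  rw [rectVal] at h ⊢
  rcases Codepth5.exists_invariants M q with ⟨hns, hdd, -⟩ | ⟨d, D, a, haD, hDd, hdN, hs, hdd, hh, hW, -⟩
  · rw [hdd, top_add]
  · exfalso
    have hc := Codepth5.height_add_coheight_fib _ (⟨q, rfl⟩ : ↥(FibDim.fib (B := MvPolynomial (Fin N) A)
      (PrimeSpectrum.comap (algebraMap A (MvPolynomial (Fin N) A)) q)))
    rw [hh] at hc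
    rw [hdd] at h
    dsimp only at h
    generalize Order.coheight (⟨q, rfl⟩ : ↥(FibDim.fib (B := MvPolynomial (Fin N) A)
      (PrimeSpectrum.comap (algebraMap A (MvPolynomial (Fin N) A)) q))) = c at hc h
    induction c using ENat.recTopCoe with
    | top => simp at hc
    | coe c =>
      have hc' : d + c = N := by exact_mod_cast hc
      have h' : N + 1 ≤ a + c := by exact_mod_cast h
      omega

variable [Algebra.FinitePresentation A B] (M : Type u) [AddCommGroup M] [Module B M] [Module.FinitePresentation B M]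

/-- The level sets of the rectified depth on an affine chart are constructible. -/
theorem isConstructible_rectVal_eq (n : ℕ∞) : IsConstructible {q : PrimeSpectrum B | rectVal A M q = n} := by
  letI : Module A M := Module.compHom M (algebraMap A B)
  haveI : IsScalarTower A B M := IsScalarTower.of_algebraMap_smul fun _ _ => rfl
  obtain ⟨N, f, hf, hker⟩ := Algebra.FinitePresentation.out (R := A) (A := B)
  letI : Algebra (MvPolynomial (Fin N) A) B := f.toRingHom.toAlgebra
  haveI h1 : IsScalarTower A (MvPolynomial (Fin N) A) B :=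
    IsScalarTower.of_algebraMap_eq fun a => (f.commutes a).symm
  letI iM : Module (MvPolynomial (Fin N) A) M := Module.compHom M f.toRingHom
  haveI h2 : IsScalarTower (MvPolynomial (Fin N) A) B M := IsScalarTower.of_algebraMap_smul fun _ _ => rfl
  haveI : Module.FinitePresentation (MvPolynomial (Fin N) A) B :=
    Module.finitePresentation_of_surjective (Algebra.linearMap (MvPolynomial (Fin N) A) B) hf (by
      rwa [show LinearMap.ker (Algebra.linearMap (MvPolynomial (Fin N) A) B) = RingHom.ker f.toRingHom from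
        Submodule.ext fun _ => Iff.rfl])
  haveI : Module.FinitePresentation (MvPolynomial (Fin N) A) M :=
    Module.FinitePresentation.trans (MvPolynomial (Fin N) A) M B
  have htr : ∀ q : PrimeSpectrum B,
      rectVal A M (PrimeSpectrum.comap (algebraMap (MvPolynomial (Fin N) A) B) q) = rectVal A M q := fun q => by
    rw [rectVal, rectVal, Codepth5.transfer hf q,
      show Codepth5.dd (Localization.AtPrime (PrimeSpectrum.comap (algebraMap (MvPolynomial (Fin N) A) B) q).asIdeal)
        (EGA4.FibLocMod A (MvPolynomial (Fin N) A) (PrimeSpectrum.comap (algebraMap (MvPolynomial (Fin N) A) B) q).asIdeal M) =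
        Codepth5.dd (Localization.AtPrime q.asIdeal) (EGA4.FibLocMod A B q.asIdeal M) from Codepth5.dd_surjective hf M q]
  have hset : {q : PrimeSpectrum B | rectVal A M q = n} =
      PrimeSpectrum.comap (algebraMap (MvPolynomial (Fin N) A) B) ⁻¹' {q | rectVal A M q = n} := by
    ext q
    exact ⟨fun h => (htr q).trans h, fun h => (htr q).symm.trans h⟩
  rw [hset]
  refine isConstructible_preimage_comap _ ?_
  induction n using ENat.recTopCoe with
  | top =>
    have hc := isConstructible_rectGE (R := A) (N := N) M (N + 1)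
    convert hc using 1
    ext q
    exact ⟨fun h => show ((N + 1 : ℕ) : ℕ∞) ≤ rectVal A M q from h.symm ▸ le_top, rectVal_eq_top_of_le M q⟩
  | coe n =>
    have hc := (isConstructible_rectGE (R := A) (N := N) M n).sdiff (isConstructible_rectGE (R := A) (N := N) M (n + 1))
    convert hc using 1
    ext q
    show rectVal A M q = n ↔ (n : ℕ∞) ≤ rectVal A M q ∧ ¬ ((n + 1 : ℕ) : ℕ∞) ≤ rectVal A M q
    rw [Nat.cast_succ, ENat.add_one_le_iff (ENat.natCast_ne_top n), not_lt]
    exact ⟨fun h => ⟨h.ge, h.le⟩, fun h => le_antisymm h.2 h.1⟩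

end Affine

variable {X Y : Scheme.{u}} (f : X ⟶ Y)

theorem rect_eq_rectVal [LocallyOfFinitePresentation f] (F : X.Modules) (hM : Coh.IsQCoh F) {U : X.Opens} (hU : IsAffineOpen U)
    {V : Y.Opens} (hV : IsAffineOpen V) (hUV : U ≤ f ⁻¹ᵁ V) (z : X) (hz : z ∈ U) :
    ((CInt.fiberDepth f F z : ℕ∞) : WithBot ℕ∞) +
      topologicalKrullDim ↥(closure ({f.asFiber z} : Set ↥(f.fiber (f.base z)))) =
    (letI := (f.appLE V U hUV).hom.toAlgebra
     ((rectVal Γ(Y, V) Γ(F, U) (hU.primeIdealOf ⟨z, hz⟩) : ℕ∞) : WithBot ℕ∞)) := by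
  letI := (f.appLE V U hUV).hom.toAlgebra
  letI := QCoh.stalkModule F hz
  haveI := QCoh.isLocalizedModule_germLin hM hU hz
  have h := congrArg Prod.snd ((Codepth5.fibre_dd_eq f F z _ _ (f.fiberι_asFiber z)).trans
    (Codepth5.dd_chart_eq f hU hV hUV hz (fun _ _ => rfl) (QCoh.germLin F hz)))
  have hd : topologicalKrullDim ↥(closure ({f.asFiber z} : Set ↥(f.fiber (f.base z)))) =
      ((FibDim.rd f z : ℕ∞) : WithBot ℕ∞) :=
    VarDim.topologicalKrullDim_closure_singleton (k := Y.residueField (f z)) (f.fiberToSpecResidueField (f z))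
      (f.asFiber z)
  have hc := Codepth5.coheight_eq_rd f hU hV hUV (hU.primeIdealOf ⟨z, hz⟩)
  rw [hU.fromSpec_primeIdealOf ⟨z, hz⟩] at hc
  rw [hd, ← WithBot.coe_add, rectVal, hc]
  exact congrArg (fun a : ℕ∞ => ((a + _ : ℕ∞) : WithBot ℕ∞)) h

/-- The level sets of the rectified depth of the fibres are locally constructible. -/
theorem isLocallyConstructible_rect [LocallyOfFinitePresentation f] (F : X.Modules) [Coh.IsQCoh F]
    (hF : CohB1.IsFP F) (n : ℕ∞) :
    IsLocallyConstructible {x : X | ((CInt.fiberDepth f F x : ℕ∞) : WithBot ℕ∞) +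
      topologicalKrullDim ↥(closure ({f.asFiber x} : Set ↥(f.fiber (f.base x)))) = ((n : ℕ∞) : WithBot ℕ∞)} := by
  intro x
  obtain ⟨V, hV, hxV, -⟩ := exists_isAffineOpen_mem_and_subset (U := (⊤ : Y.Opens)) (x := f x) trivial
  obtain ⟨U, hU, hxU, hUV⟩ := exists_isAffineOpen_mem_and_subset (U := f ⁻¹ᵁ V) (x := x) hxV
  refine ⟨U, U.2.mem_nhds hxU, U.2, ?_⟩
  letI : Algebra Γ(Y, V) Γ(X, U) := (f.appLE V U hUV).hom.toAlgebra
  haveI : Algebra.FinitePresentation Γ(Y, V) Γ(X, U) := f.finitePresentation_appLE hV hU hUV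
  haveI := QCoh.finitePresentation_of_isFP hF hU
  let h : ↥U ≃ₜ PrimeSpectrum Γ(X, U) := Scheme.homeoOfIso hU.isoSpec
  suffices hs : (Subtype.val ⁻¹' {x : X | ((CInt.fiberDepth f F x : ℕ∞) : WithBot ℕ∞) +
      topologicalKrullDim ↥(closure ({f.asFiber x} : Set ↥(f.fiber (f.base x)))) = ((n : ℕ∞) : WithBot ℕ∞)} : Set ↥U) =
      h ⁻¹' {q | rectVal Γ(Y, V) Γ(F, U) q = n} by
    show IsConstructible (Subtype.val ⁻¹' _ : Set ↥U)
    rw [hs]
    exact (isConstructible_rectVal_eq (A := Γ(Y, V)) Γ(F, U) n).preimage_of_isOpenEmbedding h.isOpenEmbedding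
  ext z
  show _ = _ ↔ rectVal Γ(Y, V) Γ(F, U) (h z) = n
  rw [show h z = hU.primeIdealOf z from rfl]
  exact (Iff.of_eq (congrArg (fun a => a = ((n : ℕ∞) : WithBot ℕ∞))
    (rect_eq_rectVal f F inferInstance hU hV hUV z.1 z.2))).trans WithBot.coe_inj

end Groth.Agent.Ega43Prop
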